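import Cfsg.Agent.Lib.C7O.S
import Cfsg.Agent.Lib.Max.C7SL

/-!
# Orthogonal tensor powers: the framework
-/

namespace Cfsg.Lib.Forms.C7O

open Module Form TensorProduct Ten Qd TF C7 O4

section
variable {F U W V : Type*} [Field F] [AddCommGroup U] [Module F U] [AddCommGroup W] [Module F W]
  [AddCommGroup V] [Module F V]

/-- The group `Ω` as a group of linear automorphisms. -/
abbrev Om (D : Form (quadKind F) V) : Subgroup (V ≃ₗ[F] V) := D.E.map D.isom.subtype

theorem isom_of_B {D : Form (quadKind F) V} (h2 : (2 : F) ≠ 0) {g : V ≃ₗ[F] V} (H : ∀ x y, D.B (g x) (g y) = D.B x y) :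
    g ∈ D.isom := mem_isom_quad.2 fun x => mul_left_cancel₀ h2 (by rw [← quad_B_self, ← quad_B_self, H])

variable [Finite F] [FiniteDimensional F U] [FiniteDimensional F W] [FiniteDimensional F V]

theorem mem_Om {D : Form (quadKind F) V} (hD : D.Nondeg) (h2 : (2 : F) ≠ 0) (hn : 4 ≤ finrank F V) {g : D.isom} :
    g.1 ∈ Om D ↔ g ∈ commutator D.isom := by
  rw [hD.commutator_eq_E (good_of_two_ne_zero h2) hn]
  exact ⟨fun ⟨k, h1, h3⟩ => Subtype.ext h3 ▸ h1, fun h => ⟨g, h, rfl⟩⟩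

theorem mem_Om_congr {D : Form (quadKind F) V} (hD : D.Nondeg) (h2 : (2 : F) ≠ 0) (hn : 4 ≤ finrank F V) (Φ : U ≃ₗ[F] V)
    {g : U ≃ₗ[F] U} : g ∈ Om (D.comap Φ.toLinearMap) ↔ linAutCongr Φ g ∈ Om D := by
  have h1 : IsIsometry (D.comap Φ.toLinearMap) D Φ := isIsometry_comap D Φ.toLinearMap
  have hD' := (iso_comap D Φ).symm.nondeg hD
  have hn' := Φ.finrank_eq ▸ hn
  constructor
  · rintro ⟨g, hg, rfl⟩
    exact (mem_Om hD h2 hn (g := isomCongr Φ h1 g)).2 (map_mem_commutator (isomCongr Φ h1).toMonoidHom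
      ((mem_Om hD' h2 hn').1 ⟨g, hg, rfl⟩))
  · rintro ⟨k, hk, h3⟩
    obtain rfl : g = ((isomCongr Φ h1).symm k).1 := (linAutCongr Φ).injective (h3.symm.trans (by
      ext; simp [linAutCongr, isomCongr]))
    exact (mem_Om hD' h2 hn').2 (map_mem_commutator (isomCongr Φ h1).symm.toMonoidHom ((mem_Om hD h2 hn).1 ⟨k, hk, rfl⟩))

variable {β : Form (quadKind F) U} {ω : Form (quadKind F) W} {D : Form (quadKind F) (U ⊗[F] W)}
  {X G : Subgroup (U ⊗[F] W ≃ₗ[F] U ⊗[F] W)} (h : St β ω D X G) (h2 : (2 : F) ≠ 0)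
include h

omit [Finite F] [FiniteDimensional F U] [FiniteDimensional F W] in
/-- The right factor as a group of isometries. -/
noncomputable def rI : ω.isom →* D.isom := (rt U ω).codRestrict _ fun b => h.congr_isom 1 b

omit [Finite F] [FiniteDimensional F U] [FiniteDimensional F W] in
/-- The left factor as a group of isometries. -/
noncomputable def lI : β.isom →* D.isom := MonoidHom.mk' (fun a => ⟨_, h.congr_isom a 1⟩) fun a b => Subtype.ext (by
  simp only [Subgroup.coe_mul, OneMemClass.coe_one]; rw [← congr_mul, mul_one])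

include h2

theorem rI_refl (hU : Odd (finrank F U)) : ∃ c : ℤˣ, ∀ x, ω.Q x ≠ 0 →
    dickson h.nD (rI h (ω.refl x)) = -1 ∧ spinor h.nD (rI h (ω.refl x)) = c * chi (ω.Q x) := by
  classical
  obtain ⟨b, hb⟩ := β.exists_orth_basis h2 rfl
  have b1 := h.nβ.Q_ne_zero_of_orth b hb
  refine ⟨∏ i, chi (2 * β.Q (b i)), fun x hx => ?_⟩
  have q : ∀ i, D.Q (b i ⊗ₜ x) = 2 * β.Q (b i) * ω.Q x := fun i => mul_left_cancel₀ h2 (by
    rw [← quad_B_self, h.B, quad_B_self, quad_B_self]; ring)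
  obtain ⟨g, g1, g2, g3, g4⟩ := exists_prod_refl h.nD (b := fun i => b i ⊗ₜ[F] x)
    (fun i j hij => by simp [h.B, hb i j hij]) (fun i => by simp [q, h2, hx, b1]) Finset.univ
  have : rI h (ω.refl x) = g := Subtype.ext (LinearEquiv.toLinearMap_injective (TensorProduct.ext' fun u w => by
    change u ⊗ₜ (ω.refl x).1 w = g.1 (u ⊗ₜ w)
    have e1 : ∀ u, g.1 (u ⊗ₜ x) = -(u ⊗ₜ x) := fun u => by
      have : (g.1 : _ →ₗ[F] _) ∘ₗ cu U x = -cu U x := b.ext fun i => by simpa using g1 i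
      exact LinearMap.congr_fun this u
    have e2 := g2 (u ⊗ₜ (w - ((2 * ω.Q x)⁻¹ * ω.B x w) • x)) fun i _ => by
      simp only [h.B, ω.B_lin, quad_B_self]
      rw [mul_eq_zero]; right; field_simp; ring
    rw [tmul_sub, map_sub, tmul_smul, map_smul, e1, sub_eq_iff_eq_add] at e2
    rw [e2, refl_apply, tmul_sub, tmul_smul]
    match_scalars <;> field_simp <;> ring))
  rw [this, g3, g4]
  refine ⟨by simpa using hU.neg_one_pow, ?_⟩
  simp only [q, fun i => chi_mul (mul_ne_zero h2 (b1 i)) hx, Finset.prod_mul_distrib, Finset.prod_const,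
    Finset.card_univ, Fintype.card_fin]
  rw [Int.units_pow_eq_pow_mod_two, Nat.odd_iff.1 hU, pow_one]

theorem exists_rI (hU : Odd (finrank F U)) (hW : 2 ≤ finrank F W) (g : D.isom) :
    ∃ b, g * rI h b ∈ commutator D.isom := by
  obtain ⟨c, hc⟩ := rI_refl h h2 hU
  obtain ⟨ν, hν⟩ := FiniteField.exists_nonsquare (F := F) (fun h => h2 (ringChar_eq_two_iff.1 h))
  obtain ⟨x, hx⟩ := Quad.exists_Q_eq h.nω hW 1
  obtain ⟨y, hy⟩ := Quad.exists_Q_eq h.nω hW ν
  obtain ⟨x1, x2⟩ := hc x (by simp [hx])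
  obtain ⟨y1, y2⟩ := hc y (by rintro h; exact hν (hy ▸ h ▸ IsSquare.zero))
  rw [hx, chi_one] at x2
  rw [hy, chi_of_not_isSquare hν] at y2
  simp only [h.nD.mem_commutator_iff (good_of_two_ne_zero h2)]
  by_contra! H
  have h1 := H 1
  have h3 := H (ω.refl x)
  have h4 := H (ω.refl y)
  have h5 := H (ω.refl x * ω.refl y)
  simp only [map_mul, map_one, x1, x2, y1, y2] at h1 h3 h4 h5
  rcases Int.units_eq_one_or (dickson h.nD g) with a | a <;> rcases Int.units_eq_one_or (spinor h.nD g) with b | b <;>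
    rcases Int.units_eq_one_or c with rfl | rfl <;> simp [a, b] at h1 h3 h4 h5

end

variable {F W V : Type*} [Field F] [AddCommGroup W] [Module F W] [AddCommGroup V] [Module F V] {T : Type*}

/-- Permuting the tensor factors. -/
def Nz (ρ : T → End F W →ₐ[F] End F V) (g : V ≃ₗ[F] V) : Prop := ∀ i, ∃ j, ∀ a, ∃ b, cj g (ρ i a) = ρ j b

/-- Maximality of the stabiliser of the tensor decomposition. -/
def Core (ρ : T → End F W →ₐ[F] End F V) (D : Form (quadKind F) V) : Prop :=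
  ∀ X ≤ Om D, (∀ g ∈ Om D, Nz ρ g → g ∈ X) → Om D ≤ X ∨ ∀ g ∈ X, Nz ρ g

variable [Fintype T] [DecidableEq T] {π : (T → End F W) →* End F V} {ρ : T → End F W →ₐ[F] End F V}
  {ω : Form (quadKind F) W} {D : Form (quadKind F) V} {τ : (T → W) → V} {κ : F} (h : Pw π ρ ω D τ κ)
  [FiniteDimensional F W] [FiniteDimensional F V]
include h

theorem exists_two {i j : T} (hij : i ≠ j) (hT : ∀ k, k = i ∨ k = j) : ∃ Φ : W ⊗[F] W ≃ₗ[F] V,
    (∀ a x, Φ (LinearMap.rTensor W a x) = ρ i a (Φ x)) ∧ (∀ a x, Φ (LinearMap.lTensor W a x) = ρ j a (Φ x)) ∧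
    ∀ u w u' w', D.B (Φ (u ⊗ₜ w)) (Φ (u' ⊗ₜ w')) = κ * ω.B u u' * ω.B w w' := by
  have hu : (Finset.univ : Finset T) = {i, j} := by ext k; simpa using hT k
  have k : ∀ zs x y, D.B (τ zs) (τ (Function.update (fun _ => x) j y)) = κ * ω.B (zs i) x * ω.B (zs j) y := fun zs x y => by
    rw [h.B, hu, Finset.prod_pair hij]; simp [hij, mul_assoc]
  let L := TensorProduct.lift (LinearMap.mk₂ F (fun x y => τ (Function.update (fun _ => x) j y))
    (fun _ _ _ => h.ext fun zs => by simp [k]; ring) (fun _ _ _ => h.ext fun zs => by simp [k]; ring)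
    (fun _ _ _ => h.ext fun zs => by simp [k]; ring) fun _ _ _ => h.ext fun zs => by simp [k]; ring)
  have k1 : ∀ x y, L (x ⊗ₜ y) = τ (Function.update (fun _ => x) j y) := fun _ _ => rfl
  have k2 : ∀ u w u' w', D.B (L (u ⊗ₜ w)) (L (u' ⊗ₜ w')) = κ * ω.B u u' * ω.B w w' := fun u w u' w' => by
    simp [k1, k, hij]
  refine ⟨.ofBijective L ⟨(injective_iff_map_eq_zero _).2 fun z hz => eq_zero_of_ctr fun φ => h.nω.ext' fun u => ?_,
    LinearMap.range_eq_top.1 (h.span _ fun xs => ⟨xs i ⊗ₜ xs j, (k1 _ _).trans (congrArg τ (funext fun l => ?_))⟩)⟩,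
    fun a x => ?_, fun a x => ?_, k2⟩
  · obtain ⟨w, hw⟩ := h.nω.exists_rep φ
    have : ∀ z, D.B (L (u ⊗ₜ w)) (L z) = κ * ω.B u (ctr W φ z) := fun z => by
      induction z with
      | zero => simp
      | tmul a b => simp [k2, hw]; ring
      | add a b ha hb => simp [ha, hb, mul_add]
    simpa [hz, h.κ0] using this z
  · rcases hT l with rfl | rfl <;> simp [hij]
  all_goals
    change L _ = ρ _ a (L x)
    induction x with
    | zero => simp
    | add a b ha hb => simp only [map_add, ha, hb]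
    | tmul u w =>
      simp only [LinearMap.rTensor_tmul, LinearMap.lTensor_tmul, k1, h.rho]
      congr 1; funext l
      rcases hT l with rfl | rfl <;> simp [hij, hij.symm]

theorem core_two [Finite F] (h2 : (2 : F) ≠ 0) (hq : 5 ≤ Nat.card F) (hW : finrank F W = 3) {i j : T} (hij : i ≠ j)
    (hT : ∀ k, k = i ∨ k = j) : Core ρ D := fun X x1 x2 => by
  obtain ⟨Φ, p1, p2, p3⟩ := exists_two h hij hT
  have h9 : finrank F (W ⊗[F] W) = 9 := by rw [finrank_tensorProduct, hW]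
  have h4 : 4 ≤ finrank F V := by rw [← Φ.finrank_eq]; omega
  obtain ⟨β, hβ⟩ : ∃ β : Form (quadKind F) W, ∀ x y, β.B x y = κ * ω.B x y :=
    ⟨ofQuad (κ • toQuad ω), fun x y => by rw [ofQuad_B, quad_B_eq]; simp [QuadraticMap.polar, mul_sub]⟩
  have nβ : β.Nondeg := fun x hx => h.nω x fun y => by simpa [hβ, h.κ0] using hx y
  have nD := (iso_comap D Φ).symm.nondeg h.nD
  have nz : ∀ g ∈ O3.NW F W W, Nz ρ (linAutCongr Φ g) := fun g hg => by
    have k : ∀ {l m : T} {A B : End F W → End F (W ⊗[F] W)}, (∀ a x, Φ (A a x) = ρ l a (Φ x)) →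
        (∀ a x, Φ (B a x) = ρ m a (Φ x)) → ∀ a b, (∀ u w, g (A a (u ⊗ₜ w)) = B b (g (u ⊗ₜ w))) →
        cj (linAutCongr Φ g) (ρ l a) = ρ m b := fun {l m A B} hA hB a b H => LinearMap.ext fun x => by
      obtain ⟨x, rfl⟩ := (g.trans Φ).surjective x
      have := LinearMap.congr_fun (TensorProduct.ext' H : g.toLinearMap ∘ₗ A a = B b ∘ₗ g.toLinearMap) x
      simp only [LinearMap.comp_apply, LinearEquiv.coe_coe] at this
      simp [linAutCongr, ← hA, ← hB, this]
    intro l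
    rcases hg with hg | ⟨φ, ψ, hg⟩
    · obtain ⟨c, d, hg⟩ := exists_of_mem hg
      rcases hT l with rfl | rfl
      · exact ⟨l, fun a => ⟨c.conj a, k p1 p1 _ _ fun u w => by simp [hg]⟩⟩
      · exact ⟨l, fun a => ⟨d.conj a, k p2 p2 _ _ fun u w => by simp [hg]⟩⟩
    · rcases hT l with rfl | rfl
      · exact ⟨j, fun a => ⟨φ.conj a, k p1 p2 _ _ fun u w => by simp [hg]⟩⟩
      · exact ⟨i, fun a => ⟨ψ.conj a, k p2 p1 _ _ fun u w => by simp [hg]⟩⟩
  have y2 : ∀ g ∈ Om (D.comap Φ.toLinearMap), g ∈ O3.NW F W W → g ∈ X.comap (linAutCongr Φ).toMonoidHom := fun g g1 g2 =>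
    x2 _ ((mem_Om_congr h.nD h2 h4 Φ).1 g1) (nz g g2)
  have st := st_quad nβ h.nω nD (fun u w u' w' => by rw [hβ, ← p3]; rfl) h2 (by omega)
    (X := X.comap (linAutCongr Φ).toMonoidHom) (fun g hg => (mem_Om_congr h.nD h2 h4 Φ).2 (x1 hg))
    fun g hg => y2 g hg.1 (Or.inl hg.2)
  refine or_iff_not_imp_left.2 fun hno g hg => ?_
  have hA : ∀ a ∈ commutator β.isom, congr a.1 1 ∈ X.comap (linAutCongr Φ).toMonoidHom := fun a ha =>
    y2 _ ((mem_Om nD h2 (by omega) (g := lI st a)).2 (map_mem_commutator _ ha)) (Or.inl ⟨_, _, rfl⟩)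
  have := Fintype.ofFinite F
  obtain ⟨c, c0, c1⟩ := exists_sq_ne_one h2 (show Fintype.card F ≠ 3 by rw [← Nat.card_eq_fintype_card]; omega)
  have s0 : TensorProduct.comm F W W ∈ (D.comap Φ.toLinearMap).isom := isom_of_B h2 fun x y => by
    induction x with
    | zero => simp
    | add a b ha hb => simp only [map_add, LinearMap.add_apply, ha, hb]
    | tmul u w =>
      induction y with
      | zero => simp
      | add a b ha hb => simp only [map_add, ha, hb]
      | tmul u' w' => simp only [comm_tmul, st.B, hβ]; ring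
  obtain ⟨b, hb⟩ := exists_rI st h2 (by rw [hW]; decide) (by omega) ⟨_, s0⟩
  have s1 : O3.Sw (⟨_, s0⟩ * rI st b).1 := ⟨.refl F W, b.1, fun _ _ => rfl⟩
  rw [← (linAutCongr Φ).apply_symm_apply g]
  refine nz _ (O3.le3 h2 hW hW st (fun g hg => ((nD.mem_commutator_iff (good_of_two_ne_zero h2)).1
    ((mem_Om nD h2 (by omega)).1 (st.le hg))).1) hq (fun e t he h0 ht t0 g => O3.stab3 st h2 hW.ge hW.ge
      (fun a ha => hA a (nβ.E_le_commutator (good_of_two_ne_zero h2) ha)) hW (fun H => hno fun k hk => ?_)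
      (fun b hb => y2 _ ((mem_Om nD h2 (by omega) (g := rI st b)).2 (map_mem_commutator _ hb)) (Or.inl ⟨_, _, rfl⟩))
      (O3.not_hasTS h.nω hW) c0 c1 he h0 ht t0) hA (y2 _ ((mem_Om nD h2 (by omega)).2 hb) (Or.inr s1)) s1 (by simpa))
  obtain ⟨k, rfl⟩ := (linAutCongr Φ).surjective k
  obtain ⟨k, k1, rfl⟩ := (mem_Om_congr h.nD h2 h4 Φ).2 hk
  exact H k1

end Cfsg.Lib.Forms.C7O

namespace Cfsg.Lib.Forms.C7O

open Module Form C7 Matrix Asch Cfsg.Geo TF Ten

variable {F : Type*} [Field F] [Fintype F] {m t : ℕ} {ι : Type} [Fintype ι] [DecidableEq ι] {e : ι ≃ (Fin t → Fin m)}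
  {P : GL ι F}

theorem max_of_core (hodd : Odd (Fintype.card F)) {D : Form (quadKind F) (ι → F)} (hD : D.Nondeg) (hm : 3 ≤ m) (ht : 2 ≤ t)
    {f₁} (hf₁ : IsSymmetricForm f₁) (hT : IsTensorPowerFormStructure id (QuadraticMap.polar D.Q) f₁ e P)
    (H : ∀ (ω : Form (quadKind F) (Fin m → F)) (D : Form (quadKind F) ((Fin t → Fin m) → F)) κ,
      Pw (piL F m t) rhoL ω D tau κ → Core (rhoL (F := F) (m := m) (t := t)) D) :
    IsMaximalIn (omegaGL D.Q) (tensorWreathSubgroup m t e P ⊓ omegaGL D.Q) := by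
  have h2 : (2 : F) ≠ 0 := two_ne_zero_of_odd hodd
  obtain ⟨c, c0, h⟩ := tps_of (σ := RingHom.id F) (IsSymmetricForm.hm hf₁).toIsSesq hT
  obtain ⟨ω, h5, h6⟩ := exists_form_of_quad (IsSymmetricForm.quad h2 hf₁)
  have e1 := Fintype.card_congr e
  simp only [Fintype.card_fun, Fintype.card_fin] at e1
  have e2 : 9 ≤ m ^ t := (Nat.pow_le_pow_left hm 2).trans (Nat.pow_le_pow_right (by omega) ht)
  have h7 := (iso_comap _ (vec e P)).symm.nondeg hD
  have p := pw_of h6 h7 (κ := c * 2⁻¹ ^ t) (by simp [c0, h2]) fun xs ys => by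
    simp only [comap_B, LinearEquiv.coe_coe, ← polar_toQuad, show ⇑(toQuad ω) = _ from h5, IsSymmetricForm.polar hf₁,
      Finset.prod_mul_distrib, Finset.prod_const, Finset.card_univ, Fintype.card_fin]
    rw [show ⇑(toQuad D) = D.Q from rfl, h, mul_assoc, ← mul_assoc _ (2 ^ t), ← mul_pow, inv_mul_cancel₀ h2]
    simp
  have h8 : 5 ≤ finrank F ((Fin t → Fin m) → F) := by simp; omega
  have hG := omegaGL_eq_toM' hD h8 (vec e P)
  obtain ⟨u, v, hu⟩ := Quad.exists_isHyp h6 (by simpa)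
  obtain ⟨z, z1, z2⟩ := exists_hp_Q h6 h2 (by simpa) hu
  have hd := isEich_quad hu.Q_e (ω.mem_hp.1 z1).1
  obtain ⟨g, g1, g2⟩ := p.slot_root (fun j b xs => by
    obtain ⟨g, g1, g2⟩ := p.exists_slot j b
    rw [← g1, (isom_of_B h2 g2).Q_map]) (h7.commutator_eq_E (good_of_two_ne_zero h2) (by omega)).le ⟨0, by omega⟩
    (h6.E_le_commutator (good_of_two_ne_zero h2) (eich_mem_E _ _ _ hd))
  refine isMaximalIn_map' hG (comap_wreath e P) (toM_injective _) (not_le_WR (by omega) ht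
    (hG ▸ cl_omega hD (by omega) :) g1 g2 fun c H => z2 ?_) fun X x1 x2 x3 => (H ω _ _ p X x1 fun g g1 g2 =>
      x2 ⟨g1, mem_WR_of_norm (by omega) (by omega) g2⟩).resolve_right fun h =>
        x3 fun g hg => mem_WR_of_norm (by omega) (by omega) (h g hg)
  simpa [eich_apply, hu.B_ef, hu.B_fe, hu.B_ff, (ω.mem_hp.1 z1).2, ω.eq_zero_symm (ω.mem_hp.1 z1).2] using
    congrArg (fun f => ω.B v (f v)) H

end Cfsg.Lib.Forms.C7O
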