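import Cfsg.Agent.Lib.Max.C7S1
import Cfsg.Agent.Lib.Max.TQ

/-!
# Orthogonal tensor factors: good factors
-/

namespace Cfsg.Lib.Forms.C7

open Module Form TensorProduct Ten Qd TF

variable {F U W : Type*} [Field F] [AddCommGroup U] [Module F U] [AddCommGroup W] [Module F W]

/-- The right orthogonal factor is a good factor for `X`. -/
structure So (β : Form (quadKind F) U) (ω : Form (quadKind F) W) (D : Form (quadKind F) (U ⊗[F] W))
    (X : Subgroup (U ⊗[F] W ≃ₗ[F] U ⊗[F] W)) : Prop where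
  st : St β ω D D.isom D.isom
  le : X ≤ D.isom
  right : ∀ b ∈ ω.E, rg U b.1 ∈ X
  q : ∀ e, ω.Q e = 0 → e ≠ 0 → ∀ k ∈ X, IsQ U ω e k → ∃ b : W →ₗ[F] W, ∀ u w, k (u ⊗ₜ w) = u ⊗ₜ b w

end Cfsg.Lib.Forms.C7
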