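import Cfsg.Agent.Lib.C7O.A
import Cfsg.Agent.Lib.C7O.B

/-!
# Orthogonal tensor powers: permuting the factors
-/

namespace Cfsg.Lib.Forms.C7O

open Module Form TensorProduct Ten Qd TF C7 O4

variable {F U W V : Type*} [Field F] [AddCommGroup U] [Module F U] [AddCommGroup W] [Module F W] [AddCommGroup V]
  [Module F V] {T : Type*} {ρ : T → End F W →ₐ[F] End F V} {g k : V ≃ₗ[F] V} {i j l : T}

variable (ρ) in
/-- The factor `i` is mapped to the factor `j`. -/
def Tn (i j : T) (g : V ≃ₗ[F] V) : Prop := ∀ a, ∃ b, cj g (ρ i a) = ρ j b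

theorem cj_mul (g k : V ≃ₗ[F] V) (N : End F V) : cj (g * k) N = cj g (cj k N) := rfl

theorem cj_of_comm {N : End F V} (h : ∀ x, g (N x) = N (g x)) : cj g N = N := LinearMap.ext fun x => by
  simp [h, lin_apply_inv]

theorem Tn.mul (h : Tn ρ j l g) (h' : Tn ρ i j k) : Tn ρ i l (g * k) := fun a =>
  let ⟨b, hb⟩ := h' a; let ⟨c, hc⟩ := h b; ⟨c, by rw [cj_mul, hb, hc]⟩

theorem Tn.one : Tn ρ i i 1 := fun a => ⟨a, rfl⟩

theorem Nz.mul (h : Nz ρ g) (h' : Nz ρ k) : Nz ρ (g * k) := fun i =>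
  let ⟨j, hj⟩ := h' i; let ⟨l, hl⟩ := h j; ⟨l, Tn.mul hl hj⟩

theorem Core.of {ρ' : T → End F W →ₐ[F] End F U} {D : Form (quadKind F) V} [Finite F] [FiniteDimensional F U]
    [FiniteDimensional F V] (hD : D.Nondeg) (h2 : (2 : F) ≠ 0) (hn : 4 ≤ finrank F V) (Φ : U ≃ₗ[F] V)
    (hρ : ∀ l a x, Φ (ρ' l a x) = ρ l a (Φ x)) (h : Core ρ' (D.comap Φ.toLinearMap)) : Core ρ D := fun X x1 x2 => by
  have k : ∀ g, Nz ρ' g ↔ Nz ρ (linAutCongr Φ g) := fun g => forall_congr' fun i => exists_congr fun j =>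
    forall_congr' fun a => exists_congr fun b => ⟨fun H => LinearMap.ext fun x => by
      obtain ⟨x, rfl⟩ := Φ.surjective x
      simp [← hρ, ← H, linAutCongr], fun H => LinearMap.ext fun x => Φ.injective (by
        rw [hρ, ← H]; simp [← hρ, linAutCongr])⟩
  refine (h (X.comap (linAutCongr Φ).toMonoidHom) (fun g hg => (mem_Om_congr hD h2 hn Φ).2 (x1 hg)) fun g g1 g2 =>
    x2 _ ((mem_Om_congr hD h2 hn Φ).1 g1) ((k g).1 g2)).imp (fun H g hg => ?_) fun H g hg => ?_ <;>
    obtain ⟨g, rfl⟩ := (linAutCongr Φ).surjective g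
  exacts [H ((mem_Om_congr hD h2 hn Φ).2 hg), (k g).1 (H g hg)]

variable [Fintype T] [DecidableEq T] {π : (T → End F W) →* End F V} {ω : Form (quadKind F) W} {D : Form (quadKind F) V}
  {τ : (T → W) → V} {κ : F}

theorem pi_induction (hρ : ∀ j a, ρ j a = π (Pi.mulSingle j a)) {P : End F V → Prop} (h1 : P 1)
    (h2 : ∀ a b, P a → P b → P (a * b)) {gs : T → End F W} (H : ∀ l, P (ρ l (gs l))) : P (π gs) := by
  suffices ∀ B : Finset T, P (π (B.piecewise gs 1)) by simpa using this Finset.univ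
  intro B
  induction B using Finset.induction_on with
  | empty => simpa
  | insert j B hj ih =>
    rw [Finset.piecewise_insert, pi_update hρ, show Function.update (B.piecewise gs 1) j 1 = B.piecewise gs 1 from
      Function.update_eq_self_iff.2 (by simp [hj])]
    exact h2 _ _ (H j) ih

variable (h : Pw π ρ ω D τ κ) [FiniteDimensional F W]
include h

omit [FiniteDimensional F W] in
theorem key {xs ys : T → W} (hx : ∀ j, xs j ≠ 0) {a : End F W} (H : ∀ y, τ (Function.update xs l (a y)) =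
    τ (Function.update ys l y)) : ∃ c : F, (xs = ys → c = 1) ∧ ∀ y, a y = c • y := by
  choose zs hz using fun j => h.nω.exists_ne_zero (hx j)
  have z0 : κ * ∏ i ∈ Finset.univ.erase l, ω.B (xs i) (zs i) ≠ 0 :=
    mul_ne_zero h.κ0 (Finset.prod_ne_zero_iff.2 fun j _ => hz j)
  refine ⟨(κ * ∏ i ∈ Finset.univ.erase l, ω.B (ys i) (zs i)) / (κ * ∏ i ∈ Finset.univ.erase l, ω.B (xs i) (zs i)),
    fun H => by rw [H] at z0 ⊢; exact div_self z0, fun y => h.nω.ext' fun z => ?_⟩
  have := congrArg (fun x => D.B x (τ (Function.update zs l z))) (H y)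
  simp only [h.B_update] at this
  rw [map_smul, smul_eq_mul, quad_symm ω z, quad_symm ω z, div_mul_eq_mul_div, eq_div_iff z0, mul_comm, this]

omit [FiniteDimensional F W] in
theorem sep (hl : l ≠ j) {xs : T → W} (hx : ∀ j, xs j ≠ 0) {a b : End F W}
    (H : ∀ y, ρ l a (τ (Function.update xs l y)) = ρ j b (τ (Function.update xs l y))) : ∃ c : F, a = c • 1 := by
  obtain ⟨c, -, hc⟩ := key h (l := l) (ys := Function.update xs j (b (xs j))) hx (a := a) fun y => by
    simpa [h.rho, hl, hl.symm, Function.update_comm hl] using H y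
  exact ⟨c, LinearMap.ext hc⟩

omit [FiniteDimensional F W] in
theorem sep' {xs : T → W} (hx : ∀ j, xs j ≠ 0) {a b : End F W}
    (H : ∀ y, ρ l a (τ (Function.update xs l y)) = ρ l b (τ (Function.update xs l y))) : a = b := by
  obtain ⟨L, hL⟩ := h.exists_lin l xs
  obtain ⟨c, c1, hc⟩ := key h (l := l) (ys := xs) hx (a := a - b + 1) fun y => by
    have := H y
    simp only [h.rho, Function.update_self, Function.update_idem] at this
    simp only [← hL] at this
    simp [← hL, this]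
  exact LinearMap.ext fun y => by simpa [c1, sub_eq_zero] using hc y

variable [Nontrivial W]

omit [FiniteDimensional F W] in
theorem rho_inj (l : T) : Function.Injective (ρ l) := fun a b H =>
  let ⟨x, hx⟩ := exists_ne (0 : W); sep' h (l := l) (xs := fun _ => x) (fun _ => hx) fun y => by rw [H]

omit [FiniteDimensional F W] in
theorem hsc (z : End F V) (hz : ∀ j a, z * ρ j a = ρ j a * z) : ∃ c : F, z = c • 1 := by
  obtain ⟨x, hx⟩ := exists_ne (0 : W)
  obtain ⟨ys, hy⟩ := h.exists_B_ne (xs := fun _ => x) fun _ => hx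
  refine ⟨D.B (τ fun _ => x) (z (τ ys)) / D.B (τ fun _ => x) (τ ys), h.ext' fun xs => ?_⟩
  have := congrArg (· (τ ys)) (pi_induction h.hρ (P := fun a => z * a = a * z) (by simp) (fun a b ha hb => by
    rw [← mul_assoc, ha, mul_assoc, hb, mul_assoc]) (gs := fun j => (ω.B x).smulRight (xs j)) fun l => hz _ _)
  simp only [End.mul_apply, h.pi_rank' xs fun _ => x, map_smul] at this
  refine smul_right_injective _ (mul_ne_zero (inv_ne_zero h.κ0) hy) (this.trans ?_)
  simp only [LinearMap.smul_apply, End.one_apply, smul_smul]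
  congr 1; field_simp

theorem Tn.symm [FiniteDimensional F V] (H : Tn ρ i j g) : Tn ρ j i g⁻¹ := fun b => by
  let L : End F W →ₗ[F] End F V := g.conj ∘ₗ (ρ i).toLinearMap
  have : LinearMap.range L = LinearMap.range (ρ j).toLinearMap := Submodule.eq_of_le_of_finrank_eq (by
    rintro _ ⟨a, rfl⟩
    exact (H a).imp fun b hb => hb.symm) (by
      rw [LinearMap.finrank_range_of_inj (f := (ρ j).toLinearMap) (rho_inj h j), LinearMap.finrank_range_of_inj (f := L)
        (g.conj.injective.comp (rho_inj h i))])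
  obtain ⟨a, ha⟩ := this.ge ⟨b, rfl⟩
  exact ⟨a, by rw [show ρ j b = cj g (ρ i a) from ha.symm, cj_inv_cj]⟩

omit [Nontrivial W] [FiniteDimensional F W] in
theorem eq_of_rho {a b : End F W} (ha : ∀ c : F, a ≠ c • 1) (H : ρ i a = ρ j b) : i = j := by
  by_contra hij
  obtain ⟨x, hx⟩ : ∃ x, a x ≠ 0 := by by_contra! h1; exact ha 0 (LinearMap.ext (by simpa))
  obtain ⟨c, hc⟩ := sep h hij (xs := fun _ => x) (fun _ => by rintro rfl; simp at hx) fun y => by rw [H]
  exact ha c hc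

omit [FiniteDimensional F W] in
theorem ns_of_cj {a b : End F W} (ha : ∀ c : F, a ≠ c • 1) (H : cj g (ρ i a) = ρ j b) (c : F) : b ≠ c • 1 := by
  rintro rfl
  refine ha c (rho_inj h i ?_)
  rw [← cj_inv_cj g (ρ i a), H]
  ext x; simp [lin_inv_apply]

omit [Nontrivial W]
variable (hW : 3 ≤ finrank F W)
include hW

omit h in
theorem exists_ns : ∃ a : End F W, ∀ c : F, a ≠ c • 1 := by
  have := Module.nontrivial_of_finrank_pos (R := F) (M := W) (by omega)
  obtain ⟨u, hu⟩ := exists_ne (0 : W)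
  obtain ⟨χ, h1, h2, -⟩ := exists_kill hW u u
  refine ⟨χ.smulRight u, fun c hc => h1 (LinearMap.ext fun x => ?_)⟩
  obtain rfl : c = 0 := by simpa [h2, hu] using (congrArg (· u) hc).symm
  simpa [hu] using congrArg (· x) hc

theorem Tn.uniq (H : Tn ρ i j g) (H' : Tn ρ i l g) : j = l := by
  have := Module.nontrivial_of_finrank_pos (R := F) (M := W) (by omega)
  obtain ⟨a, ha⟩ := exists_ns hW
  obtain ⟨b, hb⟩ := H a
  obtain ⟨c, hc⟩ := H' a
  exact eq_of_rho h (ns_of_cj h ha hb) (hb.symm.trans hc)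

variable [FiniteDimensional F V]

theorem Nz.inv (H : Nz ρ g) : Nz ρ g⁻¹ := fun j => by
  have := Module.nontrivial_of_finrank_pos (R := F) (M := W) (by omega)
  choose s hs using H
  obtain ⟨i, rfl⟩ := (Finite.injective_iff_surjective (f := s)).1 (fun i l H =>
    Tn.uniq h hW (Tn.symm h (hs i)) (H ▸ Tn.symm h (hs l))) j
  exact ⟨i, Tn.symm h (hs i)⟩

/-- The stabiliser of the decomposition. -/
def NG : Subgroup (V ≃ₗ[F] V) where
  carrier := {g | Nz ρ g}
  one_mem' i := ⟨i, Tn.one⟩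
  mul_mem' := Nz.mul
  inv_mem' := Nz.inv h hW

omit [FiniteDimensional F V] hW in
theorem tn_slot {b : W ≃ₗ[F] W} (hg : ∀ x, g x = ρ j b x) (i : T) : Tn ρ i i g ∧
    (i ≠ j → ∀ a, cj g (ρ i a) = ρ i a) ∧ ∀ a, cj g (ρ j a) = ρ j (cj b a) := by
  have k1 : ∀ i, i ≠ j → ∀ a, cj g (ρ i a) = ρ i a := fun i hi a => cj_of_comm fun x => by
    rw [hg, hg, ← End.mul_apply, ← End.mul_apply, h.hρ j, comm_pi h.hρ (by simp [hi])]
  have k2 : ∀ a, cj g (ρ j a) = ρ j (cj b a) := fun a => LinearMap.ext fun x => by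
    obtain ⟨x, rfl⟩ := g.surjective x
    rw [cj_apply, lin_inv_apply, hg, hg, ← End.mul_apply, ← End.mul_apply, ← map_mul, ← map_mul]
    congr 2; ext; simp [lin_inv_apply]
  refine ⟨fun a => ?_, k1 i, k2⟩
  rcases eq_or_ne i j with rfl | hi
  exacts [⟨_, k2 a⟩, ⟨_, k1 i hi a⟩]

omit [FiniteDimensional F V] hW [FiniteDimensional F W] in
theorem cj_perm {s : Equiv.Perm T} (hg : ∀ xs, g (τ xs) = τ (xs ∘ s.symm)) : g ∈ D.isom → (∀ gs, cj g (π gs) =
    π (gs ∘ s.symm)) ∧ ∀ i a, cj g (ρ i a) = ρ (s i) a := fun _ => by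
  have k : ∀ gs, cj g (π gs) = π (gs ∘ s.symm) := fun gs => h.ext' fun xs => by
    rw [show τ xs = g (τ (xs ∘ s)) by rw [hg]; congr 1; ext; simp, cj_apply, lin_inv_apply, h.hτ, hg, hg, h.hτ]; rfl
  refine ⟨k, fun i a => ?_⟩
  rw [h.hρ, h.hρ, k]
  congr 1; funext l
  obtain ⟨l, rfl⟩ := s.surjective l
  simp [Pi.mulSingle_apply]

end Cfsg.Lib.Forms.C7O
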