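import Cfsg.Agent.Lib.C7O.C

/-!
# Orthogonal tensor powers: splitting off a factor
-/

namespace Cfsg.Lib.Forms.C7O

open Module Form TensorProduct Ten Qd TF C7 O4

variable {F U W : Type*} [Field F] [AddCommGroup U] [Module F U] [AddCommGroup W] [Module F W]
  [FiniteDimensional F U] [FiniteDimensional F W] {g : U ⊗[F] W ≃ₗ[F] U ⊗[F] W}

theorem tens_of_same [Nontrivial U] [Nontrivial W] (H : ∀ a : End F W, ∃ b : End F W, cj g (a.lTensor U) = b.lTensor U) :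
    g ∈ tens F U W := by
  obtain ⟨x, hx⟩ := exists_ne (0 : W)
  obtain ⟨v, hv⟩ := exists_ne (0 : U)
  obtain ⟨φ, hφ⟩ := exists_dual_one (F := F) hx
  obtain ⟨θ, hθ⟩ := H (φ.smulRight x)
  obtain ⟨w, hw⟩ : ∃ w, θ w ≠ 0 := by
    by_contra! h1
    simpa [show θ = 0 from LinearMap.ext h1, lin_inv_apply, hφ, tmul_ne_zero (F := F) hv hx] using
      congrArg (· (g (v ⊗ₜ x))) hθ
  obtain ⟨χ, hχ⟩ := exists_dual_one (F := F) hw
  have k := inv_slice (g := g⁻¹) hw hx fun u => ⟨ctr U φ (g⁻¹ (u ⊗ₜ w)), by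
    rw [← LinearMap.lTensor_tmul, ← hθ, cj_apply, lin_inv_apply, ← tv_apply, tv]⟩
  refine mem_tens_of (a := ctr U χ ∘ₗ g ∘ₗ cu U x) fun y => ?_
  obtain ⟨θ', hθ'⟩ := H (φ.smulRight y)
  refine ⟨θ' (θ w), fun u => ?_⟩
  obtain ⟨u', hu⟩ := k u
  rw [inv_inv] at hu
  have := congrArg (· (g (u ⊗ₜ x))) hθ'
  simp only [cj_apply, lin_inv_apply] at this
  simpa [hφ, hu, hχ] using this

variable [Finite F] {β : Form (quadKind F) U} {ω : Form (quadKind F) W} {D : Form (quadKind F) (U ⊗[F] W)}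
  {X G : Subgroup (U ⊗[F] W ≃ₗ[F] U ⊗[F] W)} (h : St β ω D X G) (h2 : (2 : F) ≠ 0) (hU : Odd (finrank F U))
include h h2 hU

theorem exists_rI' {x y z : W} (hx : ω.Q x = 1) (hy : ¬ IsSquare (ω.Q y)) (hz : ω.Q z ≠ 0) {P : ω.isom → Prop} (p0 : P 1)
    (p1 : P (ω.refl z)) (p2 : P (ω.refl x * ω.refl y)) (p3 : P (ω.refl x * ω.refl y * ω.refl z)) (g : D.isom) :
    ∃ b, P b ∧ g * rI h b ∈ commutator D.isom := by
  obtain ⟨c, hc⟩ := rI_refl h h2 hU
  obtain ⟨x1, x2⟩ := hc x (by simp [hx])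
  obtain ⟨y1, y2⟩ := hc y (by rintro h; exact hy (h ▸ IsSquare.zero))
  obtain ⟨z1, z2⟩ := hc z hz
  rw [hx, chi_one] at x2
  rw [chi_of_not_isSquare hy] at y2
  simp only [h.nD.mem_commutator_iff (good_of_two_ne_zero h2)]
  by_contra! H
  have h1 := H _ p0
  have h3 := H _ p1
  have h4 := H _ p2
  have h5 := H _ p3
  simp only [map_mul, map_one, x1, x2, y1, y2, z1, z2] at h1 h3 h4 h5
  generalize chi (ω.Q z) = d at h3 h5
  rcases Int.units_eq_one_or (dickson h.nD g) with a | a <;> rcases Int.units_eq_one_or (spinor h.nD g) with b | b <;>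
    rcases Int.units_eq_one_or c with rfl | rfl <;> rcases Int.units_eq_one_or d with rfl | rfl <;>
    simp [a, b] at h1 h3 h4 h5

theorem exists_fix (hW : 3 ≤ finrank F W) {v : W} (hv : ω.Q v ≠ 0) (g : D.isom) :
    ∃ b : ω.isom, b.1 v = v ∧ g * rI h b ∈ commutator D.isom := by
  obtain ⟨ν, hν⟩ := FiniteField.exists_nonsquare (F := F) (fun h => h2 (ringChar_eq_two_iff.1 h))
  obtain ⟨x, x1, hx⟩ := h.nω.exists_perp_Q_eq hW hv 1
  obtain ⟨y, y1, hy⟩ := h.nω.exists_perp_Q_eq hW hv ν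
  refine exists_rI' h h2 hU hx (hy ▸ hν) (z := x) (by simp [hx]) (P := fun b => b.1 v = v) rfl ?_ ?_ ?_ g <;>
    simp [refl_apply, ω.eq_zero_symm x1, ω.eq_zero_symm y1]

theorem exists_line (hW : 3 ≤ finrank F W) {e : W} (he : ω.Q e = 0) (h0 : e ≠ 0) (g : D.isom) :
    ∃ b : ω.isom, (∃ c : F, b.1 e = c • e) ∧ g * rI h b ∈ commutator D.isom := by
  obtain ⟨ν, hν⟩ := FiniteField.exists_nonsquare (F := F) (fun h => h2 (ringChar_eq_two_iff.1 h))
  obtain ⟨f, hf⟩ := h.nω.exists_isHyp he h0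
  obtain ⟨z, z1, z2⟩ := exists_hp_Q h.nω h2 hW hf
  have ν0 : ν ≠ 0 := by rintro rfl; exact hν IsSquare.zero
  have q : ∀ c : F, ω.Q (e + c • f) = c := fun c => by simp [quad_Q_add, quad_Q_smul, he, hf.Q_f, hf.B_ef]
  have z3 : (ω.refl z).1 e = e := by simp [refl_apply, ω.eq_zero_symm (ω.mem_hp.1 z1).1]
  have k : (ω.refl (e + (1 : F) • f) * ω.refl (e + ν • f)).1 e = ν • e := by
    simp only [isom_mul_apply, refl_apply, q, ω.B_lin, hf.B_ee, hf.B_ef, hf.B_fe, hf.B_ff, RingHom.id_apply, quadKind_ε]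
    match_scalars <;> field_simp <;> ring
  exact exists_rI' h h2 hU (q 1) (by rwa [q]) z2 (P := fun b => ∃ c : F, b.1 e = c • e) ⟨1, by simp⟩ ⟨1, by simp [z3]⟩
    ⟨ν, k⟩ ⟨ν, by rw [isom_mul_apply, z3, k]⟩ g

theorem chi_eq {v v' : W} (hv : ω.Q v ≠ 0) (hv' : ω.Q v' ≠ 0)
    (H : spinor h.nD (rI h (ω.refl v)) = spinor h.nD (rI h (ω.refl v'))) : ∃ t : F, t ≠ 0 ∧ ω.Q v = t ^ 2 * ω.Q v' := by
  obtain ⟨c, hc⟩ := rI_refl h h2 hU
  rw [(hc v hv).2, (hc v' hv').2, mul_right_inj, chi_eq_iff_isSquare_mul hv hv'] at H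
  obtain ⟨t, ht⟩ := H
  refine ⟨t / ω.Q v', div_ne_zero (by rintro rfl; simp [hv, hv'] at ht) hv', ?_⟩
  field_simp
  linear_combination ht

theorem exists_isom [Nontrivial W] (hg : g ∈ tens F U W) (hg' : g ∈ D.isom) :
    ∃ (a : β.isom) (b : ω.isom), g = congr a.1 b.1 := by
  have := Module.nontrivial_of_finrank_pos (R := F) (M := U) hU.pos
  obtain ⟨a, b, hab⟩ := exists_of_mem hg
  obtain ⟨v, hv⟩ := h.nω.exists_Q_ne_zero ⟨1, one_ne_zero⟩
  obtain ⟨u, hu⟩ := h.nβ.exists_Q_ne_zero ⟨1, one_ne_zero⟩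
  have i0 : ∀ u u' w w', β.B (a u) (a u') * ω.B (b w) (b w') = β.B u u' * ω.B w w' := fun u u' w w' => by
    rw [← h.B, ← h.B, ← hab, ← hab, hg'.B_map]
  have i1 := i0 u u v v
  simp only [quad_B_self] at i1
  have i2 : ω.Q (b v) ≠ 0 := fun H => by simp [H, h2, hu, hv] at i1
  have i3 : β.Q (a u) ≠ 0 := fun H => by simp [H, h2, hu, hv] at i1
  have i4 : ∀ w, ω.B (b v) (b w) * ω.Q v = ω.Q (b v) * ω.B v w := fun w => by
    have := i0 u u v w
    simp only [quad_B_self] at this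
    exact mul_left_cancel₀ (mul_ne_zero (mul_ne_zero h2 h2) i3) (by linear_combination 2 * ω.Q v * this - ω.B v w * i1)
  obtain ⟨t, t0, ht⟩ := chi_eq h h2 hU hv i2 (by
    rw [show rI h (ω.refl (b v)) = ⟨g, hg'⟩ * rI h (ω.refl v) * (⟨g, hg'⟩ : D.isom)⁻¹ from eq_mul_inv_of_mul_eq
      (Subtype.ext (LinearEquiv.toLinearMap_injective (TensorProduct.ext' fun x w => ?_)))]
    · rw [map_mul, map_mul, map_inv, mul_inv_cancel_comm]
    change congr 1 (ω.refl (b v)).1 (g _) = g (x ⊗ₜ (ω.refl v).1 w)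
    rw [hab, hab, refl_apply, congr_tmul, refl_apply, map_sub, map_smul]
    rw [show (ω.Q (b v))⁻¹ * ω.B (b v) (b w) = (ω.Q v)⁻¹ * ω.B v w by field_simp; linear_combination i4 w]
    rfl)
  have j1 : ∀ x y, β.B (a x) (a y) = t ^ 2 * β.B x y := fun x y => by
    have := i0 x y v v
    simp only [quad_B_self, ht] at this
    exact mul_right_cancel₀ (mul_ne_zero h2 i2) (by linear_combination this)
  refine ⟨⟨a.trans (.smulOfNeZero F U t⁻¹ (inv_ne_zero t0)), isom_of_B h2 fun x y => ?_⟩,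
    ⟨b.trans (.smulOfNeZero F W t t0), isom_of_B h2 fun x y => ?_⟩,
    LinearEquiv.toLinearMap_injective (TensorProduct.ext' fun x w => by simp [hab, smul_tmul', smul_smul, t0])⟩
  · simp [j1]; field_simp
  · have := i0 u u x y
    rw [j1] at this
    exact mul_left_cancel₀ (quad_B_ne_zero h2 hu) (by
      simp only [LinearEquiv.trans_apply, LinearEquiv.smulOfNeZero_apply, ω.B_lin, RingHom.id_apply]
      linear_combination this)

end Cfsg.Lib.Forms.C7O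

namespace Cfsg.Lib.Forms.C7O

open Module Form TensorProduct Ten Qd TF C7 O4

variable {F U W : Type*} [Field F] [AddCommGroup U] [Module F U] [AddCommGroup W] [Module F W] {T T' : Type*} [Fintype T]
  [DecidableEq T] [Fintype T'] [DecidableEq T'] {π : (T → End F W) →* End F (U ⊗[F] W)}
  {ρ : T → End F W →ₐ[F] End F (U ⊗[F] W)} {ω : Form (quadKind F) W} {D : Form (quadKind F) (U ⊗[F] W)}
  {τ : (T → W) → U ⊗[F] W} {κ : F} {π' : (T' → End F W) →* End F U} {ρ' : T' → End F W →ₐ[F] End F U}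
  {β : Form (quadKind F) U} {τ' : (T' → W) → U} {j : T} {ι : T' → T} {g : U ⊗[F] W ≃ₗ[F] U ⊗[F] W}

variable (π ρ ω D τ κ π' ρ' β τ' j ι) in
/-- A tensor power with one factor split off. -/
structure Md : Prop where
  pw : Pw π ρ ω D τ κ
  pw' : Pw π' ρ' ω β τ' κ
  rt : ∀ a, ρ j a = a.lTensor U
  lt : ∀ i a, ρ (ι i) a = (ρ' i a).rTensor W
  ne : ∀ i, ι i ≠ j
  ex : ∀ l, l ≠ j → ∃ i, ι i = l
  inj : Function.Injective ι
  B : ∀ u w u' w', D.B (u ⊗ₜ w) (u' ⊗ₜ w') = β.B u u' * ω.B w w'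
  perm : ∀ s : Equiv.Perm T, ∃ g ∈ D.isom, ∀ xs, g (τ xs) = τ (xs ∘ s.symm)
  dim : finrank F U = finrank F W ^ Fintype.card T'
  tau : ∀ xs, τ xs = τ' (xs ∘ ι) ⊗ₜ xs j

namespace Md

variable (h : Md π ρ ω D τ κ π' ρ' β τ' j ι)
include h

theorem st (h2 : (2 : F) ≠ 0) : St β ω D D.isom D.isom :=
  ⟨h.pw'.nD, h.pw.nω, h.pw.nD, h.B, fun _ _ H => isom_of_B h2 H, le_rfl, le_rfl, fun _ _ _ h _ => h, inf_le_left⟩

theorem nz {a : U ≃ₗ[F] U} (ha : Nz ρ' a) (b : W ≃ₗ[F] W) : Nz ρ (congr a b) := fun l => by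
  rcases eq_or_ne l j with rfl | hl
  · exact ⟨l, fun x => ⟨cj b x, TensorProduct.ext' fun u w => by
      simp [h.rt, congr_symm_tmul]⟩⟩
  obtain ⟨i, rfl⟩ := h.ex l hl
  obtain ⟨i', hi⟩ := ha i
  refine ⟨ι i', fun x => (hi x).imp fun y hy => TensorProduct.ext' fun u w => ?_⟩
  simp [h.lt, ← hy, congr_symm_tmul]

theorem card : Fintype.card T = Fintype.card T' + 1 := by
  rw [← Fintype.card_option]
  refine (Fintype.card_of_bijective (f := fun o : Option T' => o.elim j ι) ⟨?_, fun l => ?_⟩).symm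
  · rintro (_ | a) (_ | b) H
    exacts [rfl, (h.ne b H.symm).elim, (h.ne a H).elim, congrArg some (h.inj H)]
  · rcases eq_or_ne l j with rfl | hl
    exacts [⟨none, rfl⟩, let ⟨i, hi⟩ := h.ex l hl; ⟨some i, hi⟩]

theorem tn (hg : g ∈ tens F U W) : Tn ρ j j g := fun a => by
  simpa only [h.rt] using! same_of_tens hg a

variable [FiniteDimensional F U] [FiniteDimensional F W]

theorem centr [Nontrivial W] {z : End F (U ⊗[F] W)} (hz : ∀ l, l ≠ j → ∀ a, z * ρ l a = ρ l a * z) :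
    ∃ b : End F W, ∀ u w, z (u ⊗ₜ w) = u ⊗ₜ b w := by
  obtain ⟨x, hx⟩ := exists_ne (0 : W)
  obtain ⟨ys, hy⟩ := h.pw'.exists_B_ne (xs := fun _ => x) fun _ => hx
  have c0 := mul_ne_zero (inv_ne_zero h.pw.κ0) hy
  refine ⟨(κ⁻¹ * β.B (τ' fun _ => x) (τ' ys))⁻¹ • κ⁻¹ • ctl W (β.B (τ' fun _ => x)) ∘ₗ z ∘ₗ TensorProduct.mk F U W (τ' ys),
    fun u w => congrArg (· u) (h.pw'.ext' (A := z ∘ₗ cu U w) (B := cu U _) fun xs => ?_)⟩
  have := congrArg (· (τ' ys ⊗ₜ w)) (pi_induction h.pw'.hρ (P := fun a => z * a.rTensor W = a.rTensor W * z)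
    (by simp [End.one_eq_id, End.mul_eq_comp]) (fun a b ha hb => by
      rw [LinearMap.rTensor_mul, ← mul_assoc, ha, mul_assoc, hb, mul_assoc])
    (gs := fun j => (ω.B x).smulRight (xs j)) fun l => h.lt l _ ▸ hz _ (h.ne l) _)
  have k : ∀ y, (π' fun j => (ω.B x).smulRight (xs j)).rTensor W y = κ⁻¹ • τ' xs ⊗ₜ ctl W (β.B (τ' fun _ => x)) y :=
    fun y => by
      induction y with
      | zero => simp
      | tmul u w => simp [h.pw'.pi_rank' xs fun _ => x, smul_tmul', smul_smul]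
      | add a b ha hb => simp [ha, hb, tmul_add]
  simp only [End.mul_apply, k, ctl_tmul, tmul_smul, map_smul, smul_smul] at this
  refine smul_right_injective _ c0 (this.trans ?_)
  simp [smul_smul, c0, -mul_inv_rev]

theorem nontrivial [Nontrivial W] : Nontrivial U := by
  obtain ⟨x, hx⟩ := exists_ne (0 : W)
  obtain ⟨ys, hy⟩ := h.pw'.exists_B_ne (xs := fun _ => x) fun _ => hx
  exact ⟨⟨τ' ys, 0, fun H => by simp [H] at hy⟩⟩

theorem tens_of_tn [Nontrivial W] (hg : Tn ρ j j g) : g ∈ tens F U W :=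
  have := h.nontrivial
  tens_of_same fun a => by simpa only [h.rt] using hg a

end Md

variable {m t : ℕ}

theorem exists_md [Finite F] (h2 : (2 : F) ≠ 0) (hm : 2 ≤ m) {ω : Form (quadKind F) (Fin m → F)}
    {D : Form (quadKind F) ((Fin (t + 1) → Fin m) → F)} (h : Pw (piL F m (t + 1)) rhoL ω D tau κ) :
    ∃ Φ : ((Fin t → Fin m) → F) ⊗[F] (Fin m → F) ≃ₗ[F] (Fin (t + 1) → Fin m) → F, ∃ π ρ τ β,
      (∀ l a x, Φ (ρ l a x) = rhoL l a (Φ x)) ∧
      Md π ρ ω (D.comap Φ.toLinearMap) τ κ (piL F m t) rhoL β tau 0 Fin.succ := by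
  let L := TensorProduct.lift (LinearMap.mk₂ F
    (fun (u : (Fin t → Fin m) → F) (w : Fin m → F) (a : Fin (t + 1) → Fin m) => w (a 0) * u (Fin.tail a))
    (fun _ _ _ => by ext; simp [mul_add]) (fun _ _ _ => by ext; simp [mul_left_comm])
    (fun _ _ _ => by ext; simp [add_mul]) fun _ _ _ => by ext; simp [mul_assoc])
  have k1 : ∀ xs, L (tau (xs ∘ Fin.succ) ⊗ₜ xs 0) = tau xs := fun xs => funext fun a =>
    (Fin.prod_univ_succ fun i => xs i (a i)).symm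
  have k2 : Function.Surjective L := LinearMap.range_eq_top.1 (h.span _ fun xs => ⟨_, k1 xs⟩)
  obtain ⟨Φ, hΦ⟩ : ∃ Φ : _ ≃ₗ[F] _, ∀ xs y, Φ (tau xs ⊗ₜ y) = tau (Fin.cons y xs : Fin (t + 1) → Fin m → F) :=
    ⟨.ofBijective L ⟨(LinearMap.injective_iff_surjective_of_finrank_eq_finrank (by simp [pow_succ])).2 k2, k2⟩,
      fun xs y => k1 (Fin.cons y xs)⟩
  obtain ⟨w₀, hw⟩ := Quad.exists_Q_eq h.nω (by simpa) 2⁻¹
  have w1 : ω.B w₀ w₀ = 1 := by rw [quad_B_self, hw, mul_inv_cancel₀ h2]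
  have sp : ∀ S : Submodule F ((Fin t → Fin m) → F), (∀ xs, tau xs ∈ S) → S = ⊤ := fun S hS => eq_top_iff.2 fun x _ => by
    rw [pi_eq_sum_univ x]
    refine S.sum_mem fun a _ => S.smul_mem _ ?_
    convert hS fun i => Pi.single (a i) 1
    simp [tau, Pi.single_apply, Finset.prod_ite_zero, funext_iff, eq_comm]
  have ex : ∀ {A B : End F (((Fin t → Fin m) → F) ⊗[F] (Fin m → F))}, (∀ xs y, A (tau xs ⊗ₜ y) = B (tau xs ⊗ₜ y)) → A = B :=
    fun {A B} H => TensorProduct.ext' fun u w => congrArg (· u)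
      (LinearMap.eqLocus_eq_top.1 (sp _ fun xs => H xs w) : A ∘ₗ cu _ w = B ∘ₗ cu _ w)
  have r0 : ∀ a : End F (Fin m → F), (Φ.symm.conjAlgEquiv F) (rhoL 0 a) = a.lTensor _ := fun a => ex fun xs y =>
    Φ.injective (by simp [hΦ, h.rho])
  have B := h.B_phi (Φ := Φ) (j := 0) (fun a x => by simp [← r0]) w1
  simp only [quadKind_ε, one_mul] at B
  have nD := (iso_comap D Φ).symm.nondeg h.nD
  have p := pw_of (ω := ω) (D := D.comap (Φ.toLinearMap ∘ₗ cu _ w₀)) h.nω (fun u hu => cu_injective (F := F) (u := w₀)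
    (by rintro rfl; simp at w1) ((nD _ fun y => by
      induction y with
      | zero => simp
      | add a b ha hb => rw [map_add, ha, hb, add_zero]
      | tmul v w => exact (B ..).trans (mul_eq_zero_of_left (hu v) _)).trans (map_zero _).symm)) h.κ0 fun xs ys => by
      simp [hΦ, h.B, Fin.prod_univ_succ, w1]
  refine ⟨Φ, (Φ.symm.conjAlgEquiv F : End F _ →* End F _).comp (piL F m (t + 1)),
    fun l => (Φ.symm.conjAlgEquiv F).toAlgHom.comp (rhoL l), Φ.symm ∘ tau, _, fun l a x => by simp,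
    ⟨h.nω, nD, fun j a => by simp [h.hρ], fun gs xs => by simp [h.hτ], h.κ0, fun xs ys => by simp [h.B], fun S hS =>
      eq_top_iff.2 fun x _ => ?_⟩, p, r0, fun i a => ex fun xs y => Φ.injective ?_, Fin.succ_ne_zero,
    fun l hl => Fin.exists_succ_eq.2 hl, Fin.succ_injective _, fun _ _ _ _ => B .., fun s => ⟨(linAutCongr Φ).symm
      (fp F m s), isom_of_B h2 fun x y => by
        simpa [linAutCongr] using h.B_map (g := fp F m s) (fun xs ys => by
          simp [fp_tau, h.B, Equiv.prod_comp s.symm fun i => ω.B (xs i) (ys i)]) (Φ x) (Φ y), fun xs => by simp [linAutCongr, fp_tau]⟩,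
    by simp, fun xs => Φ.injective ?_⟩
  · simpa using (h.span (S.comap Φ.symm.toLinearMap) hS).ge (trivial : Φ x ∈ ⊤)
  · simp [hΦ, h.rho, p.rho, Fin.cons_update]
  · rw [Function.comp_apply, Φ.apply_symm_apply, hΦ]; exact congrArg tau (Fin.cons_self_tail xs).symm

end Cfsg.Lib.Forms.C7O
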