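import Cfsg.Agent.Lib.C7O.D

/-!
# Orthogonal tensor powers: the stabiliser of one factor
-/

namespace Cfsg.Lib.Forms.C7O

open Module Form TensorProduct Ten Qd TF C7 O4

open scoped commutatorElement in
theorem left_of_perfect {A B G : Type*} [Group A] [Group B] [Group G] (l : A →* G) (r : B →* G)
    (c : ∀ a b, Commute (l a) (r b)) {X : Subgroup G} (hr : ∀ b ∈ commutator B, r b ∈ X) {E : Subgroup A}
    (hE : commutator E = ⊤) (H : ∀ a ∈ E, ∃ b, l a * r b ∈ X) : ∀ a ∈ E, l a ∈ X := fun a ha => by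
  refine hE.ge.trans ((Subgroup.commutator_le (H₃ := X.comap (l.comp E.subtype))).2 fun a _ a' _ => ?_)
    (Subgroup.mem_top ⟨a, ha⟩)
  obtain ⟨b, hb⟩ := H a a.2
  obtain ⟨d, hd⟩ := H a' a'.2
  have k : l ⁅a.1, a'.1⁆ * r ⁅b, d⁆ = ⁅l a * r b, l a' * r d⁆ :=
    map_commutatorElement (l.noncommCoprod r c) (a.1, b) (a'.1, d)
  exact (X.mul_mem_cancel_right (hr _ (Subgroup.commutator_mem_commutator (Subgroup.mem_top b) (Subgroup.mem_top d)))).1
    (k ▸ mul_mem (mul_mem (mul_mem hb hd) (inv_mem hb)) (inv_mem hd) : l ⁅a.1, a'.1⁆ * r ⁅b, d⁆ ∈ X)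

section
variable {F W V : Type*} [Field F] [AddCommGroup W] [Module F W] [AddCommGroup V] [Module F V] {T : Type*}
  {ρ : T → End F W →ₐ[F] End F V} {D : Form (quadKind F) V}

variable (ρ D) in
/-- The stabiliser of the decomposition covers `O / Ω`. -/
def Fx : Prop := ∀ a ∈ D.isom, ∃ n ∈ D.isom, Nz ρ n ∧ a * n ∈ Om D

variable [Fintype T] [DecidableEq T] {π : (T → End F W) →* End F V} {ω : Form (quadKind F) W} {τ : (T → W) → V} {κ : F}
  (h : Pw π ρ ω D τ κ) [FiniteDimensional F W] [FiniteDimensional F V] (hW : 3 ≤ finrank F W)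
include h hW

theorem core' (fx : Fx ρ D) (H : Core ρ D) {Y : Subgroup (V ≃ₗ[F] V)} (hY : ∀ n ∈ D.isom, Nz ρ n → n ∈ Y) :
    Om D ≤ Y ∨ ∀ a ∈ Y, a ∈ D.isom → Nz ρ a :=
  (H (Y ⊓ Om D) inf_le_right fun g g1 g2 => ⟨hY g (Subgroup.map_subtype_le _ g1) g2, g1⟩).imp (·.trans inf_le_left)
    fun H a a1 a2 => let ⟨n, n1, n2, n3⟩ := fx a a2
      ((NG h hW).mul_mem_cancel_right n2).1 (H _ ⟨mul_mem a1 (hY n n1 n2), n3⟩)

omit hW [FiniteDimensional F W] in
theorem hp [Finite F] (h2 : (2 : F) ≠ 0) (h4 : 4 ≤ finrank F V)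
    (perm : ∀ s : Equiv.Perm T, ∃ g ∈ D.isom, ∀ xs, g (τ xs) = τ (xs ∘ s.symm)) {X : Subgroup (V ≃ₗ[F] V)}
    (x2 : ∀ g ∈ Om D, Nz ρ g → g ∈ X) (i j k : T) (h1 : i ≠ j) (h3 : i ≠ k) (h5 : j ≠ k) :
    ∃ s : Equiv.Perm T, s i = j ∧ s j = k ∧ ∃ g ∈ X, (∀ gs, cj g (π gs) = π (gs ∘ s.symm)) ∧
      ∀ i a, cj g (ρ i a) = ρ (s i) a := by
  obtain ⟨g, g1, g2⟩ := perm (Equiv.swap j k * Equiv.swap i j)
  have k1 := cj_perm h (g := g * g) (s := (Equiv.swap j k * Equiv.swap i j) ^ 2) (fun xs => by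
    rw [LinearEquiv.mul_apply, g2, g2]; rfl) (mul_mem g1 g1)
  refine ⟨_, by simp [sq, Equiv.swap_apply_def, h3.symm, h5.symm, *], by simp [sq, Equiv.swap_apply_def, *], _,
    x2 _ ((mem_Om h.nD h2 h4 (g := ⟨g, g1⟩ * ⟨g, g1⟩)).2 ?_) fun l => ⟨_, fun a => ⟨a, k1.2 l a⟩⟩, k1⟩
  rw [h.nD.mem_commutator_iff (good_of_two_ne_zero h2), map_mul, map_mul]
  exact ⟨Int.units_mul_self _, Int.units_mul_self _⟩

end

variable {F U W : Type*} [Field F] [AddCommGroup U] [Module F U] [AddCommGroup W] [Module F W] {T T' : Type*} [Fintype T]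
  [DecidableEq T] [Fintype T'] [DecidableEq T'] {π : (T → End F W) →* End F (U ⊗[F] W)}
  {ρ : T → End F W →ₐ[F] End F (U ⊗[F] W)} {ω : Form (quadKind F) W} {D : Form (quadKind F) (U ⊗[F] W)}
  {τ : (T → W) → U ⊗[F] W} {κ : F} {π' : (T' → End F W) →* End F U} {ρ' : T' → End F W →ₐ[F] End F U}
  {β : Form (quadKind F) U} {τ' : (T' → W) → U} {j : T} {ι : T' → T} {g : U ⊗[F] W ≃ₗ[F] U ⊗[F] W}
  {X : Subgroup (U ⊗[F] W ≃ₗ[F] U ⊗[F] W)} [Finite F] [FiniteDimensional F U] [FiniteDimensional F W]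

variable (π ρ ω D τ κ π' ρ' β τ' j ι X) in
/-- A proper overgroup of the stabiliser. -/
structure Ov : Prop extends Md π ρ ω D τ κ π' ρ' β τ' j ι where
  h2 : (2 : F) ≠ 0
  hW : 3 ≤ finrank F W
  ho : Odd (finrank F W)
  hq : (∃ c : F, c ≠ 0 ∧ c ^ 2 ≠ 1) ∨ 4 ≤ finrank F W
  hT : 1 ≤ Fintype.card T'
  x1 : X ≤ Om D
  x2 : ∀ g ∈ Om D, Nz ρ g → g ∈ X
  hno : ¬ Om D ≤ X

namespace Ov

variable (h : Ov π ρ ω D τ κ π' ρ' β τ' j ι X)
include h

omit [Finite F] [FiniteDimensional F U] [FiniteDimensional F W] in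
theorem s : St β ω D D.isom D.isom := h.st h.h2

omit [Finite F] [FiniteDimensional F U] [FiniteDimensional F W] in
theorem oU : Odd (finrank F U) := h.dim ▸ h.ho.pow

omit [Finite F] [FiniteDimensional F U] [FiniteDimensional F W] in
theorem hU : finrank F W ≤ finrank F U := h.dim ▸ Nat.le_self_pow (by have := h.hT; omega) _

omit [Finite F] [FiniteDimensional F U] [FiniteDimensional F W] in
theorem h9 : 9 ≤ finrank F (U ⊗[F] W) := by
  rw [finrank_tensorProduct]; exact Nat.mul_le_mul (h.hW.trans h.hU) h.hW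

omit [Finite F] [FiniteDimensional F U] [FiniteDimensional F W] in
theorem le : X ≤ D.isom := h.x1.trans (Subgroup.map_subtype_le _)

theorem om {g : D.isom} : g.1 ∈ Om D ↔ g ∈ commutator D.isom := mem_Om h.pw.nD h.h2 (by have := h.h9; omega)

theorem mem {a : β.isom} {b b' : ω.isom} (ha : Nz ρ' a.1)
    (H : ⟨_, h.s.congr_isom a b⟩ * rI h.s b' ∈ commutator D.isom) : congr a.1 (b * b').1 ∈ X := by
  refine h.x2 _ ?_ (h.nz ha _)
  convert h.om.2 H using 1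
  exact LinearEquiv.toLinearMap_injective (TensorProduct.ext' fun _ _ => rfl)

theorem right {b : ω.isom} (hb : b ∈ commutator ω.isom) : rg U b.1 ∈ X :=
  h.x2 _ (h.om.2 (map_mem_commutator (rI h.s) hb)) (h.nz (fun i => ⟨i, Tn.one⟩) _)

theorem rightE {b : ω.isom} (hb : b ∈ ω.E) : rg U b.1 ∈ X :=
  h.right (h.pw.nω.E_le_commutator (good_of_two_ne_zero h.h2) hb)

theorem left {a : β.isom} (ha : a ∈ commutator β.isom) : congr a.1 1 ∈ Om D := h.om.2 (map_mem_commutator (lI h.s) ha)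

theorem isom (hg : g ∈ X) (hg' : g ∈ tens F U W) : ∃ (a : β.isom) (b : ω.isom), g = congr a.1 b.1 :=
  have := Module.nontrivial_of_finrank_pos (R := F) (M := W) h.ho.pos
  exists_isom h.s h.h2 h.oU hg' (h.le hg)

variable (hT : 2 ≤ Fintype.card T')
include hT

omit [Finite F] [FiniteDimensional F U] [FiniteDimensional F W] in
theorem hU' : finrank F W * 3 ≤ finrank F U := by
  rw [h.dim]
  exact (Nat.mul_le_mul_left _ h.hW).trans ((sq _).ge.trans (Nat.pow_le_pow_right h.ho.pos hT))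

theorem tr (i : T) : ∃ m ∈ X, Nz ρ m ∧ ∀ a, cj m (ρ i a) = ρ j a := by
  rcases eq_or_ne i j with rfl | hi
  · exact ⟨1, one_mem _, fun i => ⟨i, Tn.one⟩, fun _ => rfl⟩
  obtain ⟨l, -, hl⟩ := Finset.exists_mem_notMem_of_card_lt_card (s := {i, j}) (t := Finset.univ)
    (Finset.card_le_two.trans_lt (by rw [Finset.card_univ, h.card]; omega))
  obtain ⟨l1, l2⟩ : l ≠ i ∧ l ≠ j := by simpa using hl
  obtain ⟨s, rfl, -, m, m1, -, m2⟩ := hp h.pw h.h2 (by have := h.h9; omega) h.perm h.x2 i j l hi l1.symm l2.symm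
  exact ⟨m, m1, fun l => ⟨_, fun a => ⟨a, m2 l a⟩⟩, m2 i⟩

theorem not_inf (k2 : ∀ g ∈ Om D, g ∈ tens F U W → g ∈ X) : False := by
  have := Module.nontrivial_of_finrank_pos (R := F) (M := W) h.ho.pos
  have h3 := h.hW
  have h4 := h.hU' hT
  have h9 := h.h9
  have k3 : ∀ g ∈ tens F W U, linAutCongr (TensorProduct.comm F W U) g ∈ tens F U W := fun g hg =>
    let ⟨a, b, hab⟩ := exists_of_mem hg; mem_tens b a fun u w => by simp [linAutCongr, hab]
  have k4 := fun g => mem_Om_congr h.pw.nD h.h2 (by omega) (TensorProduct.comm F W U) (g := g)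
  have st := st_quad h.pw.nω h.pw'.nD ((iso_comap D (TensorProduct.comm F W U)).symm.nondeg h.pw.nD)
    (fun u w u' w' => by simp [h.B, mul_comm]) h.h2 (by rw [(TensorProduct.comm F W U).finrank_eq]; omega)
    (X := X.comap (linAutCongr (TensorProduct.comm F W U)).toMonoidHom) (fun g hg => (k4 g).2 (h.x1 hg))
    fun g hg => k2 _ ((k4 g).1 hg.1) (k3 g hg.2)
  have k5 := le_oo st h.h2 h.hW (by omega) (fun a ha => by
    rw [Subgroup.mem_comap]
    convert h.rightE ha using 1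
    exact LinearEquiv.toLinearMap_injective (TensorProduct.ext' fun _ _ => by simp [linAutCongr]))
    (Or.inl fun H => by simpa [H] using Nat.odd_iff.1 h.ho) (fun H => h.hno fun g hg => by
      obtain ⟨g, rfl⟩ := (linAutCongr (TensorProduct.comm F W U)).surjective g
      obtain ⟨k, k1, rfl⟩ := (k4 g).2 hg
      exact H k1) h.hq (by omega)
  obtain ⟨i⟩ : Nonempty T' := Fintype.card_pos_iff.1 (by omega)
  obtain ⟨m, m1, -, m2⟩ := h.tr hT (ι i)
  obtain ⟨m, rfl⟩ := (linAutCongr (TensorProduct.comm F W U)).surjective m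
  exact h.ne i (Tn.uniq h.pw h.hW (Tn.symm h.pw fun a => ⟨a, m2 a⟩) (Tn.symm h.pw (h.tn (k3 m (k5 m1)))))

theorem left_mem (H : ∀ a ∈ β.E, ∃ b : ω.isom, congr a.1 b.1 ∈ X) : ∀ a ∈ β.E, congr a.1 1 ∈ X := by
  have h3 := h.hW
  have h4 := h.hU' hT
  refine left_of_perfect (X := X.subgroupOf D.isom) (lI h.s) (rI h.s) (fun a b =>
    Subtype.ext (LinearEquiv.toLinearMap_injective (TensorProduct.ext' fun _ _ => rfl))) (fun b => h.right)
    (h.pw'.nD.commutator_E_eq_top (by omega)) fun a ha => (H a ha).imp fun b hb => ?_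
  rwa [show congr a.1 b.1 = (lI h.s a * rI h.s b).1 from
    LinearEquiv.toLinearMap_injective (TensorProduct.ext' fun _ _ => rfl)] at hb

variable (fx : Fx ρ' β) (IH : Core ρ' β)
include fx IH

theorem nz_of_tens (hg : g ∈ X) (hg' : g ∈ tens F U W) : Nz ρ g := by
  have := Module.nontrivial_of_finrank_pos (R := F) (M := W) h.ho.pos
  have h3 := h.hW
  let Y : Subgroup (U ≃ₗ[F] U) :=
    { carrier := {a | ∃ b : ω.isom, congr a b.1 ∈ X}
      one_mem' := ⟨1, h.right (one_mem _)⟩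
      mul_mem' := fun ⟨b, hb⟩ ⟨c, hc⟩ => ⟨b * c, by simpa only [← congr_mul] using! mul_mem hb hc⟩
      inv_mem' := fun ⟨b, hb⟩ => ⟨b⁻¹, inv_mem hb⟩ }
  obtain ⟨a, b, rfl⟩ := h.isom hg hg'
  refine h.nz ((core' h.pw' h.hW fx IH (Y := Y) fun n n1 n2 => ?_).resolve_left (fun H => ?_) _ ⟨b, hg⟩ a.2) _
  · obtain ⟨b, hb⟩ := exists_rI h.s h.h2 h.oU (by omega) ⟨_, h.s.congr_isom ⟨n, n1⟩ 1⟩
    exact ⟨_, h.mem (a := ⟨n, n1⟩) n2 hb⟩
  have k1 := h.left_mem hT fun a ha => H ⟨a, ha, rfl⟩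
  refine h.not_inf hT fun g g1 g2 => ?_
  obtain ⟨a, b, rfl⟩ := exists_isom h.s h.h2 h.oU g2 (Subgroup.map_subtype_le _ g1)
  obtain ⟨n, n1, n2, c, c1, c2⟩ := fx a.1 a.2
  have e : congr a.1 b.1 = congr c.1 1 * congr n⁻¹ b.1 := by
    rw [← congr_mul, show c.1 = _ from c2, mul_inv_cancel_right, one_mul]
  rw [e] at g1 ⊢
  exact mul_mem (k1 c c1) (h.x2 _ ((mul_mem_cancel_left (h.x1 (k1 c c1))).1 g1) (h.nz (Nz.inv h.pw' h.hW n2) _))

theorem hB (i : T) (g) (hg : g ∈ X) (H : Tn ρ i i g) : Nz ρ g := by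
  have := Module.nontrivial_of_finrank_pos (R := F) (M := W) h.ho.pos
  obtain ⟨m, m1, m2, m3⟩ := h.tr hT i
  have m4 : Tn ρ i j m := fun a => ⟨a, m3 a⟩
  have := h.nz_of_tens hT fx IH (mul_mem (mul_mem m1 hg) (inv_mem m1)) (h.tens_of_tn ((m4.mul H).mul (m4.symm h.pw)))
  exact ((NG h.pw h.hW).mul_mem_cancel_left m2).1 (((NG h.pw h.hW).mul_mem_cancel_right (inv_mem m2)).1 this)

end Ov

end Cfsg.Lib.Forms.C7O
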