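import Cfsg.Agent.Lib.Max.Dh

/-!
# Groups with commuting factors whose involutions fix a unique coset
-/

set_option autoImplicit false

namespace Cfsg.Lib.Forms.C7O

variable {G : Type*} [Group G]

theorem dihedral [Finite G] {a b : G} (ha : a * a = 1) (hb : b * b = 1) {H : Subgroup G} (h1 : a ∈ H) (h2 : b ∈ H) :
    (∃ c ∈ H, c * a * c⁻¹ = b) ∨ ∃ z, z ≠ 1 ∧ z * z = 1 ∧ a * z = z * a ∧ b * z = z * b ∧ ∃ c ∈ H, ∃ d ∈ H,
      c * z = z * c ∧ d * z = z * d ∧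
      (a * z = c * a * c⁻¹ ∧ b * z = d * b * d⁻¹ ∨ a * z = c * b * c⁻¹ ∧ b * z = d * a * d⁻¹) := by
  have k1 : ∀ i : ℕ, a * ((a * b) ^ i)⁻¹ = (a * b) ^ i * a := fun i => by
    have := Qd.inv_pow_conj (a := a) (s := (a * b)⁻¹) (by
      rw [mul_inv_rev, inv_eq_of_mul_eq_one_right ha, inv_eq_of_mul_eq_one_right hb, mul_inv_rev,
        inv_eq_of_mul_eq_one_right ha, inv_eq_of_mul_eq_one_right hb, mul_assoc]) i
    rw [inv_pow, inv_inv] at this
    exact this.symm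
  have k2 : ∀ i : ℕ, b * ((a * b) ^ i)⁻¹ = (a * b) ^ i * b := fun i => by
    have := Qd.inv_pow_conj (a := b) (s := (a * b)⁻¹) (by
      rw [inv_inv, mul_inv_rev, inv_eq_of_mul_eq_one_right ha, inv_eq_of_mul_eq_one_right hb, ← mul_assoc, hb,
        mul_assoc, hb, one_mul, mul_one]) i
    rw [inv_pow, inv_inv] at this
    exact this.symm
  have k3 : ∀ i : ℕ, (a * b) ^ i ∈ H := fun i => H.pow_mem (H.mul_mem h1 h2) i
  have k4 : a * b * b = a := by rw [mul_assoc, hb, mul_one]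
  have k5 : ∀ i : ℕ, (a * b) ^ i * a * ((a * b) ^ i)⁻¹ = (a * b) ^ (i + i) * a := fun i => by
    rw [mul_assoc, k1, ← mul_assoc, ← pow_add]
  have k6 : ∀ i : ℕ, (a * b) ^ i * b * ((a * b) ^ i)⁻¹ = (a * b) ^ (i + i) * b := fun i => by
    rw [mul_assoc, k2, ← mul_assoc, ← pow_add]
  have k7 := pow_orderOf_eq_one (a * b)
  have k8 := orderOf_pos (a * b)
  rcases Nat.even_or_odd (orderOf (a * b)) with ⟨m, hm⟩ | ⟨m, hm⟩
  swap
  · refine Or.inl ⟨_, k3 m, ?_⟩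
    rw [hm, pow_succ, two_mul, ← mul_assoc, mul_eq_one_iff_eq_inv, inv_eq_of_mul_eq_one_right hb] at k7
    rw [k5, k7]
  have z2 : (a * b) ^ m * (a * b) ^ m = 1 := by rw [← pow_add, ← hm, k7]
  have z3 : ((a * b) ^ m)⁻¹ = (a * b) ^ m := inv_eq_of_mul_eq_one_right z2
  have z4 := k1 m
  have z5 := k2 m
  rw [z3] at z4 z5
  have z6 : ∀ i : ℕ, (a * b) ^ i * (a * b) ^ m = (a * b) ^ m * (a * b) ^ i := fun i => pow_mul_comm _ _ _
  refine Or.inr ⟨_, pow_ne_one_of_lt_orderOf (n := m) (by omega) (by omega), z2, z4, z5, ?_⟩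
  rcases Nat.even_or_odd m with ⟨j, rfl⟩ | ⟨j, rfl⟩
  · exact ⟨_, k3 j, _, k3 j, z6 _, z6 _, Or.inl ⟨by rw [k5, z4], by rw [k6, z5]⟩⟩
  · refine ⟨_, k3 (j + 1), _, k3 j, z6 _, z6 _, Or.inr ⟨?_, ?_⟩⟩
    · rw [k6, z4, show j + 1 + (j + 1) = 2 * j + 1 + 1 by omega, pow_succ _ (2 * j + 1), mul_assoc, k4]
    · rw [k5, z5, pow_succ, two_mul, mul_assoc, k4]

variable {T : Type*} {M : Subgroup G} {L : T → Subgroup G}

variable (L) in
/-- Involutions of a factor. -/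
structure Iv (i : T) (s : G) : Prop where
  mem : s ∈ L i
  sq : s * s = 1
  ne : s ≠ 1

variable (M L) in
/-- Commuting centre-free factors whose involutions fix one coset of `M`. -/
structure Sl : Prop where
  le : ∀ i, L i ≤ M
  comm : ∀ i j, i ≠ j → ∀ a ∈ L i, ∀ b ∈ L j, a * b = b * a
  cen : ∀ i, ∀ a ∈ L i, (∀ b ∈ L i, a * b = b * a) → a = 1
  perm : ∀ m ∈ M, ∀ i, ∃ j, ∀ a ∈ L i, m * a * m⁻¹ ∈ L j
  four : ∀ i s, Iv L i s → ∃ a, Iv L i a ∧ a ≠ s ∧ a * s = s * a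
  uq : ∀ i s, Iv L i s → ∀ g, g * s * g⁻¹ ∈ M → g ∈ M

theorem Iv.mul {i : T} {a s : G} (ha : Iv L i a) (hs : Iv L i s) (h1 : a ≠ s) (h2 : a * s = s * a) :
    Iv L i (a * s) :=
  ⟨mul_mem ha.mem hs.mem, by rw [mul_assoc, ← mul_assoc s, ← h2, mul_assoc, hs.sq, mul_one, ha.sq], fun h =>
    h1 (by rw [eq_inv_of_mul_eq_one_left h, inv_eq_of_mul_eq_one_right hs.sq])⟩

theorem Iv.conj {i j : T} {m s : G} (hs : Iv L i s) (h : m * s * m⁻¹ ∈ L j) : Iv L j (m * s * m⁻¹) :=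
  ⟨h, by rw [conj_mul, hs.sq]; simp, by simpa using hs.ne⟩

theorem Sl.of_base (i₀ : T) (le : ∀ i, L i ≤ M) (comm : ∀ i j, i ≠ j → ∀ a ∈ L i, ∀ b ∈ L j, a * b = b * a)
    (perm : ∀ m ∈ M, ∀ i, ∃ j, ∀ a ∈ L i, m * a * m⁻¹ ∈ L j)
    (tr : ∀ i, ∃ m ∈ M, ∀ a, a ∈ L i ↔ m * a * m⁻¹ ∈ L i₀)
    (cen : ∀ a ∈ L i₀, (∀ b ∈ L i₀, a * b = b * a) → a = 1)
    (four : ∀ s, Iv L i₀ s → ∃ a, Iv L i₀ a ∧ a ≠ s ∧ a * s = s * a)
    (uq : ∀ s, Iv L i₀ s → ∀ g, g * s * g⁻¹ ∈ M → g ∈ M) : Sl M L := by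
  refine ⟨le, comm, fun i a ha H => ?_, perm, fun i s hs => ?_, fun i s hs g hg => ?_⟩ <;> obtain ⟨m, m1, m2⟩ := tr i
  · simpa using cen _ ((m2 a).1 ha) fun b hb => by
      have := H (m⁻¹ * b * m) ((m2 _).2 (by simpa [mul_assoc] using hb))
      calc _ = m * (a * (m⁻¹ * b * m)) * m⁻¹ := by group
        _ = _ := by rw [this]; group
  · obtain ⟨a, a1, a2, a3⟩ := four _ (hs.conj ((m2 s).1 hs.mem))
    refine ⟨m⁻¹ * a * m⁻¹⁻¹, a1.conj ((m2 _).2 (by simpa [mul_assoc] using a1.mem)), fun H => a2 (by rw [← H]; group), ?_⟩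
    calc _ = m⁻¹ * (a * (m * s * m⁻¹)) * m := by group
      _ = _ := by rw [a3]; group
  · exact (M.mul_mem_cancel_right (inv_mem m1)).1 (uq _ (hs.conj ((m2 s).1 hs.mem)) _ (by simpa [mul_assoc] using hg))

namespace Sl

variable (h : Sl M L)
include h

theorem cm {i j : T} (hij : i ≠ j) {a b : G} (ha : a ∈ L i) (hb : b ∈ L j) : Commute a b := h.comm i j hij a ha b hb

theorem iv {i : T} {s : G} (hs : Iv L i s) {g x : G} (hx : x = g * s * g⁻¹) (hM : x ∈ M) : ∃ j, Iv L j x := by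
  subst hx
  obtain ⟨j, hj⟩ := h.perm g (h.uq i s hs g hM) i
  exact ⟨j, hj s hs.mem, by rw [conj_mul, hs.sq]; simp, by simpa using hs.ne⟩

theorem cent {i : T} {s z : G} (hs : Iv L i s) (hz : s * z = z * s) : z ∈ M :=
  h.uq i s hs z (by rw [← hz, mul_inv_cancel_right]; exact h.le i hs.mem)

theorem three {i j k m n : T} (h1 : i ≠ j) (h2 : i ≠ k) (h3 : i ≠ m) (h4 : i ≠ n) {x y z u v : G} (hx : x ∈ L i)
    (hy : y ∈ L j) (hz : z ∈ L k) (hu : u ∈ L m) (hv : v ∈ L n) (H : x * y * z = u * v) : x = 1 :=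
  h.cen i x hx fun b hb => by
    rw [show x = u * v * z⁻¹ * y⁻¹ by rw [← H]; group]
    exact ((((h.cm h3 hb hu).mul_right (h.cm h4 hb hv)).mul_right (h.cm h2 hb hz).inv_right).mul_right
      (h.cm h1 hb hy).inv_right).symm

theorem two {i j k : T} (h1 : i ≠ j) {x y : G} (hx : x ∈ L i) (hy : y ∈ L j) (H : x * y ∈ L k) : x = 1 ∨ y = 1 := by
  by_cases h2 : i = k
  · subst h2
    exact Or.inr (h.three h1.symm h1.symm h1.symm h1.symm hy hx (one_mem _) H (one_mem _) (by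
      rw [(h.cm h1 hx hy).eq])) 
  · exact Or.inl (h.three h1 h1 h2 h2 hx hy (one_mem _) H (one_mem _) rfl)

theorem three' {i j k m n : T} (h1 : i ≠ j) (h2 : i ≠ k) (h3 : j ≠ k) {x y z u v : G} (hx : x ∈ L i)
    (hy : y ∈ L j) (hz : z ∈ L k) (hu : u ∈ L m) (hv : v ∈ L n) (H : x * y * z = u * v) : x = 1 ∨ y = 1 ∨ z = 1 := by
  by_cases a1 : i ≠ m ∧ i ≠ n
  · exact Or.inl (h.three h1 h2 a1.1 a1.2 hx hy hz hu hv H)
  by_cases a2 : j ≠ m ∧ j ≠ n
  · exact Or.inr (Or.inl (h.three h1.symm h3 a2.1 a2.2 hy hx hz hu hv (by rw [← H, (h.cm h1 hx hy).eq])))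
  refine Or.inr (Or.inr (h.three h2.symm h3.symm (by grind) (by grind) hz hx hy hu hv ?_))
  rw [← H, mul_assoc, ((h.cm h2 hx hz).mul_left (h.cm h3 hy hz)).eq]

theorem tri {i j k l : T} (hij : i ≠ j) {s t y : G} (hs : Iv L i s) (ht : Iv L j t) (hy : Iv L k y)
    (H : y * (s * t) ∈ L l) : y = s ∨ y = t := by
  have e : ∀ {i s}, Iv L i s → y * s = 1 → y = s := fun hs h => by
    rw [eq_inv_of_mul_eq_one_left h, inv_eq_of_mul_eq_one_right hs.sq]
  by_cases h1 : k = i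
  · subst h1
    exact Or.inl (e hs ((h.two hij (mul_mem hy.mem hs.mem) ht.mem (by rwa [mul_assoc])).resolve_right ht.ne))
  by_cases h2 : k = j
  · subst h2
    exact Or.inr (e ht ((h.two hij.symm (mul_mem hy.mem ht.mem) hs.mem (by
      rwa [mul_assoc, ← (h.cm hij hs.mem ht.mem).eq])).resolve_right hs.ne))
  rcases h.three' h1 h2 hij hy.mem hs.mem ht.mem H (one_mem (L i)) (by rw [mul_one, mul_assoc]) with h | h | h
  exacts [absurd h hy.ne, absurd h hs.ne, absurd h ht.ne]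

variable [Finite G]

theorem c1 {i j : T} (hij : i ≠ j) {s t g : G} (hs : Iv L i s) (ht : Iv L j t) (hg : g * (s * t) = s * t * g) :
    g ∈ M := by
  by_contra h0
  have w0 := h.le i hs.mem
  have w1 := mul_mem w0 (h.le j ht.mem)
  have e0 : ∀ {c}, c ∈ Subgroup.centralizer {s * t} ↔ Commute c (s * t) := Subgroup.mem_centralizer_singleton_iff
  have e1 : g * s * g⁻¹ * (s * t) = g * t * g⁻¹ := by
    rw [mul_assoc, (Commute.inv_left hg).eq, ← mul_assoc, mul_assoc g, ← mul_assoc s, hs.sq, one_mul]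
  have e2 : ∀ c, Commute c (s * t) → c * (g * s * g⁻¹) * c⁻¹ * (s * t) = c * g * t * (c * g)⁻¹ := fun c hc => by
    rw [mul_assoc, hc.inv_left.eq, ← mul_assoc, mul_assoc c, e1]; group
  have e3 : Commute s (s * t) := (Commute.refl s).mul_right (h.cm hij hs.mem ht.mem)
  have key : ∀ a, Iv L i a → a ≠ s → a * s = s * a → g⁻¹ * (a * t) * g ∈ M := fun a ha a1 a2 => by
    have a3 : Commute a (s * t) := Commute.mul_right a2 (h.cm hij ha.mem ht.mem)
    have a4 : ∀ k x c, Iv L k x → a * (s * t) ≠ c * x * c⁻¹ := fun k x c hx H => by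
      obtain ⟨l, hl⟩ := h.iv hx H (mul_mem (h.le i ha.mem) w1)
      exact (h.two hij (ha.mul hs a1 a2).mem ht.mem (by rw [mul_assoc]; exact hl.mem)).elim (ha.mul hs a1 a2).ne ht.ne
    rcases dihedral ha.sq (b := g * s * g⁻¹) (by rw [conj_mul, hs.sq]; simp) (e0.2 a3)
      (e0.2 ((Commute.mul_left hg e3).mul_left (Commute.inv_left hg))) with ⟨c, c1, c2⟩ | ⟨z, z1, z2, z3, z4, c, c1, d, d1, -, -, H⟩
    · refine absurd ?_ (a4 j t (c⁻¹ * g) ht)
      rw [← e2 _ (e0.1 c1).inv_left, ← c2]; group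
    have z5 := h.cent ha z3
    have z6 : g⁻¹ * z * g ∈ M := h.cent hs (by
      rw [← mul_left_inj g⁻¹, ← mul_right_inj g]
      simpa [mul_assoc] using z4)
    rcases H with ⟨H1, H2⟩ | ⟨H1, -⟩
    · obtain ⟨k, hk⟩ := h.iv hs (g := g⁻¹ * d * g) (x := s * (g⁻¹ * z * g)) (by
        rw [← mul_left_inj g⁻¹, ← mul_right_inj g]
        simpa [mul_assoc] using H2) (mul_mem w0 z6)
      obtain ⟨l, hl⟩ := h.iv ht (g := g⁻¹ * d * g) (x := s * (g⁻¹ * z * g) * (s * t)) (by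
        have := e2 d (e0.1 d1)
        rw [← H2] at this
        calc _ = g⁻¹ * (g * s * g⁻¹ * z * (g * (s * t))) := by group
          _ = g⁻¹ * (g * s * g⁻¹ * z * (s * t)) * g := by rw [hg]; group
          _ = _ := by rw [this]; group) (mul_mem (mul_mem w0 z6) w1)
      rcases h.tri hij hs ht hk hl.mem with H | H
      · exact absurd (by simpa [mul_assoc, inv_mul_eq_one] using H) z1
      · refine absurd ?_ (a4 i a c ha)
        rw [← H1]
        congr 1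
        calc _ = g * (s * t) * g⁻¹ := by rw [hg]; group
          _ = g * (s * s) * g⁻¹ * z := by rw [← H]; group
          _ = _ := by rw [hs.sq]; group
    · obtain ⟨k, hk⟩ := h.iv hs (g := c * g) (x := a * z) (by rw [H1]; group) (mul_mem (h.le i ha.mem) z5)
      obtain ⟨l, hl⟩ := h.iv ht (g := c * g) (x := a * z * (s * t)) (by rw [H1, e2 c (e0.1 c1)])
        (mul_mem (mul_mem (h.le i ha.mem) z5) w1)
      have z7 : ∀ y, a * z = y → z = a * y := fun y hy => by rw [← hy, ← mul_assoc, ha.sq, one_mul]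
      rcases h.tri hij hs ht hk hl.mem with H | H
      · exact absurd (inv_mem_iff.1 (h.uq i _ (ha.mul hs a1 a2) g⁻¹ (by rwa [inv_inv, ← z7 _ H]))) h0
      · rwa [← z7 _ H]
  obtain ⟨a, ha, a1, a2⟩ := h.four i s hs
  refine h0 (inv_mem_iff.1 (h.uq i s hs g⁻¹ ?_))
  convert mul_mem (inv_mem (key a ha a1 a2)) (key _ (ha.mul hs a1 a2) (by simpa using ha.ne) (by
    rw [← mul_assoc, a2])) using 1
  rw [mul_assoc a, (h.cm hij hs.mem ht.mem).eq]; group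

theorem c2 {i j : T} {s t g : G} (hs : Iv L i s) (ht : Iv L j t) (hg : g ∉ M) {H : Subgroup G} (h1 : s ∈ H)
    (h2 : g * t * g⁻¹ ∈ H) : ∃ c ∈ H, c * s * c⁻¹ = g * t * g⁻¹ := by
  refine (dihedral hs.sq (by rw [conj_mul, ht.sq]; simp) h1 h2).resolve_right ?_
  rintro ⟨z, z1, z2, z3, z4, c, -, d, -, -, -, H⟩
  have z5 := mul_mem (h.le i hs.mem) (h.cent hs z3)
  obtain ⟨k, hk⟩ : ∃ k, Iv L k (s * z) := H.elim (fun H => h.iv hs H.1 z5) fun H =>
    h.iv ht (g := c * g) (by rw [H.1]; group) z5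
  have z7 : z = s * (s * z) := by rw [← mul_assoc, hs.sq, one_mul]
  by_cases h3 : i = k
  · subst h3
    refine hg (inv_mem_iff.1 (h.uq i z ⟨z7 ▸ mul_mem hs.mem hk.mem, z2, z1⟩ g⁻¹ (h.cent ht ?_)))
    rw [← mul_left_inj g⁻¹, ← mul_right_inj g]
    simpa [mul_assoc] using z4
  · exact hg (h.uq j t ht g (h.c1 h3 hs hk (z7 ▸ z4)))

theorem c3 {i j : T} (hij : i ≠ j) {s t g : G} (hs : Iv L i s) (ht : Iv L j t) (hg : g ∉ M) :
    g⁻¹ * (s * t) * g ∈ M := by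
  have w0 := h.cm hij hs.mem ht.mem
  have w1 := mul_mem (h.le i hs.mem) (h.le j ht.mem)
  have w2 : s * t * (s * t) = 1 := by rw [mul_assoc, ← mul_assoc t, ← w0.eq, mul_assoc, ht.sq, mul_one, hs.sq]
  have w3 : g * s * g⁻¹ ∉ M := fun H => hg (h.uq i s hs g H)
  rcases dihedral (a := g * s * g⁻¹) (by rw [conj_mul, hs.sq]; simp) w2 (Subgroup.mem_top _) (Subgroup.mem_top _) with
    ⟨c, -, c2⟩ | ⟨z, z1, z2, z3, z4, c, -, d, -, -, d1, H⟩
  · obtain ⟨k, hk⟩ := h.iv hs (g := c * g) (x := s * t) (by rw [← c2]; group) w1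
    exact ((h.two hij hs.mem ht.mem hk.mem).elim hs.ne ht.ne).elim
  have z5 := h.c1 hij hs ht z4.symm
  have z6 : g⁻¹ * z * g ∈ M := h.cent hs (by
    rw [← mul_left_inj g⁻¹, ← mul_right_inj g]
    simpa [mul_assoc] using z3)
  have z8 : ∀ k, ¬ Iv L k z := fun k hk => hg (inv_mem_iff.1 (h.uq k z hk g⁻¹ (by rwa [inv_inv])))
  rcases H with ⟨H, -⟩ | ⟨-, H⟩
  · obtain ⟨k, hk⟩ := h.iv hs (g := g⁻¹ * c * g) (x := s * (g⁻¹ * z * g)) (by
      rw [← mul_left_inj g⁻¹, ← mul_right_inj g]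
      simpa [mul_assoc] using H) (mul_mem (h.le i hs.mem) z6)
    have z7 : g⁻¹ * z * g = s * (s * (g⁻¹ * z * g)) := by rw [← mul_assoc s, hs.sq, one_mul]
    by_cases h3 : i = k
    · subst h3
      exact absurd (h.uq i (g⁻¹ * z * g) ⟨by rw [z7]; exact mul_mem hs.mem hk.mem, by simp [mul_assoc, ← mul_assoc z z, z2],
        by simpa [mul_assoc, inv_mul_eq_one] using z1⟩ g (by simpa [mul_assoc] using z5)) hg
    · refine h.c1 h3 hs hk ?_
      rw [← z7]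
      calc _ = g⁻¹ * (s * t * z) * g := by group
        _ = _ := by rw [z4]; group
  obtain ⟨l, hl⟩ := h.iv hs (g := d * g) (x := s * t * z) (by rw [H]; group) (mul_mem w1 z5)
  obtain ⟨y, hy⟩ : ∃ y, y = s * t * z := ⟨_, rfl⟩
  rw [← hy] at hl H
  have y1 : z = s * t * y := by rw [hy, ← mul_assoc, w2, one_mul]
  have y2 : Commute (s * t) y := hy ▸ (Commute.refl _).mul_right z4
  have k : ∀ {i j s t}, i ≠ j → Iv L i s → Iv L j t → Iv L i y → Commute (s * t) y → z ≠ s * t * y := by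
    intro i j s t hij hs ht hy y2 y1
    have y3 := h.cm hij hy.mem ht.mem
    have y4 : s * y = y * s := mul_right_cancel (b := t) (by rw [mul_assoc, y3.eq, ← mul_assoc, y2.eq, mul_assoc])
    rw [mul_assoc, ← y3.eq, ← mul_assoc] at y1
    by_cases y5 : s = y
    · exact z8 j (by rwa [y1, y5, hy.sq, one_mul])
    · exact w3 (h.c1 hij (hs.mul hy y5 y4) ht (y1 ▸ z3))
  by_cases h3 : l = i
  · exact absurd y1 (k hij hs ht (h3 ▸ hl) y2)
  by_cases h4 : l = j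
  · exact absurd y1 (w0.eq ▸ k hij.symm ht hs (h4 ▸ hl) (w0.eq ▸ y2))
  obtain ⟨a, ha, a1, a2⟩ := h.four i s hs
  have a3 : Commute a z := y1 ▸ (Commute.mul_right a2 (h.cm hij ha.mem ht.mem)).mul_right
    (h.cm (Ne.symm h3) ha.mem hl.mem)
  have a4 : Commute t (a * z) := (h.cm hij ha.mem ht.mem).symm.mul_right (y1 ▸ (w0.symm.mul_right
    (Commute.refl t)).mul_right (h.cm (Ne.symm h4) ht.mem hl.mem))
  obtain ⟨e, e1, e2⟩ := h.c2 ha hs hg (H := Subgroup.centralizer {z}) (Subgroup.mem_centralizer_singleton_iff.2 a3)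
    (Subgroup.mem_centralizer_singleton_iff.2 z3)
  have e3 : Commute (d * e) z := Commute.mul_left d1 (Subgroup.mem_centralizer_singleton_iff.1 e1)
  have e4 : d * e * (a * z) * (d * e)⁻¹ = s * t := by
    calc _ = d * (e * a * e⁻¹) * d⁻¹ * (d * e * z * (d * e)⁻¹) := by group
      _ = _ := by rw [e2, ← H, e3.eq, mul_inv_cancel_right, hy, mul_assoc, z2, mul_one]
  have e5 := inv_mem (h.uq j t ht (d * e) (h.c1 hij hs ht (by rw [← e4, conj_mul, conj_mul, a4.eq])))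
  obtain ⟨m, hm⟩ := h.perm _ e5 i
  obtain ⟨n, hn⟩ := h.perm _ e5 j
  rcases h.three' hij (Ne.symm h3) (Ne.symm h4) (ha.mul hs a1 a2).mem ht.mem hl.mem (hm s hs.mem) (hn t ht.mem) (by
    rw [conj_mul, ← e4, y1]; group) with H | H | H
  exacts [absurd H (ha.mul hs a1 a2).ne, absurd H ht.ne, absurd H hl.ne]

theorem mem {i j : T} (hij : i ≠ j) {s t : G} (hs : Iv L i s) (ht : Iv L j t) (g : G) : g ∈ M := by
  by_contra hg
  obtain ⟨a, ha, a1, a2⟩ := h.four i s hs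
  refine hg (inv_mem_iff.1 (h.uq i _ (ha.mul hs a1 a2) g⁻¹ ?_))
  convert mul_mem (h.c3 hij ha ht hg) (inv_mem (h.c3 hij hs ht hg)) using 1
  nth_rw 1 [← inv_eq_of_mul_eq_one_right hs.sq]
  group

end Sl

end Cfsg.Lib.Forms.C7O
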