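import Cfsg.Agent.Lib.C7O.L
import Cfsg.Agent.Lib.HH.ThmB

/-!
# `O₃ ⊗ O₃`: centralisers of involutions
-/

namespace Cfsg.Lib.Forms.TF.O3

open Module Form TensorProduct Ten Qd O4

theorem le_of_cube {G F V : Type*} [Group G] [Finite G] {p : ℕ} [Fact p.Prime] [Field F] [CharP F p] [AddCommGroup V]
    [Module F V] [FiniteDimensional F V] (ρ : G →* End F V) (hf : ∀ g, ρ g = 1 → g = 1) (h5 : 5 ≤ p) {a : G}
    {K L : Subgroup G} (ha : a ^ p = 1) (hK : a ∈ Subgroup.normalizer (K : Set G)) (h0 : (ρ a - 1) ^ 3 = 0)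
    (h : K ⊓ Subgroup.centralizer ({a} : Set G) ≤ L) (h' : ∀ k ∈ K, k ∈ L → ∀ n, k ^ p ^ n = 1 → k = 1) : K ≤ L := by
  have hp := Core.isPGroup_zpowers_of_pow_eq_one (p := p) (x := a) (k := 1) (by rwa [pow_one])
  have hAK := Subgroup.zpowers_le.2 hK
  obtain ⟨T, h1, hT⟩ := Transfer.exists_sylowIn_ge hp (le_sup_left : _ ≤ _ ⊔ K)
  have h2 := hT.inf_of_le (sup_le hAK Subgroup.le_normalizer) le_sup_right
  have h3 : T ⊓ K = ⊥ := by
    by_contra h3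
    obtain ⟨⟨k, k1, k2⟩, k3⟩ := Subgroup.ne_bot_iff_exists_ne_one.1 (Core.inf_centralizer_ne_bot_of_isPGroup
      h2.isPGroup hp ((le_inf (h1.trans Subgroup.le_normalizer) hAK).trans (Subgroup.inf_normalizer_le_normalizer_inf))
      h3)
    obtain ⟨n, hn⟩ := h2.isPGroup ⟨k, k1⟩
    exact k3 (Subtype.ext (h' k k1.2 (h ⟨k1.2, Subgroup.centralizer_le (Set.singleton_subset_iff.2
      (Subgroup.mem_zpowers a)) k2⟩) n (congrArg Subtype.val hn)))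
  have h4 : a ∈ Subgroup.centralizer (K : Set G) := by
    by_contra h4
    rcases HH.thmB ρ (n := 0) ((Nat.Prime.coprime_iff_not_dvd Fact.out).2 (h2.eq_bot_iff.1 h3)).symm
      (fun g _ => hf g) hK (by simpa) (by simpa) h0 with h6 | ⟨m, q, l, m1, m2, -, -, -, -, h6⟩
    · simp at h6; omega
    · obtain rfl : m = 1 := by omega
      simp at h6; omega
  exact fun k hk => h ⟨hk, Subgroup.mem_centralizer_singleton_iff.2 (h4 k hk)⟩

variable {F U W : Type*} [Field F] [AddCommGroup U] [Module F U] [AddCommGroup W] [Module F W]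
  {β : Form (quadKind F) U} {ω : Form (quadKind F) W}

variable [FiniteDimensional F U] [FiniteDimensional F W] [Finite F] {X G : Subgroup (U ⊗[F] W ≃ₗ[F] U ⊗[F] W)}
  {D : Form (quadKind F) (U ⊗[F] W)}
  (h : St β ω D X G) (h2 : (2 : F) ≠ 0) (hU : finrank F U = 3) (hW : finrank F W = 3) (hI : 5 ≤ Nat.card F)
  (hS : ∀ e t, ω.Q e = 0 → e ≠ 0 → ω.Q t = 0 → t ≠ 0 → ∀ g ∈ X,
    (∀ u, ∃ u', g (u ⊗ₜ t) = u' ⊗ₜ e) → g ∈ tens F U W)
include h h2 hU hW hI hS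

omit [Finite F] hI hS [FiniteDimensional F W] in
theorem eq_one_of_fix {v : U} (hv : β.Q v ≠ 0) {k} (hk : k ∈ X) (hk' : k ∈ tens F U W)
    (H : ∀ w, k (v ⊗ₜ w) = v ⊗ₜ w) {e : W} (e0 : e ≠ 0) {y : U ⊗[F] W →ₗ[F] U ⊗[F] W}
    (hy : ∀ u, y (u ⊗ₜ e) = k (u ⊗ₜ e)) (hn : IsNilpotent (y - 1)) : k = 1 := by
  obtain ⟨a, ha⟩ := exists_left_of hk' (by rintro rfl; simp at hv) H
  obtain ⟨f, hf⟩ := h.nω.exists_ne_zero e0
  have a1 := eq_of_nil h.nβ h2 hU (a := a) (fun x x' => mul_right_cancel₀ hf (by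
    rw [← h.B, ← h.B, ← ha, ← ha, h.B_map hk])) hv (cu_injective (F := F) e0 (by
      simpa [ha] using H e)) (by
    obtain ⟨m, hm⟩ := hn
    have : ∀ (m : ℕ) u, ((y - 1) ^ m) (u ⊗ₜ e) = ((a - 1) ^ m) u ⊗ₜ e := fun m => by
      induction m with
      | zero => simp
      | succ m ih => intro u; simp [pow_succ, hy, ha, ih, sub_tmul]
    exact ⟨m, LinearMap.ext fun u => cu_injective (F := F) e0 (by simp [← this, hm])⟩)
  exact LinearEquiv.toLinearMap_injective (TensorProduct.ext' fun u w => by simp [ha, a1])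

theorem mem_of_fix {v : U} (hv : β.Q v ≠ 0) {k} (hk : k ∈ X) (H : ∀ w, k (v ⊗ₜ w) = v ⊗ₜ w) :
    k ∈ tens F U W := by
  have : Finite (U ⊗[F] W) := Module.finite_of_finite F
  have : Finite (U ⊗[F] W ≃ₗ[F] U ⊗[F] W) := Finite.of_injective _ DFunLike.coe_injective
  have := Module.nontrivial_of_finrank_pos (R := F) (M := U ⊗[F] W) (by rw [finrank_tensorProduct, hU, hW]; omega)
  obtain ⟨p, hp⟩ := CharP.exists F
  have := Fact.mk (CharP.char_is_prime F p)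
  obtain ⟨e, f, hf⟩ := Quad.exists_isHyp h.nω (by omega)
  have v0 : v ≠ 0 := by rintro rfl; simp at hv
  let K : Subgroup (U ⊗[F] W ≃ₗ[F] U ⊗[F] W) :=
    { carrier := {k | k ∈ X ∧ ∀ w, k (v ⊗ₜ w) = v ⊗ₜ w}
      one_mem' := ⟨X.one_mem, fun _ => rfl⟩
      mul_mem' := fun {a b} ha hb => ⟨X.mul_mem ha.1 hb.1, fun w => by simp [ha.2, hb.2]⟩
      inv_mem' := fun {a} ha => ⟨X.inv_mem ha.1, fun w => a.injective (by rw [lin_apply_inv, ha.2])⟩ }
  have := isMulCommutative_eichAt (D := ω) e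
  have hA : ∀ a ∈ (ω.eichAt e).map (rt U ω), ∃ z d hd, a = rt U ω (ω.eich e z d hd) := by
    rintro _ ⟨_, rfl | ⟨z, d, hd, rfl⟩, rfl⟩
    · exact ⟨0, _, isEich_quad hf.Q_e (by simp), by rw [quad_eich_zero]⟩
    · exact ⟨z, d, hd, rfl⟩
  have a1 : ∀ a ∈ (ω.eichAt e).map (rt U ω), a ^ p = 1 := fun a ha => by
    obtain ⟨z, d, hd, rfl⟩ := hA a ha
    exact pow_of_cube h2 (rt_cube hd)
  have a2 : (ω.eichAt e).map (rt U ω) ≤ Subgroup.normalizer (K : Set _) := fun a ha => by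
    obtain ⟨z, d, hd, rfl⟩ := hA a ha
    have hX : rt U ω (ω.eich e z d hd) ∈ X := h.eich_mem hd
    refine Transfer.mem_normalizer_of_cj_le ?_
    rintro _ ⟨k, hk, rfl⟩
    refine ⟨X.mul_mem (X.mul_mem hX hk.1) (X.inv_mem hX), fun w => ?_⟩
    change rt U ω _ (k ((rt U ω _)⁻¹ _)) = _
    rw [← map_inv, rt_tmul, hk.2, rt_tmul, isom_apply_inv]
  have a3 : ∀ a ∈ (ω.eichAt e).map (rt U ω), a ≠ 1 → K ⊓ Subgroup.centralizer {a} ≤ tens F U W := fun a ha a1 k hk => by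
    obtain ⟨z, d, hd, rfl⟩ := hA a ha
    refine mem_of_conj h h2 hS hd hd hf.e_ne_zero hf.e_ne_zero (fun d0 => a1 ?_) hk.1.1
      (Subgroup.mem_centralizer_singleton_iff.1 hk.2)
    obtain ⟨c, rfl⟩ := mem_span_of_index (not_hasTS h.nω hW) hf.Q_e hf.e_ne_zero (hd.quad_eq.symm.trans d0) hd.B_ez
    refine LinearEquiv.ext fun x => ?_
    simp [rt_eich, d0, smul_tmul']
  have a4 : ∀ k ∈ K, k ∈ tens F U W → ∀ n, k ^ p ^ n = 1 → k = 1 := fun k hk hk' n hn =>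
    eq_one_of_fix h h2 hU hW hv hk.1 hk' hk.2 hf.e_ne_zero (fun _ => rfl) (nil_of_pow hn)
  obtain ⟨z, z1, z2⟩ := exists_hp_Q h.nω h2 hW.ge hf
  have z3 := (ω.mem_hp.1 z1).1
  have hd : ∀ c : F, ω.IsEich e (c • z) _ := fun c => isEich_quad hf.Q_e (by simp [z3])
  have z4 : Function.Injective fun c : F => rt U ω (ω.eich e (c • z) _ (hd c)) := fun c c' hc => by
    have := congrArg (fun g => ctr U (ω.B f) (g (v ⊗ₜ z))) hc
    simp [rt_tmul, eich_apply, z3, hf.B_fe, quad_B_self] at this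
    exact mul_right_cancel₀ (mul_ne_zero h2 z2) (add_left_cancel (smul_left_injective F v0 this))
  by_cases h5 : 5 ≤ p
  · refine le_of_cube (K := K) LinearEquiv.automorphismGroup.toLinearMapMonoidHom (fun g hg => LinearEquiv.toLinearMap_injective hg)
      h5 (a1 _ ⟨_, eich_mem_eichAt (hd 1), rfl⟩) (a2 ⟨_, eich_mem_eichAt (hd 1), rfl⟩) (rt_cube (hd 1))
      (a3 _ ⟨_, eich_mem_eichAt (hd 1), rfl⟩ fun h6 => one_ne_zero (z4 (h6.trans ?_))) a4 ⟨hk, H⟩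
    exact LinearEquiv.ext fun x => by simp [rt_eich]
  refine le_of_pfix (p := p) (A := (ω.eichAt e).map (rt U ω)) (K := K) (fun hc => ?_)
    (fun ⟨a, ha⟩ => ⟨1, Subtype.ext (by simpa using a1 a ha)⟩) a2 a3 a4 ⟨hk, H⟩
  have b1 := Nat.card_le_card_of_injective (f := fun c : F => (⟨_, _, eich_mem_eichAt (hd c), rfl⟩ :
    (ω.eichAt e).map (rt U ω))) fun c c' hc => z4 (congrArg Subtype.val hc)
  have b2 := Nat.le_of_dvd (Fact.out : p.Prime).pos (IsCyclic.exponent_eq_card (α := (ω.eichAt e).map (rt U ω)) ▸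
    Monoid.exponent_dvd_of_forall_pow_eq_one fun a => Subtype.ext (a1 a a.2))
  omega

theorem mem_of_map_fix {v v' : U} (hv : β.Q v ≠ 0) (hv' : β.Q v' ≠ 0) {g} (hg : g ∈ X)
    (H : ∀ w, ∃ w', g (v ⊗ₜ w) = v' ⊗ₜ w') : g ∈ tens F U W := by
  have v0 : v' ≠ 0 := by rintro rfl; simp at hv'
  obtain ⟨ψ, hψ⟩ := exists_dual_one (F := F) v0
  obtain ⟨b, hb⟩ : ∃ b : W →ₗ[F] W, ∀ w, g (v ⊗ₜ w) = v' ⊗ₜ b w :=
    ⟨ctl W ψ ∘ₗ g ∘ₗ mk F U W v, fun w => by obtain ⟨w', hw⟩ := H w; simp [hw, hψ]⟩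
  obtain ⟨μ, hμ⟩ : ∃ μ, μ = β.Q v / β.Q v' := ⟨_, rfl⟩
  have μ0 : μ ≠ 0 := hμ ▸ div_ne_zero hv hv'
  have b1 : ∀ w w', ω.B (b w) (b w') = μ * ω.B w w' := fun w w' => by
    have := h.B_map hg (v ⊗ₜ w) (v ⊗ₜ w')
    rw [hb, hb, h.B, h.B, quad_B_self, quad_B_self] at this
    rw [hμ]; field_simp
    exact mul_left_cancel₀ h2 (by linear_combination this)
  have b2 : ∀ w, ω.Q (b w) = μ * ω.Q w := fun w => mul_left_cancel₀ h2 (by
    rw [← quad_B_self, b1, quad_B_self]; ring)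
  have b3 : Function.Injective b := (injective_iff_map_eq_zero _).2 fun w hw => h.nω w fun y => by
    simpa [hw, μ0] using (b1 w y).symm
  obtain ⟨e, f, hf⟩ := Quad.exists_isHyp h.nω (by omega)
  obtain ⟨z, z1, z2⟩ := exists_hp_Q h.nω h2 (by omega) hf
  have hd := isEich_quad hf.Q_e (ω.mem_hp.1 z1).1
  have hd' := isEich_quad (D := ω) (e := b e) (z := μ⁻¹ • b z) (by rw [b2, hf.Q_e, mul_zero])
    (by simp [b1, hd.B_ez])
  have e1 : b e ≠ 0 := (map_ne_zero_iff _ b3).2 hf.e_ne_zero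
  have x1 : rt U ω (ω.eich _ _ _ hd) ∈ X := h.eich_mem hd
  have x2 : rt U ω (ω.eich _ _ _ hd') ∈ X := h.eich_mem hd'
  have k0 := X.mul_mem (X.mul_mem (X.mul_mem hg x1) (X.inv_mem hg)) (X.inv_mem x2)
  have k1 : ∀ w, (g * rt U ω (ω.eich _ _ _ hd) * g⁻¹ * (rt U ω (ω.eich _ _ _ hd'))⁻¹) (v' ⊗ₜ w) = v' ⊗ₜ w :=
    fun w => by
      obtain ⟨w, rfl⟩ := (ω.eich _ _ _ hd').1.surjective w
      obtain ⟨w, rfl⟩ := (LinearMap.injective_iff_surjective.1 b3) w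
      rw [LinearEquiv.mul_apply, ← rt_tmul, lin_inv_apply, LinearEquiv.mul_apply, ← hb, lin_inv_apply,
        LinearEquiv.mul_apply, rt_tmul, hb, hb, rt_tmul]
      congr 1
      simp only [eich_apply, map_add, map_sub, map_smul, b1, b2, quad_Q_smul, RingHom.id_apply, quadKind_ε,
        LinearMap.smul_apply, smul_eq_mul]
      match_scalars <;> field_simp
  have k2 := eq_one_of_fix h h2 hU hW hv' k0 (mem_of_fix h h2 hU hW hI hS hv' k0 k1) k1 e1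
    (y := (g * rt U ω (ω.eich _ _ _ hd) * g⁻¹ : U ⊗[F] W ≃ₗ[F] U ⊗[F] W)) (fun u => by
      conv_rhs => rw [LinearEquiv.mul_apply, ← map_inv, rt_tmul, isom_inv_apply_eq.2 (eich_apply_self _ hd')]
      rfl) ⟨3, LinearMap.ext fun x => by
      obtain ⟨x, rfl⟩ := g.surjective x
      have := congrArg g (LinearMap.congr_fun (rt_cube (U := U) hd) x)
      simpa [pow_succ, lin_inv_apply] using this⟩
  exact mem_of_conj h h2 hS hd hd' hf.e_ne_zero e1 z2 hg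
    (mul_inv_eq_iff_eq_mul.1 (mul_inv_eq_one.1 k2))

theorem mem_of_sv {v v' : U} (hv : β.Q v ≠ 0) (hv' : β.Q v' ≠ 0) {g} (hg : g ∈ X)
    (H : g * sv W β v = sv W β v' * g) : g ∈ tens F U W :=
  mem_of_map_fix h h2 hU hW hI hS hv hv' hg fun w => fix_sv h2 (by
    simpa [sv_self hv] using (congrArg (· (v ⊗ₜ w)) H).symm)

end Cfsg.Lib.Forms.TF.O3
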