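import Cfsg.Agent.Lib.C7O.E
import Cfsg.Agent.Lib.Max.C7O2

/-!
# Orthogonal tensor powers: stabilisers of slices for three-dimensional factors
-/

namespace Cfsg.Lib.Forms.C7O

open Module Form TensorProduct Ten Qd TF C7 O4

variable {F U W : Type*} [Field F] [AddCommGroup U] [Module F U] [AddCommGroup W] [Module F W]
  {β : Form (quadKind F) U} {ω : Form (quadKind F) W} {D : Form (quadKind F) (U ⊗[F] W)}
  {X : Subgroup (U ⊗[F] W ≃ₗ[F] U ⊗[F] W)} {g : U ⊗[F] W ≃ₗ[F] U ⊗[F] W} {e : W} [FiniteDimensional F W]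
  [FiniteDimensional F U] [Nontrivial U] (hs : So β ω D X)
include hs

theorem levi (he : ω.Q e = 0) (h0 : e ≠ 0) (hW : 3 ≤ finrank F W) (hg : g ∈ X) (H : ∀ u, ∃ u', g (u ⊗ₜ e) = u' ⊗ₜ e) :
    ∃ t ∈ tens F U W, t ∈ D.isom ∧ IsQ U ω e (t⁻¹ * g) := by
  have h := hs.st
  have hg' := hs.le hg
  have hM : ∀ k ∈ X, IsQ U ω e k → ∀ w, ω.B e w = 0 → ∃ c : F, ∀ u, k (u ⊗ₜ w) = u ⊗ₜ w + c • u ⊗ₜ e :=
    fun k hk h1 w hw => by
      obtain ⟨b, hb⟩ := hs.q e he h0 k hk h1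
      obtain ⟨v, hv⟩ := exists_ne (0 : U)
      obtain ⟨s, hs⟩ := h1.sub (v ⊗ₜ w) (by simp [hw])
      obtain ⟨c, hc⟩ := mem_span_of_tmul (F := F) (w := b w - w) (e := e) hv (by
        rw [tmul_sub, ← hb, hs, add_sub_cancel_left])
      exact ⟨c, fun u => by rw [hb, eq_add_of_sub_eq' hc, tmul_add, tmul_smul]⟩
  obtain ⟨χ, hχ⟩ := exists_dual_one (F := F) h0
  have h1 : ∀ v, g (v ⊗ₜ e) = ctr U χ (g (v ⊗ₜ e)) ⊗ₜ e := fun v => by
    obtain ⟨v', hv⟩ := H v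
    simp [hv, hχ]
  let a : U ≃ₗ[F] U := LinearEquiv.ofInjectiveEndo (ctr U χ ∘ₗ g ∘ₗ cu U e)
    ((injective_iff_map_eq_zero _).2 fun v hv => cu_injective h0 (g.injective (by
      simp only [LinearMap.comp_apply, cu_apply, LinearEquiv.coe_coe] at hv
      rw [cu_apply, h1 v, hv]; simp)))
  have ha : ∀ v, g (v ⊗ₜ e) = a v ⊗ₜ e := h1
  have hp : ∀ x, ctr U (ω.B e) x = 0 → ctr U (ω.B e) (g x) = 0 := fun x hx => h.nβ _ fun u => by
    rw [β.eq_zero_comm, ← h.B_left, ← lin_apply_inv a u, ← ha, h.B_map hg', h.B_left, hx, map_zero]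
  obtain ⟨v, hv⟩ := exists_ne (0 : U)
  obtain ⟨ψ, hψ⟩ := exists_dual_one (F := F) (a.map_ne_zero_iff.2 hv)
  let b : W →ₗ[F] W := ctl W ψ ∘ₗ g ∘ₗ TensorProduct.mk F U W v
  have hbe : b e = e := by simp [b, ha, hψ]
  have hb : ∀ x w, ω.B e w = 0 → ∃ u, g (x ⊗ₜ w) = a x ⊗ₜ b w + u ⊗ₜ e := fun x w hw => by
    obtain ⟨u, hu⟩ := mem_range_cu (U := U) h0 (Y := g (x ⊗ₜ w) - a x ⊗ₜ b w) fun φ hφ => by
      obtain ⟨z, hz⟩ := h.nω.exists_rep φ
      obtain rfl : ω.B z = φ := LinearMap.ext hz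
      obtain ⟨d, hd⟩ := exists_isEich he (ω.eq_zero_symm hφ)
      have h2 := (h.eich_isQ hd).2
      obtain ⟨c, hc⟩ := hM _ (X.mul_mem (X.mul_mem (X.inv_mem hg) (hs.eich_mem hd)) hg)
        ⟨fun u => g.injective (by simp [ha, eich_apply_self, lin_apply_inv]),
        fun x hx => ⟨a⁻¹ (ctr U (ω.B z) (g x)), g.injective (by
          simp [lin_apply_inv, h2 _ (hp x hx), ha])⟩⟩ w hw
      have h3 : ∀ u, ctr U (ω.B z) (g (u ⊗ₜ w)) = c • a u := fun u => cu_injective (F := F) h0 (by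
        simpa [lin_apply_inv, h2 _ (hp (u ⊗ₜ w) (by simp [hw])), ha, smul_tmul'] using
          congrArg g (hc u))
      simp [b, ctl_ctr, h3, hψ]
    exact ⟨u, by rw [← cu_apply e, hu]; simp⟩
  have hbp : ∀ w, ω.B e w = 0 → ω.B e (b w) = 0 := fun w hw => by
    simp [b, ctl_ctr, hp (v ⊗ₜ w) (by simp [hw])]
  have e0 := ω.B_self_of_Q he
  have hc : ∀ u u' w w', ω.B e w = 0 → ω.B e w' = 0 →
      β.B (a u) (a u') * ω.B (b w) (b w') = β.B u u' * ω.B w w' := fun u u' w w' h1 h2 => by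
    obtain ⟨s, hs⟩ := hb u w h1
    obtain ⟨t, ht⟩ := hb u' w' h2
    rw [← h.B u w, ← h.B_map hg', hs, ht]
    simp [h.B, e0, hbp w' h2, ω.eq_zero_symm (hbp w h1)]
  obtain ⟨f, hf⟩ := h.nω.exists_isHyp he h0
  obtain ⟨w₁, h2, h3⟩ := exists_ne_zero_of_finrank_pos (U := ω.hp e f)
    (by have := hf.finrank_hp; omega)
  obtain ⟨w₂, h4, h5⟩ := hf.exists_B_ne_zero h.nω h2 h3
  obtain ⟨v', hv'⟩ := h.nβ.exists_ne_zero hv
  obtain ⟨l, hl⟩ : ∃ l, l = ω.B (b w₂) (b w₁) / ω.B w₂ w₁ := ⟨_, rfl⟩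
  have l1 : ∀ u u', β.B u u' = l * β.B (a u) (a u') := fun u u' => by
    have := hc u u' w₂ w₁ (ω.mem_hp.1 h4).1 (ω.mem_hp.1 h2).1
    rw [hl]; field_simp; linear_combination -this
  have l2 : β.B (a v) (a v') ≠ 0 := fun H => hv' (by rw [l1, H, mul_zero])
  have l3 : ∀ w w', ω.B e w = 0 → ω.B e w' = 0 → ω.B (b w) (b w') = l * ω.B w w' :=
    fun w w' h1 h2 => mul_left_cancel₀ l2 (by rw [hc v v' w w' h1 h2, l1]; ring)
  have l0 : l ≠ 0 := fun H => hv' (by rw [l1, H, zero_mul])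
  have l4 : RingHom.id F l = l := rfl
  obtain ⟨L, hL⟩ := LinearMap.exists_leftInverse_of_injective
    (b ∘ₗ (LinearMap.ker (ω.B e)).subtype) (LinearMap.ker_eq_bot'.2 fun w hw => by
      obtain ⟨c, hc⟩ := Submodule.mem_span_singleton.1 ((h.nω.perp_perp (F ∙ e)).le
        (show w.1 ∈ _ from fun y hy => by
          have := l3 y w (ω.mem_perp_span_singleton.1 hy) w.2
          simpa [show b w = 0 from hw, l0] using this.symm))
      refine Subtype.ext ?_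
      have : b w = 0 := hw
      rw [← hc, map_smul, hbe] at this
      exact hc ▸ this)
  obtain ⟨f₁, hf₁⟩ := h.nω.exists_rep (l • ω.B f ∘ₗ (LinearMap.ker (ω.B e)).subtype ∘ₗ L)
  have f1 : ∀ w, ω.B e w = 0 → ω.B f₁ (b w) = l * ω.B f w := fun w hw => by
    have := LinearMap.congr_fun hL ⟨w, hw⟩
    simp only [LinearMap.comp_apply, Submodule.subtype_apply] at this
    simp [hf₁, this]
  obtain ⟨c, f2⟩ := ω.exists_Q_add_smul_eq_zero he (w := f₁) (ω.ne_zero_symm (by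
    rw [← hbe, f1 e e0, hf.B_fe]; exact mul_ne_zero l0 (quadKind F).ε_ne_zero))
  obtain ⟨f', hf'⟩ : ∃ f', f' = f₁ + c • e := ⟨_, rfl⟩
  have f3 : ∀ w, ω.B e w = 0 → ω.B f' (b w) = l * ω.B f w := fun w hw => by
    simp [hf', f1 w hw, hbp w hw]
  let b₁ : W →ₗ[F] W := b + (ω.B e).smulRight (f' - b f)
  have b1 : ∀ w, b₁ w = b (w - ω.B e w • f) + ω.B e w • f' := fun w => by
    simp [b₁, smul_sub]; abel
  have b2 : ∀ w w', ω.B (b₁ w) (b₁ w') = l * ω.B w w' := fun w w' => by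
    have p : ∀ w, ω.B e (w - ω.B e w • f) = 0 := fun w => by simp [hf.B_ef]
    rw [b1, b1]
    conv_rhs => rw [← sub_add_cancel w (ω.B e w • f), ← sub_add_cancel w' (ω.B e w' • f)]
    have f4 := ω.symm f' (b (w - ω.B e w • f))
    rw [f3 _ (p w), map_mul, l4] at f4
    simp only [ω.B_add_left, ω.B_add_right, ω.B_smul_left, ω.B_smul_right, l3 _ _ (p w) (p w'),
      f3 _ (p w'), f4, ω.symm f (w - ω.B e w • f), hf.B_ff,
      show ω.B f' f' = 0 from ω.B_self_of_Q (hf' ▸ f2)]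
    ring
  let b' : W ≃ₗ[F] W := LinearEquiv.ofInjectiveEndo b₁ ((injective_iff_map_eq_zero _).2 fun w hw =>
    h.nω _ fun y => by simpa [hw, l0] using (b2 w y).symm)
  have b3 : ∀ w, ω.B e w = 0 → b' w = b w := fun w hw => by simp [b', b₁, hw]
  have t1 : congr a b' ∈ D.isom := h.isom_of ⟨_, _, rfl⟩ fun u w u' w' => by
    simp only [congr_tmul, h.B]
    rw [show ω.B (b' w) (b' w') = _ from b2 w w', l1 u]; ring
  have t2 : IsQ U ω e ((congr a b')⁻¹ * g) := by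
    have : ∀ u, (congr a b')⁻¹ (u ⊗ₜ e) = a⁻¹ u ⊗ₜ e := fun u => (congr a b').injective (by
      simp [lin_apply_inv, b3 e e0, hbe])
    refine ⟨fun u => by simp [ha, this, lin_inv_apply], fun x hx => ?_⟩
    obtain ⟨u, hu⟩ := ker_ind (U := U) hf.B_ef (P := (LinearMap.range (cu U e)).comap
      (g.toLinearMap - (congr a b').toLinearMap)) (fun u w hw => by
        obtain ⟨s, hs⟩ := hb u w hw
        exact ⟨s, by simp [hs, b3 w hw]⟩) hx
    refine ⟨a⁻¹ u, ?_⟩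
    rw [← this, ← cu_apply e, hu, LinearMap.sub_apply, map_sub]
    simp only [LinearEquiv.coe_coe, lin_inv_apply, LinearEquiv.mul_apply, add_sub_cancel]
  exact ⟨_, ⟨_, _, rfl⟩, t1, t2⟩

theorem sa3 [Finite F] (h2 : (2 : F) ≠ 0) (hC : ∀ b ∈ commutator ω.isom, rg U b.1 ∈ X) {w f : W} (hw : Fr ω e w f) {c : F}
    (c0 : c ≠ 0) (c1 : c ^ 2 ≠ 1) (hg : g ∈ X) (H : ∀ u, ∃ u', g (u ⊗ₜ e) = u' ⊗ₜ e) :
    (ω.B e).smulRight w ∈ SA g ∧ (ω.B e).smulRight e ∈ SA g ∧ ((c ^ 2) ^ 2 ≠ 1 → (ω.B e).smulRight f ∈ SA g) := by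
  have hf := hw.hyp
  have h0 := hf.e_ne_zero
  have he := hf.Q_e
  have t0 := pow_ne_zero 2 c0
  generalize ht : c ^ 2 = t at t0 c1
  obtain ⟨b, b1, b2, b3⟩ := hf.exists_torus hs.st.nω t0
  have b7 := hC b (by
    rw [hs.st.nω.mem_commutator_iff (good_of_two_ne_zero h2)]
    exact ⟨hf.dickson_torus hs.st.nω t0 b1 b2 b3,
      (hf.spinor_torus hs.st.nω t0 b1 b2 b3).trans (chi_of_isSquare ⟨c, by rw [← ht, sq]⟩)⟩)
  rw [RingHom.id_apply] at b2
  replace b3 := b3 w (ω.mem_hp.2 ⟨hw.ew, hw.fw⟩)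
  have b6 : ∀ x, ctr U (ω.B e) x = 0 → ∃ u, rg U b.1 x = x + u ⊗ₜ e := fun x hx => by
    obtain ⟨u, hu⟩ := ker_ind (U := U) hf.B_ef (P := (LinearMap.range (cu U e)).comap ((rg U b.1).toLinearMap - 1))
      (fun u y hy => by
        obtain ⟨a, d, rfl⟩ := hw.dec_e hy
        exact ⟨(a * t - a) • u, by simp [b1, b3, tmul_add, smul_tmul', sub_smul, sub_tmul, smul_smul, mul_comm]⟩) hx
    exact ⟨u, by rw [← cu_apply, hu]; exact (add_sub_cancel _ _).symm⟩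
  obtain ⟨y, hy⟩ := hs.q e he h0 _ (mul_mem (inv_mem b7) (mul_mem (mul_mem hg b7) (inv_mem hg))) ⟨fun u => by
    obtain ⟨u', hu⟩ := inv_slice h0 h0 H u
    refine (rg U b.1).injective ?_
    simp only [LinearEquiv.mul_apply, lin_apply_inv, hu, congr_tmul, b1, tmul_smul, map_smul, LinearEquiv.coe_one, id_eq]
    rw [← hu, lin_apply_inv], fun x hx => by
    obtain ⟨u, hu⟩ := b6 _ (perp_inv hs.st (hs.le hg) H hx)
    obtain ⟨u', hu'⟩ := H u
    obtain ⟨v, hv⟩ := b6 x hx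
    refine ⟨t⁻¹ • (u' - v), (rg U b.1).injective ?_⟩
    simp only [LinearEquiv.mul_apply, lin_apply_inv, hu, map_add, map_smul, hu', hv, congr_tmul, b1,
      LinearEquiv.coe_one, id_eq, tmul_smul, smul_tmul', smul_inv_smul₀ t0]
    rw [sub_tmul]; abel⟩
  have b8 : b.1.toLinearMap ∈ SA g := mem_SA (y := b.1 ∘ₗ y) fun u w => by
    simpa only [LinearEquiv.mul_apply, lin_apply_inv, congr_tmul] using! congrArg (rg U b.1) (hy u w)
  obtain ⟨e1, e2⟩ := mem_of_eich h2 he hw.ew (hs.eich_SA h0 he h0 hg H _) (hs.eich_SA h0 he h0 hg H _)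
  have s1 : ∀ a : F, b.1.toLinearMap - a • 1 ∈ SA g := fun a => sub_mem b8 ((SA g).smul_mem (one_mem _) a)
  have c2 := sub_ne_zero.2 c1
  refine ⟨?_, e2 hw.ns, fun c3 => ?_⟩
  · convert (SA g).smul_mem (mul_mem (s1 t) e1) (1 - t)⁻¹
    have := sub_ne_zero.2 c1.symm
    ext x
    simp only [LinearMap.smulRight_apply, LinearMap.smul_apply, End.mul_apply, wd_apply, LinearMap.sub_apply, map_sub,
      map_smul, LinearEquiv.coe_coe, b1, b3, End.one_apply]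
    match_scalars <;> field_simp <;> ring
  · convert (SA g).smul_mem (mul_mem (s1 t) (s1 1)) (t ^ 2 / ((t - 1) * (t ^ 2 - 1)))
    have := sub_ne_zero.2 c3
    ext x
    obtain ⟨a, d, d', rfl⟩ := hw.dec x
    simp only [LinearMap.smulRight_apply, LinearMap.smul_apply, End.mul_apply, LinearMap.sub_apply, map_sub, map_add,
      map_smul, LinearEquiv.coe_coe, b1, b2, b3, End.one_apply, hw.tab, smul_eq_mul]
    match_scalars <;> field_simp <;> ring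

end Cfsg.Lib.Forms.C7O

namespace Cfsg.Lib.Forms.C7O

open Module Form TensorProduct Ten Qd TF C7 O4

variable {F U W V : Type*} [Field F] [AddCommGroup U] [Module F U] [AddCommGroup W] [Module F W] [AddCommGroup V]
  [Module F V] {ω : Form (quadKind F) W} {e w f : W}

theorem eq_one_of_cube (h3 : (3 : F) ≠ 0) {a : End F U} {b : End F W} (h : (map a b - 1) ^ 3 = 0) (ha : (a - 1) ^ 3 = 0)
    (hu : (a - 1) * (a - 1) ≠ 0) (hb : IsNilpotent (b - 1)) : b = 1 := by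
  by_contra h1
  obtain ⟨u, hu⟩ : ∃ u, (a - 1) ((a - 1) u) ≠ 0 := by by_contra! H; exact hu (LinearMap.ext H)
  obtain ⟨x, hx⟩ : ∃ x, (b - 1) x ≠ 0 := by by_contra! H; exact h1 (sub_eq_zero.1 (LinearMap.ext H))
  obtain ⟨y, y1, y2⟩ := exists_of_nil hb hx
  obtain ⟨A, rfl⟩ : ∃ A, a = A + 1 := ⟨a - 1, by simp⟩
  obtain ⟨B, rfl⟩ : ∃ B, b = B + 1 := ⟨b - 1, by simp⟩
  have h4 := congrArg (· (u ⊗ₜ y)) h
  have h5 := congrArg (· u) ha
  simp only [add_sub_cancel_right, pow_succ, pow_zero, one_mul, End.mul_apply, LinearMap.zero_apply] at h4 h5 hu y1 y2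
  simp only [LinearMap.sub_apply, map_tmul, LinearMap.add_apply, End.one_apply, add_tmul, tmul_add, map_add, map_sub, y2,
    h5, zero_tmul, tmul_zero, map_zero] at h4
  exact tmul_ne_zero hu y1 ((smul_eq_zero_iff_right h3).1 (by linear_combination (norm := module) h4))

theorem eich_cube {z : W} {d : F} (hd : ω.IsEich e z d) : (((ω.eich e z d hd).1 : End F W) - 1) ^ 3 = 0 :=
  LinearMap.ext fun x => by
    simp [pow_succ, eich_apply, ω.B_self_of_Q hd.Q_e, hd.B_ez, ω.eq_zero_symm hd.B_ez]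

theorem slice_of_conj (h2 : (2 : F) ≠ 0) {e' z z' : W} {d d' : F} (hd : ω.IsEich e z d) (hd' : ω.IsEich e' z' d')
    (hf : ω.B e f = 1) (d0 : d ≠ 0) {g : U ⊗[F] W ≃ₗ[F] U ⊗[F] W}
    (H : ∀ x, g (rt U ω (ω.eich e z d hd) x) = rt U ω (ω.eich e' z' d' hd') (g x)) (u : U) :
    ∃ u', g (u ⊗ₜ e) = u' ⊗ₜ e' := by
  have h1 := congrArg g (rt_sq hd (((-(2 * d))⁻¹ • u) ⊗ₜ f))
  rw [map_sub, H, map_sub g, H, rt_sq, ctr_tmul, hf, one_smul, smul_smul,
    mul_inv_cancel₀ (neg_ne_zero.2 (mul_ne_zero h2 d0)), one_smul] at h1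
  exact ⟨_, h1.symm⟩

theorem exists_r {T : Type*} [Fintype T] [DecidableEq T] {π : (T → End F W) →* End F V} {ρ : T → End F W →ₐ[F] End F V}
    {D : Form (quadKind F) V} {τ : (T → W) → V} {κ : F} (h : Pw π ρ ω D τ κ) (h2 : (2 : F) ≠ 0) {i l : T} (hil : l ≠ i)
    (hw : Fr ω e w f) : ∃ r ∈ Om D, (∀ x, r (ρ i (ω.eich e w _ (isEich_quad hw.hyp.Q_e hw.ew)).1 x) =
      ρ i (ω.eich e w _ (isEich_quad hw.hyp.Q_e hw.ew)).1 (r x)) ∧ ∀ b, cj r (ρ i ((ω.B e).smulRight w)) ≠ ρ i b := by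
  obtain ⟨L, hL⟩ := h.exists_lin i fun _ => w
  have k := h.B_update i
  have w0 := quad_B_ne_zero h2 hw.ns
  have k1 : ∀ x y, D.B (L x) (L y) = κ * (∏ m ∈ Finset.univ.erase i, ω.B w w) * ω.B x y := fun x y => by rw [hL, hL, k]
  have k2 : ∀ a x, ρ i a (L x) = L (a x) := fun a x => by simp [hL, h.rho]
  have hd : D.IsEich (L e) (L w) _ := isEich_quad (mul_left_cancel₀ h2 (by rw [← quad_B_self, k1]; simp [hw.tab]))
    (by simp [k1, hw.tab])
  refine ⟨_, ⟨_, eich_mem_E _ _ _ hd, rfl⟩, fun x => ?_, fun b hb => ?_⟩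
  · obtain ⟨g, g1, g2⟩ := h.exists_slot i (ω.eich e w _ (isEich_quad hw.hyp.Q_e hw.ew))
    have a1 : g (L e) = L e := by rw [g1, k2]; simp [eich_apply_self]
    have a2 : g (L w) = L w + ω.B w w • L e := by rw [g1, k2]; simp [eich_apply, hw.ew]
    have a3 := g2 (L e) x
    have a4 := g2 (L w) x
    rw [a1] at a3
    rw [a2, D.B_add_left, D.B_smul_left, a3, ← eq_sub_iff_add_eq] at a4
    simp only [Subgroup.coe_subtype, eich_apply, ← g1, map_add, map_sub, map_smul, a1, a2, a3, a4, RingHom.id_apply]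
    simp only [quadKind_ε]
    module
  have k3 : ∀ y, D.B (L w) (τ (Function.update (Function.update (fun _ => w) l y) i w)) *
      D.B (τ (Function.update (Function.update (fun _ => w) l y) i f)) (L e) =
      κ * (∏ m ∈ Finset.univ.erase i, ω.B (Function.update (fun _ => w) l y m) (Function.update (fun _ => w) l y m)) *
        ω.B f (b f) := fun y => by
    have a1 : ∀ x, ρ i ((ω.B e).smulRight w) ((D.eich _ _ _ hd).1 x) = ρ i ((ω.B e).smulRight w) x := fun x => by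
      simp [eich_apply, k2, hw.tab]
    have := congrArg (fun A => D.B (τ (Function.update (Function.update (fun _ => w) l y) i f))
      (A (τ (Function.update (Function.update (fun _ => w) l y) i f)))) hb
    simp only [cj_apply, Subgroup.coe_subtype] at this
    rw [← a1, lin_apply_inv] at this
    simpa [h.rho, hw.tab, eich_apply, k, show D.B (L e) (τ (Function.update (Function.update (fun _ => w) l y) i w)) = 0 by
      simp [hL, k, hw.tab]] using this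
  have k4 := k3 w
  have k5 := k3 (e + f)
  rw [Function.update_eq_self, ← hL, ← hL, k1, k1, hw.tab.2.2.2.2.2.2.1, mul_one, mul_comm,
    mul_right_inj' (mul_ne_zero h.κ0 (Finset.prod_ne_zero_iff.2 fun _ _ => w0))] at k4
  rw [hL, k, Finset.prod_eq_zero (i := l) (by simpa) (by simp [hw.tab]), ← k4] at k5
  refine mul_ne_zero (mul_ne_zero h.κ0 (Finset.prod_ne_zero_iff.2 fun m _ => ?_))
    (mul_ne_zero (mul_ne_zero h.κ0 (Finset.prod_ne_zero_iff.2 fun _ _ => w0)) w0) (k5.symm.trans (by simp))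
  by_cases hm : m = l
  · simpa [hm, hw.tab, one_add_one_eq_two] using h2
  · simpa [hm] using w0

variable {T T' : Type*} [Fintype T]
  [DecidableEq T] [Fintype T'] [DecidableEq T'] {π : (T → End F W) →* End F (U ⊗[F] W)}
  {ρ : T → End F W →ₐ[F] End F (U ⊗[F] W)} {D : Form (quadKind F) (U ⊗[F] W)}
  {τ : (T → W) → U ⊗[F] W} {κ : F} {π' : (T' → End F W) →* End F U} {ρ' : T' → End F W →ₐ[F] End F U}
  {β : Form (quadKind F) U} {τ' : (T' → W) → U} {j : T} {ι : T' → T} {g : U ⊗[F] W ≃ₗ[F] U ⊗[F] W}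
  {X : Subgroup (U ⊗[F] W ≃ₗ[F] U ⊗[F] W)} [Finite F] [FiniteDimensional F U] [FiniteDimensional F W]

namespace Ov

variable (h : Ov π ρ ω D τ κ π' ρ' β τ' j ι X)
include h

theorem root (l : T) {b : ω.isom} (hb : b ∈ commutator ω.isom) : ∃ g ∈ X, ∀ x, g x = ρ l b.1 x := by
  obtain ⟨g, g1, g2⟩ := h.pw.slot_root (fun j b xs => by
    obtain ⟨g, g1, g2⟩ := h.pw.exists_slot j b
    rw [← g1, (isom_of_B h.h2 g2).Q_map]) (h.pw.nD.commutator_eq_E (good_of_two_ne_zero h.h2)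
      (by have := h.h9; omega)).le l hb
  exact ⟨g, h.x2 g g1 fun i => ⟨i, (tn_slot h.pw g2 i).1⟩, g2⟩

theorem rootE (l : T) {z d} (hd : ω.IsEich e z d) : ∃ g ∈ X, ∀ x, g x = ρ l (ω.eich e z d hd).1 x :=
  h.root l (h.pw.nω.E_le_commutator (good_of_two_ne_zero h.h2) (eich_mem_E _ _ _ hd))

variable (hT : 2 ≤ Fintype.card T') (fx : Fx ρ' β) (IH : Core ρ' β) (hs : So β ω D X) (hW : finrank F W = 3)
include hT fx IH hs hW

omit fx IH in
theorem not_le (h3 : (3 : F) ≠ 0) (hw : Fr ω e w f)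
    (H : ∀ a ∈ Om β, ∃ g ∈ X, ∃ c : F, c ≠ 0 ∧ ∀ u, g (u ⊗ₜ e) = c • a u ⊗ₜ e) : False := by
  have := Module.nontrivial_of_finrank_pos (R := F) (M := W) h.ho.pos
  have := h.nontrivial
  obtain ⟨i, l, hil⟩ := Fintype.exists_pair_of_one_lt_card hT
  obtain ⟨r, r1, r2, r3⟩ := exists_r h.pw' h.h2 hil.symm hw
  obtain ⟨g, g1, c, c0, g2⟩ := H r r1
  have he := hw.hyp.Q_e
  have h0 := hw.hyp.e_ne_zero
  have hd := isEich_quad he hw.ew
  have g3 : ∀ u, ∃ u', g (u ⊗ₜ e) = u' ⊗ₜ e := fun u => ⟨_, g2 u⟩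
  obtain ⟨t, t1, t2, t3⟩ := levi hs he h0 h.hW g1 g3
  obtain ⟨a, b, hab⟩ := exists_of_mem t1
  have t4 : ∀ u, t (u ⊗ₜ e) = g (u ⊗ₜ e) := fun u => by
    conv_lhs => rw [← t3.fix u, LinearEquiv.mul_apply, lin_apply_inv]
  obtain ⟨s, s1, s2⟩ := h.rootE (ι i) hd
  obtain ⟨A, hA⟩ : ∃ A, A = ρ' i (ω.eich e w _ hd).1 := ⟨_, rfl⟩
  have s3 : ∀ u y, s (u ⊗ₜ y) = A u ⊗ₜ y := fun u y => by rw [s2, h.lt, hA]; rfl
  have s4 : t * s = s * t := LinearEquiv.toLinearMap_injective (TensorProduct.ext' fun u y => by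
    simp only [LinearEquiv.coe_coe, LinearEquiv.mul_apply, s3, hab]
    congr 1
    refine cu_injective (F := F) (b.map_ne_zero_iff.2 h0) ?_
    rw [cu_apply, cu_apply, ← s3, ← hab, ← hab, t4, t4, g2, g2, map_smul, s3, hA, r2])
  have s5 : IsQ U ω e (s⁻¹ * (g * s * g⁻¹)) := by
    have := isQ_conj h.s t2 h0 h0 (fun u => ⟨_, (t4 u).trans (g2 u)⟩) ((isQ_conj h.s (inv_mem (h.le s1)) h0 h0
      (inv_slice h0 h0 fun u => ⟨_, s3 u e⟩) t3).mul he t3.inv)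
    convert this using 1
    calc _ = s⁻¹ * t * (t⁻¹ * g) * s * g⁻¹ := by group
      _ = _ := by rw [show s⁻¹ * t = t * s⁻¹ from (show Commute t s from s4).inv_right.symm]; group
  have s6 := mul_mem (inv_mem s1) (mul_mem (mul_mem g1 s1) (inv_mem g1))
  obtain ⟨B, hB⟩ := hs.q e he h0 _ s6 s5
  obtain ⟨v, hv⟩ := exists_ne (0 : U)
  have s7 : ((s : End F (U ⊗[F] W)) - 1) ^ 3 = 0 := by
    rw [show (s : End F (U ⊗[F] W)) = ρ (ι i) (ω.eich e w _ hd).1 from LinearMap.ext s2, ← map_one (ρ (ι i)), ← map_sub,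
      ← map_pow, eich_cube, map_zero]
  obtain rfl : B = 1 := eq_one_of_cube h3 (a := A) (by
    rw [show map A B = cj g s from TensorProduct.ext' fun u y => by
      simpa [s3, lin_apply_inv] using congrArg s (hB u y).symm]
    refine LinearMap.ext fun x => ?_
    obtain ⟨x, rfl⟩ := g.surjective x
    simpa [pow_succ, lin_inv_apply] using congrArg g (LinearMap.congr_fun s7 x))
    (LinearMap.ext fun u => cu_injective (F := F) h0 (by
      simpa [pow_succ, s3, sub_tmul] using LinearMap.congr_fun s7 (u ⊗ₜ e))) (fun H => by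
      rw [hA, ← map_one (ρ' i), ← map_sub, ← map_mul, map_eq_zero_iff _ (rho_inj h.pw' i)] at H
      simpa [eich_apply, hw.tab, h.h2, hw.ns] using congrArg (fun A => ω.B f (A f)) H) ⟨3, LinearMap.ext fun y => by
      obtain ⟨u, hu⟩ := s5.sub (v ⊗ₜ (B y - y)) (by rw [tmul_sub, ← hB, map_sub, h.s.ctr_sub (h.le s6) s5.fix, sub_self])
      have := s5.fix u
      rw [hB, ← sub_eq_iff_eq_add', ← tmul_sub] at hu
      rw [← hu, hB, ← sub_eq_zero, ← tmul_sub] at this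
      by_contra H
      exact tmul_ne_zero hv H (by simpa [pow_succ] using this)⟩
  have s8 : ∀ x, g (s x) = s (g x) := fun x => by
    have := LinearMap.congr_fun (TensorProduct.ext' (g := (s⁻¹ * (g * s * g⁻¹)).toLinearMap) (h := .id) hB) (g x)
    simpa [lin_inv_apply, lin_apply_inv] using congrArg s this
  obtain ⟨m, m1, -, m2⟩ := h.tr hT (ι i)
  obtain ⟨d, d0, d1⟩ := h.hq.resolve_right (by omega)
  have m3 : ∀ a x, ρ (ι i) a (m⁻¹ x) = m⁻¹ (a.lTensor U x) := fun a x => by rw [← h.rt, ← m2, cj_apply, lin_inv_apply]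
  obtain ⟨θ, hθ⟩ := (sa3 hs h.h2 (fun b => h.right) hw d0 d1 (mul_mem (mul_mem m1 g1) (inv_mem m1))
    (slice_of_conj h.h2 hd hd hw.hyp.B_ef hw.ns fun x => by
      change m (g (m⁻¹ (rg U _ _))) = rg U _ (m (g (m⁻¹ x)))
      rw [rg_apply, rg_apply, ← m3, ← s2, s8, s2, ← lin_inv_apply m (g _), m3, lin_apply_inv, lin_inv_apply])).1
  refine r3 θ (LinearMap.ext fun u => cu_injective (F := F) h0 (smul_right_injective _ c0 ?_))
  have := congrArg (fun A => m⁻¹ (A (m (c • u ⊗ₜ e)))) hθ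
  simp only [cj_apply, mul_inv_rev, inv_inv, LinearEquiv.mul_apply, lin_inv_apply, ← m3] at this
  rw [← lin_apply_inv r u, ← g2, lin_inv_apply, g2, lin_apply_inv] at this
  simpa [h.lt, g2] using this

theorem stab (he : ω.Q e = 0) (h0 : e ≠ 0) (hg : g ∈ X) (H : ∀ u, ∃ u', g (u ⊗ₜ e) = u' ⊗ₜ e) : g ∈ tens F U W := by
  have := Module.nontrivial_of_finrank_pos (R := F) (M := W) h.ho.pos
  have := h.nontrivial
  obtain ⟨w, f, hw⟩ := exists_fr h.pw.nω hW h0 he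
  obtain ⟨d, d0, d1⟩ := h.hq.resolve_right (by omega)
  by_cases hc : ∃ c : F, c ≠ 0 ∧ (c ^ 2) ^ 2 ≠ 1
  · obtain ⟨c, c0, c1⟩ := hc
    obtain ⟨k1, k2, k3⟩ := sa3 hs h.h2 (fun b => h.right) hw c0 (fun h => c1 (by simp [h])) hg H
    refine mem_tens_of (a := ctr U (ω.B e) ∘ₗ g ∘ₗ cu U f) fun y =>
      exists_tmul h.s (h.le hg) H hw.hyp.B_ef hw.hyp.B_ef ?_
    obtain ⟨a, b, c, rfl⟩ := hw.dec y
    convert add_mem (add_mem ((SA g).smul_mem k2 a) ((SA g).smul_mem k1 b)) ((SA g).smul_mem (k3 c1) c)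
    ext x; simp [smul_smul, mul_comm]
  push Not at hc
  have h3 : (3 : F) ≠ 0 := fun h3 => by
    have c1 : d ^ 2 = -1 := (sq_eq_one_iff.1 (hc d d0)).resolve_left d1
    have c2 := hc (d + 1) fun h => d1 (by rw [eq_neg_of_add_eq_zero_left h]; simp)
    exact h.h2 (by linear_combination -c2 + (d ^ 2 + 4 * d + 5) * c1 - h3)
  let Y : Subgroup (U ≃ₗ[F] U) :=
    { carrier := {a | ∃ g ∈ X, ∃ c : F, c ≠ 0 ∧ ∀ u, g (u ⊗ₜ e) = c • a u ⊗ₜ e}
      one_mem' := ⟨1, one_mem _, 1, one_ne_zero, by simp⟩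
      mul_mem' := fun ⟨g, g1, c, c0, hc⟩ ⟨k, k1, d, d0, hd⟩ => ⟨_, mul_mem g1 k1, d * c, mul_ne_zero d0 c0, fun u => by
        rw [LinearEquiv.mul_apply, hd, map_smul, hc, mul_smul]; rfl⟩
      inv_mem' := fun {a} ⟨g, g1, c, c0, hc⟩ => ⟨_, inv_mem g1, c⁻¹, inv_ne_zero c0, fun u => g.injective (by
        rw [lin_apply_inv, map_smul, hc, lin_apply_inv, inv_smul_smul₀ c0])⟩ }
  have k : ∀ {g a b}, g ∈ X → (∀ u, g (u ⊗ₜ e) = congr a b (u ⊗ₜ e)) → (∃ c : F, b e = c • e) → a ∈ Y :=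
    fun {g a b} g1 g2 ⟨c, hc⟩ => ⟨g, g1, c, by rintro rfl; simp [h0] at hc, fun u => by simp [g2, hc]⟩
  obtain ⟨t, t1, t2, t3⟩ := levi hs he h0 h.hW hg H
  obtain ⟨a, b, rfl⟩ := exists_isom h.s h.h2 h.oU t1 t2
  have t4 : ∀ u, g (u ⊗ₜ e) = congr a.1 b.1 (u ⊗ₜ e) := fun u => by
    conv_rhs => rw [← t3.fix u, LinearEquiv.mul_apply, lin_apply_inv]
  obtain ⟨v, hv⟩ := exists_ne (0 : U)
  have t5 := (core' h.pw' h.hW fx IH (Y := Y) fun n n1 n2 => by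
    obtain ⟨b, b1, hb⟩ := exists_line h.s h.h2 h.oU h.hW he h0 ⟨_, h.s.congr_isom ⟨n, n1⟩ 1⟩
    exact k (h.mem (a := ⟨n, n1⟩) n2 hb) (fun _ => rfl) (by simpa using b1)).resolve_left
      (h.not_le hT hs hW h3 hw) _ (k hg t4 (let ⟨u, hu⟩ := H v; mem_span_of_tmul (a.1.map_ne_zero_iff.2 hv)
        ((t4 v).symm.trans hu))) a.2
  have t6 := (st_quad h.pw'.nD h.pw.nω h.pw.nD h.B h.h2 (by have := h.h9; omega) le_rfl inf_le_left).unip e he _
    (mul_mem (inv_mem t2) (h.le hg)) t3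
  obtain ⟨B, hB⟩ := hs.q e he h0 _ (mul_mem (inv_mem (h.x2 _ (inv_mem_iff.1 ((mul_mem_cancel_right (h.x1 hg)).1 t6))
    (h.nz t5 _))) hg) t3
  exact (mul_mem_cancel_left (inv_mem t1)).1 (mem_tens_of (a := .id) fun y => ⟨_, fun u => hB u y⟩)

theorem hS (e t : W) (he : ω.Q e = 0) (h0 : e ≠ 0) (ht : ω.Q t = 0) (t0 : t ≠ 0) (g) (hg : g ∈ X)
    (H : ∀ u, ∃ u', g (u ⊗ₜ t) = u' ⊗ₜ e) : g ∈ tens F U W := by
  obtain ⟨b, hb, c, -, hc⟩ := h.pw.nω.exists_mem_map_smul eich_mem_E (Or.inr h.hW) he h0 ht t0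
  refine (mul_mem_cancel_right (⟨_, _, rfl⟩ : congr 1 b.1 ∈ tens F U W)).1
    (h.stab hT fx IH hs hW he h0 (X.mul_mem hg (h.rightE hb)) fun u => ?_)
  simpa [hc, smul_tmul'] using H (c • u)

end Ov

end Cfsg.Lib.Forms.C7O
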