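import Cfsg.Agent.Lib.C7O.I

/-!
# Orthogonal tensor powers: centralisers of involutions of three-dimensional factors
-/

namespace Cfsg.Lib.Forms.C7O

open Module Form TensorProduct Ten Qd TF C7 O4

variable {F U W : Type*} [Field F] [AddCommGroup U] [Module F U] [AddCommGroup W] [Module F W]
  {ω : Form (quadKind F) W} {e v : W} {T T' : Type*} [Fintype T]
  [DecidableEq T] [Fintype T'] [DecidableEq T'] {π : (T → End F W) →* End F (U ⊗[F] W)}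
  {ρ : T → End F W →ₐ[F] End F (U ⊗[F] W)} {D : Form (quadKind F) (U ⊗[F] W)}
  {τ : (T → W) → U ⊗[F] W} {κ : F} {π' : (T' → End F W) →* End F U} {ρ' : T' → End F W →ₐ[F] End F U}
  {β : Form (quadKind F) U} {τ' : (T' → W) → U} {j : T} {ι : T' → T} {g k : U ⊗[F] W ≃ₗ[F] U ⊗[F] W}
  {X : Subgroup (U ⊗[F] W ≃ₗ[F] U ⊗[F] W)} [Finite F] [FiniteDimensional F U] [FiniteDimensional F W]

theorem nil_right [Nontrivial U] {b : End F W} (hb : ∀ u w, k (u ⊗ₜ w) = u ⊗ₜ b w)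
    (hn : IsNilpotent ((k : End F (U ⊗[F] W)) - 1)) : IsNilpotent (b - 1) := by
  obtain ⟨m, hm⟩ := hn
  obtain ⟨u, hu⟩ := exists_ne (0 : U)
  have : ∀ (m : ℕ) w, (((k : End F (U ⊗[F] W)) - 1) ^ m) (u ⊗ₜ w) = u ⊗ₜ ((b - 1) ^ m) w := fun m => by
    induction m with
    | zero => simp
    | succ m ih => intro w; simp [pow_succ, hb, ih, tmul_sub]
  exact ⟨m, LinearMap.ext fun w => by_contra fun H => tmul_ne_zero (F := F) hu H (by simp [← this, hm])⟩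

omit [Finite F] [FiniteDimensional F W] in
theorem eich_ns (h2 : (2 : F) ≠ 0) {w f : W} (hw : Fr ω e w f) (c : F) :
    ((ω.eich e w _ (isEich_quad hw.hyp.Q_e hw.ew)).1 : End F W) ≠ c • 1 := fun H => by
  simpa [eich_apply, hw.tab, h2, hw.ns] using congrArg (fun A => ω.B f (A w)) H

namespace Ov

variable (h : Ov π ρ ω D τ κ π' ρ' β τ' j ι X)
include h

omit [Finite F] in
theorem slot_of_fix (hv : v ≠ 0) (h1 : ∀ u, k (u ⊗ₜ v) = u ⊗ₜ v) (h2 : Nz ρ k) :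
    ∃ b : End F W, ∀ u w, k (u ⊗ₜ w) = u ⊗ₜ b w := by
  have := Module.nontrivial_of_finrank_pos (R := F) (M := W) h.ho.pos
  refine h.centr (z := k) fun l hl a => ?_
  obtain ⟨l', H⟩ := h2 l
  have k1 : ∀ {a b}, cj k (ρ l a) = ρ l' b → ∀ y, ρ l a (τ (Function.update (fun _ => v) l y)) =
      ρ l' b (τ (Function.update (fun _ => v) l y)) := fun {a b} H y => by
    obtain ⟨i, rfl⟩ := h.ex l hl
    rw [← H, h.tau, Function.update_of_ne hl.symm, cj_apply, ← h1, lin_inv_apply, h1, h.lt, LinearMap.rTensor_tmul, h1]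
  obtain rfl : l = l' := by
    by_contra H'
    obtain ⟨a, ha⟩ := exists_ns h.hW
    obtain ⟨b, hb⟩ := H a
    exact let ⟨c, hc⟩ := sep h.pw H' (fun _ => hv) (k1 hb); ha c hc
  obtain ⟨b, hb⟩ := H a
  obtain rfl := sep' h.pw (fun _ => hv) (k1 hb)
  exact LinearMap.ext fun x => by simpa [lin_inv_apply] using congrArg (· (k x)) hb

theorem one_of_fix (hW : finrank F W = 3) (hv : ω.Q v ≠ 0) (hk : k ∈ X) (h1 : ∀ u, k (u ⊗ₜ v) = u ⊗ₜ v) (h2 : Nz ρ k)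
    (hn : IsNilpotent ((k : End F (U ⊗[F] W)) - 1)) : k = 1 := by
  have := Module.nontrivial_of_finrank_pos (R := F) (M := W) h.ho.pos
  have := h.nontrivial
  obtain ⟨b, hb⟩ := h.slot_of_fix (by rintro rfl; simp at hv) h1 h2
  obtain ⟨u, hu⟩ := exists_ne (0 : U)
  have := eq_of_nil h.pw.nω h.h2 hW (h.s.B_right (h.le hk) hb) hv (by
    by_contra H
    exact tmul_ne_zero (F := F) hu (sub_ne_zero.2 H) (by rw [tmul_sub, ← hb, h1, sub_self])) (nil_right hb hn)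
  exact LinearEquiv.toLinearMap_injective (TensorProduct.ext' fun u w => by simp [hb, this])

variable (hT : 2 ≤ Fintype.card T') (fx : Fx ρ' β) (IH : Core ρ' β) (hs : So β ω D X) (hW : finrank F W = 3)
include hT

theorem exists_hom (l : T) : ∃ φ : ω.isom →* (U ⊗[F] W ≃ₗ[F] U ⊗[F] W), (∀ b x, φ b x = ρ l b.1 x) ∧
    ∀ b ∈ commutator ω.isom, φ b ∈ X := by
  obtain ⟨m, m1, -, m2⟩ := h.tr hT l
  exact ⟨(MulAut.conj m⁻¹).toMonoidHom.comp (O4.rt U ω), fun b x => by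
    change m⁻¹ (rg U b.1 (m x)) = _
    rw [rg_apply, ← h.rt, ← m2, cj_apply, lin_inv_apply, lin_inv_apply],
    fun b hb => mul_mem (mul_mem (inv_mem m1) (h.right hb)) (inv_mem (inv_mem m1))⟩

include fx IH hs hW

theorem cen (l : T) {z d} (hd : ω.IsEich e z d) (h0 : e ≠ 0) (d0 : d ≠ 0) (hg : g ∈ X)
    (H : ∀ x, g (ρ l (ω.eich e z d hd).1 x) = ρ l (ω.eich e z d hd).1 (g x)) : Nz ρ g := by
  obtain ⟨m, m1, m2, m3⟩ := h.tr hT l
  obtain ⟨f, hf⟩ := h.pw.nω.exists_isHyp hd.Q_e h0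
  have m4 := mul_mem (mul_mem m1 hg) (inv_mem m1)
  have := h.nz_of_tens hT fx IH m4 (h.stab hT fx IH hs hW hd.Q_e h0 m4 (slice_of_conj h.h2 hd hd hf.B_ef d0 fun x => by
    change m (g (m⁻¹ (rg U _ _))) = rg U _ (m (g (m⁻¹ x)))
    rw [rg_apply, rg_apply, ← h.rt, ← m3, cj_apply, cj_apply, lin_inv_apply, lin_inv_apply, H]))
  exact ((NG h.pw h.hW).mul_mem_cancel_left m2).1 (((NG h.pw h.hW).mul_mem_cancel_right (inv_mem m2)).1 this)

theorem nz_of_fix (hv : ω.Q v ≠ 0) (hk : k ∈ X) (H : ∀ u, k (u ⊗ₜ v) = u ⊗ₜ v) : Nz ρ k := by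
  have : Finite (U ⊗[F] W) := Module.finite_of_finite F
  have : Finite (U ⊗[F] W ≃ₗ[F] U ⊗[F] W) := Finite.of_injective _ DFunLike.coe_injective
  have := Module.nontrivial_of_finrank_pos (R := F) (M := U ⊗[F] W) (by have := h.h9; omega)
  have := Module.nontrivial_of_finrank_pos (R := F) (M := W) h.ho.pos
  have := h.nontrivial
  have h2 := h.h2
  obtain ⟨p, hp⟩ := CharP.exists F
  have := Fact.mk (CharP.char_is_prime F p)
  obtain ⟨e, f, hf⟩ := Quad.exists_isHyp h.pw.nω (by omega)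
  have v0 : v ≠ 0 := by rintro rfl; simp at hv
  obtain ⟨i⟩ : Nonempty T' := Fintype.card_pos_iff.1 (by omega)
  obtain ⟨φ, φ1, φ2⟩ := h.exists_hom hT (ι i)
  have φ3 : ∀ {z d} (hd : ω.IsEich e z d), ((φ (ω.eich e z d hd) : End F (U ⊗[F] W)) - 1) ^ 3 = 0 := fun hd => by
    rw [show (φ _ : End F (U ⊗[F] W)) = ρ (ι i) (ω.eich _ _ _ hd).1 from LinearMap.ext (φ1 _), ← map_one (ρ (ι i)),
      ← map_sub, ← map_pow, eich_cube, map_zero]
  let K : Subgroup (U ⊗[F] W ≃ₗ[F] U ⊗[F] W) :=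
    { carrier := {k | k ∈ X ∧ ∀ u, k (u ⊗ₜ v) = u ⊗ₜ v}
      one_mem' := ⟨X.one_mem, fun _ => rfl⟩
      mul_mem' := fun {a b} ha hb => ⟨X.mul_mem ha.1 hb.1, fun w => by simp [ha.2, hb.2]⟩
      inv_mem' := fun {a} ha => ⟨X.inv_mem ha.1, fun w => a.injective (by rw [lin_apply_inv, ha.2])⟩ }
  have := isMulCommutative_eichAt (D := ω) e
  have hA : ∀ a ∈ (ω.eichAt e).map φ, ∃ z d hd, a = φ (ω.eich e z d hd) := by
    rintro _ ⟨_, rfl | ⟨z, d, hd, rfl⟩, rfl⟩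
    · exact ⟨0, _, isEich_quad hf.Q_e (by simp), by rw [quad_eich_zero]⟩
    · exact ⟨z, d, hd, rfl⟩
  have a1 : ∀ a ∈ (ω.eichAt e).map φ, a ^ p = 1 := fun a ha => by
    obtain ⟨z, d, hd, rfl⟩ := hA a ha
    exact pow_of_cube h2 (φ3 hd)
  have a2 : (ω.eichAt e).map φ ≤ Subgroup.normalizer (K : Set _) := fun a ha => by
    obtain ⟨z, d, hd, rfl⟩ := hA a ha
    have hX := φ2 _ (h.pw.nω.E_le_commutator (good_of_two_ne_zero h2) (eich_mem_E _ _ _ hd))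
    refine Transfer.mem_normalizer_of_cj_le ?_
    rintro _ ⟨k, hk, rfl⟩
    refine ⟨X.mul_mem (X.mul_mem hX hk.1) (X.inv_mem hX), fun w => ?_⟩
    change φ _ (k ((φ _)⁻¹ _)) = _
    rw [← map_inv, φ1 _⁻¹, h.lt, LinearMap.rTensor_tmul, hk.2, ← LinearMap.rTensor_tmul, ← h.lt, ← φ1, map_inv,
      lin_apply_inv]
  have a3 : ∀ a ∈ (ω.eichAt e).map φ, a ≠ 1 → K ⊓ Subgroup.centralizer {a} ≤ NG h.pw h.hW := fun a ha a1 k hk => by
    obtain ⟨z, d, hd, rfl⟩ := hA a ha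
    refine h.cen hT fx IH hs hW (ι i) hd hf.e_ne_zero (fun d0 => a1 ?_) hk.1.1 fun x => by
      simpa [φ1] using congrArg (· x) (Subgroup.mem_centralizer_singleton_iff.1 hk.2)
    obtain ⟨c, rfl⟩ := mem_span_of_index (O3.not_hasTS h.pw.nω hW) hf.Q_e hf.e_ne_zero (hd.quad_eq.symm.trans d0) hd.B_ez
    rw [← φ.map_one]
    exact congrArg φ (isom_ext fun x => by simp [eich_apply, d0, smul_smul, mul_comm])
  have a4 : ∀ k ∈ K, k ∈ NG h.pw h.hW → ∀ n, k ^ p ^ n = 1 → k = 1 := fun k hk hk' n hn =>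
    h.one_of_fix hW hv hk.1 hk.2 hk' (nil_of_pow hn)
  obtain ⟨z, z1, z2⟩ := exists_hp_Q h.pw.nω h2 hW.ge hf
  have z3 := (ω.mem_hp.1 z1).1
  have hd : ∀ c : F, ω.IsEich e (c • z) _ := fun c => isEich_quad hf.Q_e (by simp [z3])
  have z4 : Function.Injective fun c : F => φ (ω.eich e (c • z) _ (hd c)) := fun c c' hc => by
    have := congrArg (fun g => ω.B f (g z)) (rho_inj h.pw (ι i) (LinearMap.ext fun x =>
      (φ1 _ x).symm.trans ((congrArg (· x) hc).trans (φ1 _ x))))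
    simp [eich_apply, z3, hf.B_fe, quad_B_self] at this
    exact this.resolve_right (not_or.2 ⟨h2, z2⟩)
  by_cases h5 : 5 ≤ p
  · refine O3.le_of_cube (K := K) LinearEquiv.automorphismGroup.toLinearMapMonoidHom
      (fun g hg => LinearEquiv.toLinearMap_injective hg)
      h5 (a1 _ ⟨_, eich_mem_eichAt (hd 1), rfl⟩) (a2 ⟨_, eich_mem_eichAt (hd 1), rfl⟩) (φ3 (hd 1))
      (a3 _ ⟨_, eich_mem_eichAt (hd 1), rfl⟩ fun h6 => one_ne_zero (z4 (h6.trans ?_))) a4 ⟨hk, H⟩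
    rw [← φ.map_one]
    exact congrArg φ (isom_ext fun x => by simp [eich_apply])
  refine le_of_pfix (p := p) (A := (ω.eichAt e).map φ) (K := K) (fun hc => ?_)
    (fun ⟨a, ha⟩ => ⟨1, Subtype.ext (by simpa using a1 a ha)⟩) a2 a3 a4 ⟨hk, H⟩
  have b1 := Nat.card_le_card_of_injective (f := fun c : F => (⟨_, _, eich_mem_eichAt (hd c), rfl⟩ :
    (ω.eichAt e).map φ)) fun c c' hc => z4 (congrArg Subtype.val hc)
  have b2 := Nat.le_of_dvd (Fact.out : p.Prime).pos (IsCyclic.exponent_eq_card (α := (ω.eichAt e).map φ) ▸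
    Monoid.exponent_dvd_of_forall_pow_eq_one fun a => Subtype.ext (a1 a a.2))
  obtain ⟨c, c0, c1⟩ := h.hq.resolve_right (by omega)
  have b3 := Nat.card_le_card_of_injective (f := (![0, 1, -1, c, -c] : Fin 5 → F)) (by
    have c2 : c ≠ 1 := by rintro rfl; simp at c1
    have c3 : c ≠ -1 := by rintro rfl; simp at c1
    have c4 : ∀ x : F, x ≠ 0 → x ≠ -x := fun x hx H => mul_ne_zero h2 hx (by linear_combination H)
    intro a b
    fin_cases a <;> fin_cases b <;>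
      simp [c0, c2, c3, c4, c0.symm, c2.symm, c3.symm, neg_eq_iff_eq_neg, (c4 _ c0).symm, (c4 _ one_ne_zero).symm,
        eq_neg_iff_add_eq_zero, add_eq_zero_iff_neg_eq])
  simp only [Nat.card_eq_fintype_card, Fintype.card_fin] at b3
  omega

theorem of_slice (hv : ω.Q v ≠ 0) (hg : g ∈ X) (H : ∀ u, ∃ u', g (u ⊗ₜ v) = u' ⊗ₜ v) : g ∈ tens F U W := by
  have := Module.nontrivial_of_finrank_pos (R := F) (M := W) h.ho.pos
  have := h.nontrivial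
  have v0 : v ≠ 0 := by rintro rfl; simp at hv
  let Y : Subgroup (U ≃ₗ[F] U) :=
    { carrier := {a | ∃ g ∈ X, ∀ u, g (u ⊗ₜ v) = a u ⊗ₜ v}
      one_mem' := ⟨1, one_mem _, by simp⟩
      mul_mem' := fun ⟨g, g1, hc⟩ ⟨k, k1, hd⟩ => ⟨_, mul_mem g1 k1, fun u => by rw [LinearEquiv.mul_apply, hd, hc]; rfl⟩
      inv_mem' := fun {a} ⟨g, g1, hc⟩ => ⟨_, inv_mem g1, fun u => g.injective (by
        rw [lin_apply_inv, hc, lin_apply_inv])⟩ }
  have k : ∀ n ∈ β.isom, Nz ρ' n → ∃ b : W ≃ₗ[F] W, b v = v ∧ congr n b ∈ X := fun n n1 n2 =>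
    let ⟨b, b1, hb⟩ := exists_fix h.s h.h2 h.oU h.hW hv ⟨_, h.s.congr_isom ⟨n, n1⟩ 1⟩
    ⟨(1 * b).1, by rwa [one_mul], h.mem (a := ⟨n, n1⟩) n2 hb⟩
  obtain ⟨χ, hχ⟩ := exists_dual_one (F := F) v0
  have h1 : ∀ u, g (u ⊗ₜ v) = ctr U χ (g (u ⊗ₜ v)) ⊗ₜ v := fun u => by
    obtain ⟨u', hu⟩ := H u
    simp [hu, hχ]
  obtain ⟨a, ha⟩ : ∃ a : U ≃ₗ[F] U, ∀ u, g (u ⊗ₜ v) = a u ⊗ₜ v := ⟨.ofInjectiveEndo (ctr U χ ∘ₗ g.toLinearMap ∘ₗ cu U v)
    ((injective_iff_map_eq_zero _).2 fun u hu => cu_injective v0 (g.injective (by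
      simp only [LinearMap.comp_apply, cu_apply, LinearEquiv.coe_coe] at hu
      rw [cu_apply, h1 u, hu]; simp))), h1⟩
  have a1 : a ∈ β.isom := isom_of_B h.h2 fun x y => mul_right_cancel₀ (quad_B_ne_zero h.h2 hv) (by
    rw [← h.B, ← h.B, ← ha, ← ha, (h.le hg).B_map])
  rcases core' h.pw' h.hW fx IH (Y := Y) fun n n1 n2 =>
    let ⟨b, b1, b2⟩ := k n n1 n2; ⟨_, b2, fun u => by simp [b1]⟩ with H | H
  swap
  · obtain ⟨b, b1, b2⟩ := k a a1 (H a ⟨g, hg, ha⟩ a1)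
    have b3 : ∀ u, ((congr a b)⁻¹ * g) (u ⊗ₜ v) = u ⊗ₜ v := fun u => (congr a b).injective (by
      simp [lin_apply_inv, ha, b1])
    obtain ⟨B, hB⟩ := h.slot_of_fix v0 b3 (h.nz_of_fix hT fx IH hs hW hv (mul_mem (inv_mem b2) hg) b3)
    exact (mul_mem_cancel_left (inv_mem (⟨_, _, rfl⟩ : congr a b ∈ tens F U W))).1 (mem_tens_of (a := .id) fun y => ⟨_, fun u => hB u y⟩)
  exfalso
  obtain ⟨i, l, hil⟩ := Fintype.exists_pair_of_one_lt_card hT
  obtain ⟨e, f, hf⟩ := Quad.exists_isHyp h.pw.nω (by omega)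
  obtain ⟨w, hw⟩ := exists_fr_of_hyp h.pw.nω hW hf
  obtain ⟨r, r1, r2, r3⟩ := exists_r h.pw' h.h2 hil.symm hw
  obtain ⟨g, g1, g2⟩ := H r1
  have hd := isEich_quad hf.Q_e hw.ew
  obtain ⟨s, s1, s2⟩ := h.rootE (ι i) hd
  have s3 : ∀ u y, s (u ⊗ₜ y) = ρ' i (ω.eich e w _ hd).1 u ⊗ₜ y := fun u y => by rw [s2, h.lt]; rfl
  have s4 : ∀ u, (s⁻¹ * (g * s * g⁻¹)) (u ⊗ₜ v) = u ⊗ₜ v := fun u => s.injective (by
    obtain ⟨u, rfl⟩ := r.surjective u
    rw [LinearEquiv.mul_apply, lin_apply_inv, LinearEquiv.mul_apply, ← g2, lin_inv_apply, LinearEquiv.mul_apply, s3, g2, g2,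
      s3, r2])
  have s5 := mul_mem (inv_mem s1) (mul_mem (mul_mem g1 s1) (inv_mem g1))
  have s6 := h.nz_of_fix hT fx IH hs hW hv s5 s4
  obtain ⟨B, hB⟩ := h.slot_of_fix v0 s4 s6
  have := Module.nontrivial_of_finrank_pos (R := F) (M := U ⊗[F] W) (by have := h.h9; omega)
  obtain ⟨p, hp⟩ := CharP.exists F
  have := Fact.mk (CharP.char_is_prime F p)
  have s7 : s ^ p = 1 := pow_of_cube h.h2 (by
    rw [show (s : End F (U ⊗[F] W)) = ρ (ι i) (ω.eich e w _ hd).1 from LinearMap.ext s2, ← map_one (ρ (ι i)), ← map_sub,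
      ← map_pow, eich_cube, map_zero])
  have s8 := h.one_of_fix hW hv s5 s4 s6 (nil_of_pow (p := p) (n := 1) (by
    have : Commute s (s⁻¹ * (g * s * g⁻¹)) := LinearEquiv.toLinearMap_injective (TensorProduct.ext' fun u y => by
      simp only [LinearEquiv.coe_coe, LinearEquiv.mul_apply s, LinearEquiv.mul_apply _ s, hB, s3])
    rw [pow_one, ← one_mul (_ ^ p), ← s7, ← this.mul_pow, mul_inv_cancel_left, conj_pow, s7, mul_one, mul_inv_cancel]))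
  have s9 : ∀ x, g (ρ (ι i) (ω.eich e w _ hd).1 x) = ρ (ι i) (ω.eich e w _ hd).1 (g x) := fun x => by
    simpa [lin_inv_apply, lin_apply_inv, ← s2] using congrArg (fun k => s (k (g x))) s8
  obtain ⟨l', H⟩ := h.cen hT fx IH hs hW (ι i) hd hf.e_ne_zero hw.ns g1 s9 (ι i)
  obtain ⟨b, hb⟩ := H (ω.eich e w _ hd).1
  obtain rfl := eq_of_rho h.pw (eich_ns h.h2 hw) ((cj_of_comm s9).symm.trans hb)
  obtain ⟨θ, hθ⟩ := H ((ω.B e).smulRight w)
  refine r3 θ (LinearMap.ext fun u => cu_injective (F := F) v0 ?_)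
  have := congrArg (· (u ⊗ₜ v)) hθ
  simp only [cj_apply] at this
  rw [← lin_apply_inv r u, ← g2, lin_inv_apply, g2, lin_apply_inv] at this
  simpa [h.lt, g2] using this

end Ov

end Cfsg.Lib.Forms.C7O
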