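import Cfsg.Agent.Lib.C7O.J

/-!
# Orthogonal tensor powers: involutions of three-dimensional factors
-/

namespace Cfsg.Lib.Forms.C7O

open Module Form TensorProduct Ten Qd TF C7 O4

variable {F U W V : Type*} [Field F] [AddCommGroup U] [Module F U] [AddCommGroup W] [Module F W] [AddCommGroup V]
  [Module F V] {ω : Form (quadKind F) W} {e v : W} {T T' : Type*} [Fintype T] [DecidableEq T]

section
variable {π : (T → End F W) →* End F V} {ρ : T → End F W →ₐ[F] End F V} {D : Form (quadKind F) V} {τ : (T → W) → V} {κ : F}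
  (h : Pw π ρ ω D τ κ) {g y : V ≃ₗ[F] V} {i l m : T}
include h

theorem cj_slot {b : End F W} (hg : ∀ x, g x = ρ l b x) (hi : i ≠ l) (a) : cj g (ρ i a) = ρ i a := cj_of_comm fun x => by
  rw [hg, hg, ← End.mul_apply, ← End.mul_apply, h.hρ l, comm_pi h.hρ (by simp [hi])]

variable [FiniteDimensional F W]

theorem slot_equiv {b : End F W} (hg : ∀ x, g x = ρ l b x) : ∃ b' : W ≃ₗ[F] W, ∀ x, g x = ρ l b' x :=
  ⟨.ofInjectiveEndo b ((injective_iff_map_eq_zero _).2 fun w hw => by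
    by_contra h0
    obtain ⟨ys, hy⟩ := h.exists_B_ne (xs := fun _ => w) fun _ => h0
    refine hy ?_
    have : τ (fun _ => w) = 0 := g.map_eq_zero_iff.1 ((hg _).trans (h.ext (y := 0) fun zs => by
      rw [h.rho, ← Function.update_eq_self l zs, h.B_update]; simp [hw]))
    simp [this]), hg⟩

variable (l) in
/-- The invertible elements of a factor. -/
def LG : Subgroup (V ≃ₗ[F] V) where
  carrier := {g | ∃ b, ∀ x, g x = ρ l b x}
  one_mem' := ⟨1, by simp⟩
  mul_mem' := fun ⟨a, ha⟩ ⟨b, hb⟩ => ⟨a * b, fun x => by simp [ha, hb]⟩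
  inv_mem' := fun {g} ⟨a, ha⟩ => let ⟨b, hb⟩ := slot_equiv h ha; ⟨(b⁻¹ :), fun x => g.injective (by
    rw [lin_apply_inv, hb, ← End.mul_apply, ← map_mul, show (b * (b⁻¹ :) : End F W) = 1 by ext; simp [lin_apply_inv]]
    simp)⟩

theorem LG_conj (hg : Tn ρ i l g) (hy : y ∈ LG h i) : g * y * g⁻¹ ∈ LG h l :=
  let ⟨a, ha⟩ := hy; (hg a).imp fun b hb x => by simp [← hb, ha]

theorem fix_slot (hW : 3 ≤ finrank F W) (hg : Tn ρ l i g) {xs : T → W} (hx : ∀ j, xs j ≠ 0)
    (H : ∀ a z, cj g (ρ l a) (τ (Function.update xs l z)) = ρ l a (τ (Function.update xs l z))) (a) :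
    cj g (ρ l a) = ρ l a := by
  obtain rfl : l = i := by
    by_contra H'
    obtain ⟨a, ha⟩ := exists_ns hW
    obtain ⟨b, hb⟩ := hg a
    obtain ⟨c, hc⟩ := sep h H' hx (a := a) (b := b) fun z => by rw [← H, hb]
    exact ha c hc
  obtain ⟨b, hb⟩ := hg a
  rw [hb, sep' h hx (a := a) (b := b) fun z => by rw [← H, hb]]

theorem swap_cen [FiniteDimensional F V] (hW : finrank F W = 3) (h1 : y * y = 1) (h3 : Tn ρ l i y) (hl : l ≠ i)
    (h4 : rk ((y : End F V) + 1) * 3 = finrank F V) (h5 : Nz ρ y) (m1 : m ≠ l) (m2 : m ≠ i) (a) :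
    cj y (ρ m a) = ρ m a := by
  have := Module.nontrivial_of_finrank_pos (R := F) (M := W) (by omega)
  let b := finBasisOfFinrankEq F W hW
  obtain ⟨P, hP⟩ : ∃ P : Fin 3 → Fin 3 → End F W, ∀ r s, P r s = (b.coord s).smulRight (b r) := ⟨_, fun _ _ => rfl⟩
  have p1 : ∀ r s r' s', P r s * P r' s' = if s = r' then P r s' else 0 := fun r s r' s' => by
    rw [hP, hP, rr]; by_cases H : s = r' <;> simp [H, hP, Finsupp.single_apply, eq_comm]
  have p2 : P 0 0 + P 1 1 + P 2 2 = 1 := b.ext fun r => by fin_cases r <;> simp [hP]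
  choose Q hQ using h3
  obtain ⟨E, hE⟩ : ∃ E : Fin 3 → Fin 3 → End F V, ∀ r s, E r s = ρ l (P r s) := ⟨_, fun _ _ => rfl⟩
  obtain ⟨G, hG⟩ : ∃ G : Fin 3 → End F V, ∀ r, G r = ρ i (Q (P r r)) := ⟨_, fun _ => rfl⟩
  have yy : ∀ x, y (y x) = x := fun x => congrArg (· x) h1
  have e1 : ∀ r s r' s', E r s * E r' s' = if s = r' then E r s' else 0 := fun r s r' s' => by
    rw [hE, hE, ← map_mul, p1]; split_ifs <;> simp [hE]
  have e2 : E 0 0 + E 1 1 + E 2 2 = 1 := by simp only [hE, ← map_add, p2, map_one]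
  have e3 : ∀ r, (y : End F V) * E r r = G r * y := fun r => LinearMap.ext fun x => by simp [hG, ← hQ, hE, lin_inv_apply]
  have e4 : ∀ r, (y : End F V) * G r = E r r * y := fun r => LinearMap.ext fun x => by
    simp [hG, ← hQ, hE, yy, inv_eq_of_mul_eq_one_right h1]
  have e5 : ∀ r s, G r * G s = if r = s then G r else 0 := fun r s => by
    rw [hG, hG, ← hQ, ← hQ, ← cj_mul', ← hE, ← hE, e1]
    split_ifs with H
    · rw [H]
    · ext; simp
  have e6 : G 0 + G 1 + G 2 = 1 := by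
    simp only [hG, ← hQ, ← cj_add, ← hE, e2]; ext; simp [lin_apply_inv]
  have e7 : ∀ r s t, G t * E r s = E r s * G t := fun r s t => by rw [hG, hE, h.hρ i, comm_pi h.hρ (by simp [hl])]
  have e7' : ∀ r s t z, G t * (E r s * z) = E r s * (G t * z) := fun r s t z => by rw [← mul_assoc, e7, mul_assoc]
  have e1' : ∀ r s r' s' z, E r s * (E r' s' * z) = if s = r' then E r s' * z else 0 := fun r s r' s' z => by
    rw [← mul_assoc, e1]; split_ifs <;> simp
  have e5' : ∀ r s z, G r * (G s * z) = if r = s then G r * z else 0 := fun r s z => by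
    rw [← mul_assoc, e5]; split_ifs <;> simp
  have e3' : ∀ r z, (y : End F V) * (E r r * z) = G r * (y * z) := fun r z => by rw [← mul_assoc, e3, mul_assoc]
  obtain ⟨A, hA⟩ : ∃ A, A = E 0 0 * G 1 + E 1 1 * G 2 + E 2 2 * G 0 := ⟨_, rfl⟩
  have r0 : ∀ a b c : End F V, rk (a * b * c) ≤ rk b := fun a b c => (Submodule.finrank_mono
    (LinearMap.range_comp_le_range c (a * b))).trans (by
      rw [End.mul_eq_comp, LinearMap.range_comp]; exact Submodule.finrank_map_le _ _)
  have r1 : ∀ a b : End F V, rk (a + b) ≤ rk a + rk b := fun a b => (Submodule.finrank_mono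
    (LinearMap.range_add_le a b)).trans (Submodule.finrank_add_le_finrank_add_finrank _ _)
  have r2 : (1 : End F V) = A + (E 1 0 + E 2 1 + E 0 2) * A * (E 0 1 + E 1 2 + E 2 0) +
      (E 0 1 + E 1 2 + E 2 0) * A * (E 1 0 + E 2 1 + E 0 2) := by
    rw [← one_mul 1]
    nth_rw 1 [← e2]
    rw [← e6]
    simp [hA, mul_add, add_mul, mul_assoc, e7, e1']
    abel
  have r3 : finrank F V ≤ rk A + rk A + rk A := by
    generalize E 1 0 + E 2 1 + E 0 2 = C, E 0 1 + E 1 2 + E 2 0 = C' at r2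
    have := (r1 (A + C * A * C') (C' * A * C)).trans (add_le_add ((r1 _ _).trans (add_le_add le_rfl (r0 _ A _))) (r0 _ A _))
    rwa [← r2, rk, End.one_eq_id, LinearMap.range_id, finrank_top] at this
  have r4 : A * (y + 1) * A = A := by simp [hA, mul_add, add_mul, mul_assoc, e7', e1', e3', e5', e4, e5]
  have r5 : LinearMap.range (((y : End F V) + 1) * A) = LinearMap.range ((y : End F V) + 1) :=
    Submodule.eq_of_le_of_finrank_le (LinearMap.range_comp_le_range _ _) (by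
      have := r0 A ((y + 1) * A) 1
      rw [mul_one, ← mul_assoc, r4] at this
      change rk _ ≤ rk _
      omega)
  have r6 : ∀ x, y ((E 0 0 * G 0) x) = -(E 0 0 * G 0) x := fun x => by
    obtain ⟨z, hz⟩ := r5.ge ⟨(E 0 0 * G 0) x, rfl⟩
    have := congrArg A hz
    rw [← End.mul_apply, ← mul_assoc, r4, ← End.mul_apply ((y : End F V) + 1), ← End.mul_apply A,
      show A * ((y + 1) * (E 0 0 * G 0)) = 0 by simp [hA, mul_add, add_mul, mul_assoc, e7', e1', e3', e5', e4, e5]] at this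
    rw [End.mul_apply, this] at hz
    exact eq_neg_of_add_eq_zero_left (by simpa using hz.symm)
  obtain ⟨x, hx⟩ : ∃ x, Q (P 0 0) x ≠ 0 := by
    by_contra! H
    exact ns_of_cj h (fun c hc => by simpa [hP] using congrArg (fun A => b.coord 0 (A (b 0)) - b.coord 1 (A (b 1))) hc)
      (hQ (P 0 0)) 0 (LinearMap.ext (by simpa))
  have q : Q (P 0 0) (Q (P 0 0) x) = Q (P 0 0) x := congrArg (· x) (rho_inj h i (by rw [map_mul, ← hG, e5]; rfl) :
    Q (P 0 0) * Q (P 0 0) = _)
  obtain ⟨m', hm⟩ := h5 m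
  refine fix_slot h hW.ge hm (xs := Function.update (fun _ => b 0) i (Q (P 0 0) x)) (fun k => by
    by_cases H : k = i <;> simp [H, hx, b.ne_zero]) (fun a z => ?_) a
  have k : ∀ z, y (τ (Function.update (Function.update (fun _ => b 0) i (Q (P 0 0) x)) m z)) =
      -τ (Function.update (Function.update (fun _ => b 0) i (Q (P 0 0) x)) m z) := fun z => by
    convert r6 (τ (Function.update (Function.update (fun _ => b 0) i (Q (P 0 0) x)) m z)) <;>
    · rw [End.mul_apply, hG, hE, h.rho, h.rho]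
      congr 1; funext k
      by_cases k1 : k = l
      · simp [k1, hl, m1.symm, hP]
      · by_cases k2 : k = i <;> simp [k1, k2, hl.symm, m2.symm, q]
  rw [cj_apply, inv_eq_of_mul_eq_one_right h1, k, map_neg, h.rho, Function.update_idem, map_neg, k, neg_neg]

end

variable (ω) in
/-- The involution fixing `v`. -/
noncomputable def iv (v : W) : ω.isom := ω.negOne * ω.refl v

theorem iv_apply (v x : W) : (iv ω v).1 x = ((ω.Q v)⁻¹ * ω.B v x) • v - x := by simp [iv, refl_apply]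

theorem rg_iv (v : W) (x : U ⊗[F] W) : rg U (iv ω v).1 x = ((ω.Q v)⁻¹ • ctr U (ω.B v) x) ⊗ₜ v - x := by
  induction x with
  | zero => simp
  | tmul u w => simp [iv_apply, tmul_sub, smul_tmul', smul_smul]
  | add a b ha hb => simp only [map_add, ha, hb, smul_add, add_tmul]; abel

theorem iv_self (hv : ω.Q v ≠ 0) (u : U) : rg U (iv ω v).1 (u ⊗ₜ v) = u ⊗ₜ v := by
  simp [iv_apply, quad_B_self, show (ω.Q v)⁻¹ * (2 * ω.Q v) = 2 by field_simp, two_smul]

theorem iv_iv (hv : ω.Q v ≠ 0) : rg U (iv ω v).1 * rg U (iv ω v).1 = 1 := LinearEquiv.ext fun x => by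
  rw [LinearEquiv.mul_apply, rg_iv v x, map_sub, iv_self hv, rg_iv]; simp

theorem fix_iv (h2 : (2 : F) ≠ 0) {x : U ⊗[F] W} (h : rg U (iv ω v).1 x = x) : ∃ u, x = u ⊗ₜ v := by
  rw [rg_iv, sub_eq_iff_eq_add, ← two_smul F x] at h
  exact ⟨(2 : F)⁻¹ • _, by rw [← smul_tmul', h, smul_smul, inv_mul_cancel₀ h2, one_smul]⟩

theorem rk_iv (h2 : (2 : F) ≠ 0) (hv : ω.Q v ≠ 0) : rk ((rg U (iv ω v).1 : End F (U ⊗[F] W)) + 1) = finrank F U := by
  have : LinearMap.range ((rg U (iv ω v).1 : End F (U ⊗[F] W)) + 1) = LinearMap.range (cu U v) := by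
    refine le_antisymm ?_ ?_ <;> rintro _ ⟨x, rfl⟩
    · exact ⟨(ω.Q v)⁻¹ • ctr U (ω.B v) x, by
        rw [LinearMap.add_apply, LinearEquiv.coe_coe, rg_iv, End.one_apply, sub_add_cancel, cu_apply]⟩
    · refine ⟨((2 : F)⁻¹ • x) ⊗ₜ v, ?_⟩
      simp only [LinearMap.add_apply, LinearEquiv.coe_coe, iv_self hv, End.one_apply, cu_apply]
      rw [← two_smul F, smul_tmul', smul_smul, mul_inv_cancel₀ h2, one_smul]
  rw [rk, this, LinearMap.finrank_range_of_inj (cu_injective (by rintro rfl; simp at hv))]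

end Cfsg.Lib.Forms.C7O
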