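import Cfsg.Agent.Lib.Max.TQ4

/-!
# `O₃ ⊗ O₃`: the stabiliser of `U ⊗ e`
-/

namespace Cfsg.Lib.Forms.TF.O3

open Module Form TensorProduct Ten Qd O4

theorem not_hasTS {F W : Type*} [Field F] [AddCommGroup W] [Module F W] [FiniteDimensional F W]
    {ω : Form (quadKind F) W} (h : ω.Nondeg) (hW : finrank F W = 3) : ¬ ω.HasTS 2 := fun ⟨U, h1, h2⟩ => by
  have := h2.two_mul_finrank_le h
  omega

theorem skew_self {F U : Type*} [Field F] [AddCommGroup U] [Module F U] {β : Form (quadKind F) U} (h2 : (2 : F) ≠ 0)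
    {A : U →ₗ[F] U} (sk : Skew β A) (x : U) : β.B x (A x) = 0 := (mul_eq_zero.1 (by
  have := sk x x
  rw [quad_symm] at this
  linear_combination this)).resolve_left h2

theorem exists_not_eig {F U : Type*} [Field F] [Finite F] [AddCommGroup U] [Module F U] [FiniteDimensional F U]
    {β : Form (quadKind F) U} (hβ : β.Nondeg) (h2 : (2 : F) ≠ 0) (hn : 3 ≤ finrank F U) {A : U →ₗ[F] U}
    (sk : Skew β A) (h0 : A ≠ 0) : ∃ u, β.Q u = 0 ∧ A u ∉ F ∙ u := by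
  obtain ⟨e, e0, e1⟩ := Quad.exists_singular β hn
  obtain ⟨e', he⟩ := hβ.exists_isHyp e1 e0
  by_contra! H
  refine h0 (LinearMap.ext (he.induction_singular (P := fun x => A x = 0) (fun u hu => ?_)
    fun x y hx hy => by simp [hx, hy]))
  by_contra h3
  obtain ⟨f, hf⟩ := hβ.exists_isHyp hu (by rintro rfl; simp at h3)
  obtain ⟨w, w1, w2⟩ := exists_hp_Q hβ h2 hn hf
  obtain ⟨w3, w4⟩ := β.mem_hp.1 w1
  obtain ⟨a, ha⟩ := Submodule.mem_span_singleton.1 (H u hu)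
  obtain ⟨b, hb⟩ := Submodule.mem_span_singleton.1 (H f hf.Q_f)
  obtain ⟨c, hc⟩ := Submodule.mem_span_singleton.1 (H ((1 : F) • u + (-β.Q w) • f + w) (by
    rw [hf.Q_comb _ _ w1]; simp))
  have k1 := sk u f
  have k2 := sk u ((1 : F) • u + (-β.Q w) • f + w)
  have k3 := sk f ((1 : F) • u + (-β.Q w) • f + w)
  rw [← hc] at k2 k3
  simp only [← ha, ← hb, β.B_lin, hf.B_ef, hf.B_fe, hf.B_ee, hf.B_ff, w3, w4, quadKind_ε,
    RingHom.id_apply] at k1 k2 k3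
  refine h3 (by
    rw [← ha, show a = 0 from (mul_eq_zero.1 ((mul_eq_zero.1 (show β.Q w * (2 * a) = 0 by
      linear_combination β.Q w * k1 - k2 - β.Q w * k3)).resolve_left w2)).resolve_left h2, zero_smul])

theorem all_smul {F M : Type*} [Field F] [AddCommGroup M] [Module F M] (h2 : (2 : F) ≠ 0) {P : M → Prop}
    (sub : ∀ x y, P x → P y → P (x - y)) {x : M} (h : ∀ t : F, P ((t * t) • x)) (c : F) : P (c • x) := by
  have := sub _ _ (h ((c + 1) / 2)) (h ((c - 1) / 2))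
  rwa [← sub_smul, show (c + 1) / 2 * ((c + 1) / 2) - (c - 1) / 2 * ((c - 1) / 2) = c by field_simp; ring] at this

variable {F U W : Type*} [Field F] [AddCommGroup U] [Module F U] [AddCommGroup W] [Module F W]
  [FiniteDimensional F U] [FiniteDimensional F W] [Finite F] {X G : Subgroup (U ⊗[F] W ≃ₗ[F] U ⊗[F] W)}
  {β : Form (quadKind F) U} {ω : Form (quadKind F) W} {D : Form (quadKind F) (U ⊗[F] W)}
  (h : St β ω D X G) (h2 : (2 : F) ≠ 0) (hn : 3 ≤ finrank F U) (hW : 3 ≤ finrank F W)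
include h h2

include hn hW

theorem win3 (A : ∀ e (he : ω.Q e = 0) u v, v ⊗ₜ e ∈ zSet (X.subgroupOf D.isom) _ (Q_tmul h h2 u he)) :
    D.E ≤ X.subgroupOf D.isom := by
  have B₀ : ∀ e (he : ω.Q e = 0) u g, ω.Q g = 0 → ω.B g e = 1 → ∀ x, β.B x u = 0 →
      x ⊗ₜ g ∈ zSet (X.subgroupOf D.isom) _ (Q_tmul h h2 u he) := fun e he u g hg h1 x hx => by
    obtain ⟨v', -, v1, v2⟩ := exists_not_mem_kers ⊤ (F ∙ x) [β.B u] (by
      have := finrank_span_singleton_le (F := F) x; simp; omega)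
    obtain ⟨v, v3, v4⟩ := h.nβ.exists_perp_B_eq' v1 1
    exact comm_mem_zSet (A e he u v) (A g hg v' x) (by simp [h.B, β.eq_zero_symm (v2 (β.B u) (by simp))])
      (by simp [h.B, hx]) (by simp [h.B, β.mem_perp_span_singleton.1 v3]) (by simp [h.B, v4, h1])
      (Q_tmul h h2 x hg)
  have B : ∀ {e f} (hf : ω.IsHyp e f) u x, β.B x u = 0 → ∀ w,
      x ⊗ₜ w ∈ zSet (X.subgroupOf D.isom) _ (Q_tmul h h2 u hf.Q_e) := fun {e f} hf u x hx w => by
    obtain ⟨w₀, w1, w2⟩ := hf.exists_comb w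
    have := add_mem (add_mem (B₀ e hf.Q_e u ((-ω.Q w₀) • e + (1 : F) • f + w₀) (by
      rw [hf.Q_comb _ _ w1]; simp) (by
        simp [hf.B_ee, hf.B_fe, ω.eq_zero_symm (ω.mem_hp.1 w1).1]) x hx)
      (B₀ e hf.Q_e u f hf.Q_f hf.B_fe ((ω.B e w - 1) • x) (by simp [hx])))
      (A e hf.Q_e u ((ω.B f w + ω.Q w₀) • x))
    convert this using 1
    conv_lhs => rw [w2]
    simp only [tmul_add, smul_tmul, tmul_smul, quadKind_ε]
    module
  have C : ∀ {e f} (hf : ω.IsHyp e f) {u v} (hu : β.IsHyp u v) w, ω.B e w = 0 → ∀ u',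
      u' ⊗ₜ w ∈ zSet (X.subgroupOf D.isom) _ (Q_tmul h h2 u hf.Q_e) := fun {e f} hf {u v} hu w hw u' => by
    obtain ⟨w₀, w1, w2⟩ := hf.exists_comb w
    rw [w2, hw, zero_smul, add_zero, tmul_add, ← smul_tmul]
    refine add_mem (A e hf.Q_e u _) ?_
    obtain ⟨w3, w4⟩ := ω.mem_hp.1 w1
    rw [← sub_add_cancel u' (β.B u u' • v), add_tmul, smul_tmul]
    refine add_mem (B hf u _ (β.eq_zero_symm (by simp [hu.B_ef])) _) ?_
    exact comm_mem_zSet (B hf u u hu.B_ee f) (B hf v v hu.B_ff _)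
      (by simp [h.B, hf.B_ee]) (by simp [h.B, ω.eq_zero_symm w3]) (by simp [h.B, ω.eq_zero_symm w4])
      (by simp [h.B, hu.B_fe, hf.B_ef]) (Q_tmul' h h2 hu.Q_f _)
  have E : ∀ {e f} (hf : ω.IsHyp e f) {u v} (hu : β.IsHyp u v), D.At (X.subgroupOf D.isom) ⊤ (u ⊗ₜ e) :=
    fun {e f} hf {u v} hu => quad_at (he := Q_tmul h h2 u hf.Q_e) fun z _ hz => by
      have : ∀ z, z - ctr U (ω.B e) z ⊗ₜ f ∈ zSet (X.subgroupOf D.isom) _ (Q_tmul h h2 u hf.Q_e) :=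
        fun z => by
          induction z with
          | zero => simp
          | tmul u' w => simpa [tmul_sub, smul_tmul] using C hf hu (w - ω.B e w • f) (by simp [hf.B_ef]) u'
          | add a b ha hb => convert add_mem ha hb using 1; simp only [map_add, add_tmul]; abel
      exact sub_add_cancel z _ ▸ add_mem (this z) (B hf u _ (β.eq_zero_symm (h.B_left .. ▸ hz)) f)
  obtain ⟨e, f, hf⟩ := Quad.exists_isHyp h.nω (by omega)
  obtain ⟨u, v, hu⟩ := Quad.exists_isHyp h.nβ hn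
  exact (E hf hu).E_le h.nD (E (show ω.IsHyp f e by simpa using hf.symm)
    (show β.IsHyp v u by simpa using hu.symm)) (Q_tmul h h2 u hf.Q_e)
    (Q_tmul h h2 v hf.Q_f) (by simp [h.B, hf.B_ef, hu.B_ef])

variable (hA : ∀ a ∈ β.E, congr a.1 1 ∈ X) (hO : finrank F U = 3) (hno : ¬ D.E ≤ X.subgroupOf D.isom)
include hA hO hno

theorem z3 {e : W} (he : ω.Q e = 0) (h0 : e ≠ 0) {k} (hk : k ∈ X)
    (h1 : ∀ x, ∃ u, k x = x + u ⊗ₜ e) (x : U ⊗[F] W) : k x = x := by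
  obtain ⟨f, hf⟩ := h.nω.exists_isHyp he h0
  obtain ⟨α, h3, h4, h5⟩ := h.exists_zp hf hk h1
  rcases eq_or_ne α 0 with rfl | H
  · simp [h3]
  have sk : Skew β α := fun x y => by simpa using h5 x y
  have cjZ : ∀ a ∈ β.E, ∀ A, Zp ω X e A → Zp ω X e (cj a.1 A) := fun a ha A hA' => by
    have := Zp.conj hA' (b := 1) (hA a ha) (t := 1) (by simp)
    rwa [map_one, one_mul, one_smul] at this
  let S : Submodule F (U →ₗ[F] U) :=
    { carrier := {A | ∀ c : F, Zp ω X e (c • A)}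
      add_mem' := fun ha hb c => by rw [smul_add]; exact (ha c).add he (hb c)
      zero_mem' := fun c => hasU_zero.congr fun x => by simp
      smul_mem' := fun c A ha d => by rw [smul_smul]; exact ha _ }
  obtain ⟨u, hu, u1⟩ := exists_not_eig h.nβ h2 hn sk H
  have u0 : u ≠ 0 := by rintro rfl; simp at u1
  have u2 := skew_self h2 sk u
  have u3 : β.Q (α u) ≠ 0 := fun h6 => u1 (Submodule.mem_span_singleton.2
    (mem_span_of_index (not_hasTS h.nβ hO) hu u0 h6 u2))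
  have u4 : (2 * β.Q (α u)) • wd β u (α u) ∈ S := all_smul h2 (P := Zp ω X e) (fun _ _ => Zp.sub he) fun t => by
    have hz : β.B u (t • α u) = 0 := by simp [u2]
    have hz' : β.B u (-(t • α u)) = 0 := by simp [u2]
    convert Zp.sub he (Zp.add he (cjZ _ (eich_mem_E _ _ _ (isEich_quad hu hz)) α h4)
      (cjZ _ (eich_mem_E _ _ _ (isEich_quad hu hz')) α h4)) (Zp.add he h4 h4) using 1
    ext x
    have := ev_apply α hu hz x
    simp only [ev, LinearMap.sub_apply, LinearMap.add_apply, LinearMap.comp_apply, LinearMap.smul_apply, two_smul] at this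
    rw [LinearMap.sub_apply, LinearMap.add_apply, cj_eich hu hz, cj_eich hu hz', neg_neg, Q_neg, LinearMap.add_apply,
      this]
    simp only [wd_apply, LinearMap.smul_apply, map_sub, map_smul, u2, sk u, smul_eq_mul, quad_Q_smul,
      quad_B_self, β.B_lin, RingHom.id_apply, skew_self h2 sk]
    have e1 : β.B u (α (α u)) = -(2 * β.Q (α u)) := by rw [← quad_B_self, sk u, neg_neg]
    have e2 : β.B u (α x) = -β.B (α u) x := by rw [sk u, neg_neg]
    have e3 : β.B u (α (α (α u))) = 0 := by rw [← neg_eq_zero, ← sk u, skew_self h2 sk]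
    rw [e1, e2, e3]
    module
  have T := wd_mem h.nβ h2 hn (Or.inl (by omega)) (S := S) (fun a ha A hA' c => by
    convert cjZ a ha _ (hA' c) using 1
    ext; simp) ((S.smul_mem_iff (mul_ne_zero h2 u3)).1 u4) (fun x y => by
      simp only [wd_apply, β.B_lin, RingHom.id_apply, quad_symm β x]; ring) (fun h6 => by
      have := LinearMap.congr_fun h6 (α u)
      simp [wd_apply, u2, quad_B_self, h2, u3, u0] at this)
  have T1 : ∀ u v, v ⊗ₜ e ∈ zSet (X.subgroupOf D.isom) _ (Q_tmul h h2 u he) := fun u v =>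
    ⟨0, ⟨Q_tmul h h2 u he, by simp [h.B, hf.B_ee], (Q_tmul h h2 v he).symm⟩,
      HasU.mem (T u v (-1)) fun x => by
        simp [eich_apply, h.B_left, wd_apply, sub_tmul, smul_tmul', add_sub_assoc]⟩
  refine absurd (win3 h h2 hn hW fun e' he' u v => ?_) hno
  rcases eq_or_ne e' 0 with rfl | h6
  · simp
  obtain ⟨b, hb, c, c0, hc⟩ := h.nω.exists_mem_map_smul eich_mem_E (Or.inr hW) he h0 he' h6
  convert conj_mem_zSet (g := ⟨_, h.congr_isom 1 b⟩) (T1 (c⁻¹ • u) (c⁻¹ • v)) (h.right_mem hb) using 2 <;>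
    simp [hc, smul_tmul', smul_smul, c0]

variable (hC : ∀ b ∈ commutator ω.isom, congr 1 b.1 ∈ X)
include hC

omit hn hW hA hO hno in
theorem cp_sq3 {e f : W} (hf : ω.IsHyp e f) {Γ : U →ₗ[F] U ⊗[F] W} (hΓ : Cp ω X e f Γ) {c : F} (hc : c ≠ 0) :
    Cp ω X e f (c ^ 2 • Γ) := by
  have t0 := pow_ne_zero 2 hc
  generalize ht : c ^ 2 = t at t0
  obtain ⟨b, b1, b2, b3⟩ := hf.exists_torus h.nω t0
  have hb : b ∈ commutator ω.isom := by
    rw [h.nω.mem_commutator_iff (good_of_two_ne_zero h2)]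
    exact ⟨hf.dickson_torus h.nω t0 b1 b2 b3,
      (hf.spinor_torus h.nω t0 b1 b2 b3).trans (chi_of_isSquare ⟨c, by rw [← ht, sq]⟩)⟩
  rw [RingHom.id_apply] at b2
  have hX := hC b hb
  obtain ⟨k, hk, k1, k2⟩ := hΓ
  have g1 : ∀ u, (congr (1 : U ≃ₗ[F] U) b.1)⁻¹ (u ⊗ₜ e) = (t⁻¹ • u) ⊗ₜ e := fun u =>
    (congr (1 : U ≃ₗ[F] U) b.1).injective (by simp [lin_apply_inv, b1, smul_tmul', smul_smul, t0])
  have g2 : ∀ u, (congr (1 : U ≃ₗ[F] U) b.1)⁻¹ (u ⊗ₜ f) = (t • u) ⊗ₜ f := fun u =>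
    (congr (1 : U ≃ₗ[F] U) b.1).injective (by simp [lin_apply_inv, b2, smul_tmul', smul_smul, t0])
  have g3 : ∀ x, ctr U (ω.B e) x = 0 → ∃ s, congr (1 : U ≃ₗ[F] U) b.1 x = x + s ⊗ₜ e := fun x hx => by
    obtain ⟨s, hs⟩ := ker_ind (U := U) hf.B_ef (P := (LinearMap.range (cu U e)).comap
      ((congr (1 : U ≃ₗ[F] U) b.1).toLinearMap - 1)) (fun u w hw => by
        obtain ⟨w₀, w1, w2⟩ := hf.exists_comb w
        refine ⟨((t - 1) * ω.B f w) • u, ?_⟩
        have : b.1 w - w = ((t - 1) * ω.B f w) • e := by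
          conv_lhs => rw [w2]
          simp only [map_add, map_smul, b1, b2, b3 w₀ w1, hw, quadKind_ε]
          module
        simp [← tmul_sub, this, smul_tmul]) hx
    exact ⟨s, by
      rw [← cu_apply, hs, LinearMap.sub_apply, LinearEquiv.coe_coe, Module.End.one_apply, add_sub_cancel]⟩
  have g4 : ∀ u, ctr U (ω.B e) (Γ u) = 0 := fun u => by
    obtain ⟨s, hs⟩ := k2 u
    have := h.ctr_sub hk k1.fix (u ⊗ₜ f)
    simpa [hs, hf.B_ee] using this
  refine ⟨_, X.mul_mem (X.mul_mem hX hk) (X.inv_mem hX), ⟨fun u => by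
    simp [LinearEquiv.mul_apply, g1, k1.fix, b1, smul_tmul', smul_smul, t0], fun x hx => ?_⟩, fun u => ?_⟩
  · obtain ⟨u, hu⟩ := k1.sub ((congr (1 : U ≃ₗ[F] U) b.1)⁻¹ x) (by
      rw [ctr_congr_inv, b1]; simp [hx])
    exact ⟨t • u, by
      rw [LinearEquiv.mul_apply, LinearEquiv.mul_apply, hu, map_add, lin_apply_inv]
      simp [b1, smul_tmul']⟩
  · obtain ⟨s, hs⟩ := k2 (t • u)
    obtain ⟨s', hs'⟩ := g3 _ (g4 (t • u))
    refine ⟨s' + t • s, ?_⟩
    rw [LinearEquiv.mul_apply, LinearEquiv.mul_apply, g2, hs, map_add, map_add, hs']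
    simp [b1, b2, smul_tmul', smul_smul, t0, add_tmul, add_assoc]

variable (hI : ¬ ω.HasTS 2) {c : F} (c0 : c ≠ 0) (c1 : c ^ 2 ≠ 1)
include hI c0 c1

theorem m3 {e : W} (he : ω.Q e = 0) (h0 : e ≠ 0) {k} (hk : k ∈ X) (h1 : IsQ U ω e k) (w : W)
    (hw : ω.B e w = 0) : ∃ c : F, ∀ u, k (u ⊗ₜ w) = u ⊗ₜ w + c • u ⊗ₜ e := by
  obtain ⟨f, hf⟩ := h.nω.exists_isHyp he h0
  have d0 : ∀ {Γ Γ'}, Cp ω X e f Γ → Cp ω X e f Γ' → ∀ u u', D.B (Γ' u') (Γ u) = D.B (Γ u') (Γ' u) :=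
    fun c1 c2 u u' => by
      obtain ⟨y, hy, y1, y2⟩ := h.cp_comm he c1 c2
      have := y2 u u'
      rwa [z3 h h2 hn hW hA hO hno he h0 hy y1, sub_self, map_zero, eq_comm, sub_eq_zero] at this
  have d1 : ∀ {Γ}, Cp ω X e f Γ → ∀ w, ω.B e w = 0 → ∀ u u',
      β.B (ctr U (ω.B w) (Γ u)) u' = β.B u (ctr U (ω.B w) (Γ u')) := fun c w hw u u' => by
    have hd := isEich_quad he hw
    have := d0 c (Γ' := -cu U w) ⟨_, h.eich_mem hd, (h.eich_isQ hd).1, fun u => ⟨(ω.B w f - ω.Q w) • u, by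
      simp [eich_apply, hf.B_ef, tmul_add, tmul_sub, smul_tmul', sub_smul, sub_tmul]; abel⟩⟩ u u'
    rwa [LinearMap.neg_apply, LinearMap.neg_apply, D.B_neg_left, D.B_neg_right, neg_inj, cu_apply,
      cu_apply, quad_symm D _ (u ⊗ₜ w), h.B_left, h.B_left, quad_symm] at this
  have da : ∀ {Γ Γ'}, Cp ω X e f Γ → Cp ω X e f Γ' → Cp ω X e f (Γ + Γ') := fun {Γ Γ'} c1 c2 =>
    (h.cp_sub he c1 (h.cp_sub he (h.cp_sub he c2 c2) c2)).of_eq fun u => by simp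
  obtain ⟨Γ, hΓ, c3⟩ : ∃ Γ : U →ₗ[F] U ⊗[F] W, (∀ u, Γ u = k (u ⊗ₜ f) - u ⊗ₜ f) ∧ Cp ω X e f Γ :=
    ⟨_, fun _ => rfl, Cp.of f hk h1⟩
  have g0 : ∀ u, ctr U (ω.B e) (Γ u) = 0 := fun u => by simp [hΓ, h.ctr_sub hk h1.fix]
  have cc : ∀ (a : U ≃ₗ[F] U) (φ : W →ₗ[F] F) (x : U ⊗[F] W), ctr U φ (congr a (1 : ω.isom).1 x) = a (ctr U φ x) :=
    fun a φ x => by
      induction x with
      | zero => simp
      | tmul u w => simp
      | add a b ha hb => simp only [map_add, ha, hb]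
  have c4 : ∀ u, β.Q u = 0 → ∃ t : F, t • e = ctl W (β.B u) (Γ u) := fun u hu => by
    rcases eq_or_ne u 0 with rfl | u0
    · exact ⟨0, by simp⟩
    obtain ⟨v, hv⟩ := h.nβ.exists_isHyp hu u0
    obtain ⟨z, z1, z2⟩ := exists_hp_Q h.nβ h2 hn hv
    have z3 := (β.mem_hp.1 z1).1
    have ev0 : ∀ z (hz : β.B u z = 0), ∃ Γ', Cp ω X e f Γ' ∧ ∀ φ x, ctr U φ (Γ' x) = ev β (ctr U φ ∘ₗ Γ) u z x :=
      fun z hz => by
        have hz' : β.B u (-z) = 0 := by simp [hz]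
        refine ⟨_, h.cp_sub he (da (c3.conj (b := 1) (hA _ (eich_mem_E _ _ _ (isEich_quad hu hz))) rfl)
          (c3.conj (b := 1) (hA _ (eich_mem_E _ _ _ (isEich_quad hu hz'))) rfl)) (da c3 c3), fun φ x => ?_⟩
        have e1 := cj_eich hu hz (ctr U φ ∘ₗ Γ) x
        have e2 := cj_eich hu hz' (ctr U φ ∘ₗ Γ) x
        conv_rhs at e2 => rw [neg_neg, Q_neg]
        simp only [cj_apply, LinearMap.comp_apply] at e1 e2
        simp only [LinearMap.sub_apply, LinearMap.add_apply, LinearMap.comp_apply, LinearEquiv.coe_coe,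
          map_sub, map_add, cc, e1, e2, ev, LinearMap.smul_apply, two_smul]
    have z4 : β.B u (c • z) = 0 := by simp [z3]
    obtain ⟨Γ₁, p1, p2⟩ := ev0 _ z4
    obtain ⟨Γ₂, p3, p4⟩ := ev0 _ z3
    obtain ⟨κ, hκ⟩ : ∃ κ, κ = 2 * (c ^ 2 * (c ^ 2 - 1) * β.Q z ^ 2) := ⟨_, rfl⟩
    have κ0 : κ ≠ 0 := by simp [hκ, h2, c0, sub_eq_zero, c1, z2]
    obtain ⟨y, hy⟩ : ∃ y, y = ctl W (β.B u) (Γ u) := ⟨_, rfl⟩
    have p5 : Cp ω X e f (cu U y ∘ₗ (κ • (β.B u).smulRight u)) :=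
      (h.cp_sub he p1 (cp_sq3 h h2 hC hf p3 c0)).of_eq fun x => sub_eq_zero.1 (eq_zero_of_ctr fun φ => by
        simp only [LinearMap.sub_apply, LinearMap.smul_apply, map_sub, map_smul, p2, p4, ev_apply _ hu z3,
          ev_apply _ hu z4, wd_apply, quad_Q_smul, LinearMap.smulRight_apply, smul_eq_mul,
          LinearMap.comp_apply, cu_apply, ctr_tmul, hy, ctl_ctr, hκ]
        module)
    obtain ⟨a, ha, t, t0, ht⟩ := h.nβ.exists_mem_map_smul eich_mem_E (Or.inr hn) hu u0 hv.Q_f hv.f_ne_zero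
    have p6 := d0 p5 (p5.conj (b := 1) (hA a ha) rfl) v u
    have a1 : β.B u ((a.1⁻¹ : U ≃ₗ[F] U) u) = t := by
      rw [← B_isom a, ht, lin_apply_inv]; simp [hv.B_fe]
    have a2 : β.B u ((a.1⁻¹ : U ≃ₗ[F] U) v) = 0 := by
      rw [← B_isom a, ht, lin_apply_inv]; simp [hv.B_ff]
    simp only [LinearMap.comp_apply, LinearEquiv.coe_coe, LinearMap.smul_apply, LinearMap.smulRight_apply,
      cu_apply, congr_tmul, map_smul, ht, a1, a2, hv.B_ef, hv.B_ee, hv.B_fe, h.B, β.B_lin, OneMemClass.coe_one,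
      LinearEquiv.coe_one, id, RingHom.id_apply, quad_B_self ω, quadKind_ε] at p6
    rw [← hy]
    refine mem_span_of_index hI he h0 ?_ (by rw [hy, ctl_ctr, g0, map_zero])
    simpa [κ0, t0, h2] using p6
  obtain ⟨α, h4, h5⟩ := h.exists_comp hf hk h1 hw
  obtain ⟨c', hc⟩ := scalar_of_sing h.nβ h2 hn (Or.inl ⟨c, c0, c1⟩) (A := ctr U (ω.B w) ∘ₗ Γ) (d1 c3 w hw)
    fun u hu => by
      obtain ⟨t, ht⟩ := c4 u hu
      rw [LinearMap.comp_apply, ← ctl_ctr, ← ht, map_smul, ω.eq_zero_symm hw, smul_zero]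
  have : ∀ u, α u = -c' • u := fun u => h.nβ.ext fun u' => by
    have := hc u'
    rw [LinearMap.comp_apply] at this
    rw [h5, ← hΓ, this]
    simp
  exact ⟨-c', fun u => by rw [h4, this, smul_tmul']⟩

theorem stab3 {e t : W} (he : ω.Q e = 0) (h0 : e ≠ 0) (ht : ω.Q t = 0) (t0 : t ≠ 0) {g} (hg : g ∈ X)
    (H : ∀ u, ∃ u', g (u ⊗ₜ t) = u' ⊗ₜ e) : g ∈ tens F U W := by
  have := Module.nontrivial_of_finrank_pos (R := F) (M := U) (by omega)
  refine h.mem_of_map (Or.inr (by omega)) (fun g hg => h.mem_of_stab he h0 (fun k hk h1 => ?_)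
    (fun k => m3 h h2 hn hW hA hO hno hC hI c0 c1 he h0) (by omega) hg) he h0 ht t0 hg H
  rw [show k = 1 from LinearEquiv.ext (z3 h h2 hn hW hA hO hno he h0 hk h1)]; exact one_mem _

end Cfsg.Lib.Forms.TF.O3
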