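import Cfsg.Agent.Lib.C7O.K

/-!
# Orthogonal tensor powers: involutions of one factor
-/

namespace Cfsg.Lib.Forms.C7O

open Module Form TensorProduct Ten Qd TF C7 O4

variable {F U W : Type*} [Field F] [AddCommGroup U] [Module F U] [AddCommGroup W] [Module F W]
  {ω : Form (quadKind F) W} {e v v' : W} {T T' : Type*} [Fintype T]
  [DecidableEq T] [Fintype T'] [DecidableEq T'] {π : (T → End F W) →* End F (U ⊗[F] W)}
  {ρ : T → End F W →ₐ[F] End F (U ⊗[F] W)} {D : Form (quadKind F) (U ⊗[F] W)}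
  {τ : (T → W) → U ⊗[F] W} {κ : F} {π' : (T' → End F W) →* End F U} {ρ' : T' → End F W →ₐ[F] End F U}
  {β : Form (quadKind F) U} {τ' : (T' → W) → U} {j : T} {ι : T' → T} {g k y : U ⊗[F] W ≃ₗ[F] U ⊗[F] W}
  {X : Subgroup (U ⊗[F] W ≃ₗ[F] U ⊗[F] W)}

theorem iv_mul (v v' : W) : iv ω v * iv ω v' = ω.refl v * ω.refl v' := isom_ext fun x => by simp [iv]

theorem iv_conj (b : ω.isom) {c : F} (c0 : c ≠ 0) (hb : b.1 v = c • v') : b * iv ω v = iv ω v' * b :=
  isom_ext fun x => by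
    have h1 : ω.Q v = c ^ 2 * ω.Q v' := by rw [← quad_Q_smul, ← hb, b.2.Q_map]
    have h2 : ω.B v x = c * ω.B v' (b.1 x) := by rw [← b.2.B_map, hb]; simp
    simp only [Subgroup.coe_mul, LinearEquiv.mul_apply, iv_apply, map_sub, map_smul, hb, smul_smul, h1, h2]
    congr 2
    by_cases h : ω.Q v' = 0
    · simp [h]
    · field_simp

variable [FiniteDimensional F U] [FiniteDimensional F W]

theorem dich [Nontrivial U] (h2 : (2 : F) ≠ 0) (hW : finrank F W = 3) (hg : g ∈ tens F U W) (h3 : g * g = 1)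
    (h4 : rk ((g : End F (U ⊗[F] W)) + 1) = finrank F U) : (∃ b : End F W, ∀ x, g x = b.lTensor U x) ∨
      ∀ a : End F W, cj g (a.lTensor U) = a.lTensor U := by
  have := Module.nontrivial_of_finrank_pos (R := F) (M := W) (by omega)
  obtain ⟨w₀, w0⟩ := exists_ne (0 : W)
  obtain ⟨v, v0⟩ := exists_ne (0 : U)
  obtain ⟨a, b, b2, hab⟩ : ∃ (a : U →ₗ[F] U) (b : W →ₗ[F] W), (∀ u, b (b u) = u) ∧ ∀ u w, g (u ⊗ₜ w) = a u ⊗ₜ b w := by
    obtain ⟨a, b, hab⟩ := exists_of_mem hg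
    obtain ⟨χ, hχ⟩ := exists_dual_one (F := F) (a.map_ne_zero_iff.2 (a.map_ne_zero_iff.2 v0))
    have a1 : ∀ u, b (b u) = χ v • u := fun u => by simpa [hab, hχ] using congrArg (fun g => ctl W χ (g (v ⊗ₜ u))) h3
    have a2 := congrArg LinearMap.det (show (b : W →ₗ[F] W) ∘ₗ b = χ v • LinearMap.id from LinearMap.ext a1)
    have a3 := (LinearEquiv.isUnit_det' b).ne_zero
    rw [LinearMap.det_comp, LinearMap.det_smul, hW, LinearMap.det_id] at a2
    have c0 : χ v ≠ 0 := fun h => by simp [h, a3] at a2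
    generalize LinearMap.det (b : W →ₗ[F] W) = d at a2 a3
    refine ⟨(d / χ v) • a, (χ v / d) • b, fun u => ?_, fun u w => ?_⟩
    · simp only [LinearMap.smul_apply, LinearEquiv.coe_coe, map_smul, a1, smul_smul]
      rw [show _ * _ = (1 : F) by field_simp; linear_combination -a2, one_smul]
    · simp [hab, smul_tmul', smul_smul, c0, a3]
  obtain ⟨ψ, hψ⟩ := exists_dual_one (F := F) w0
  have a2 : ∀ w, a (a w) = w := fun w => by simpa [hab, b2, hψ] using congrArg (fun g => ctr U ψ (g (w ⊗ₜ w₀))) h3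
  rw [show (g : End F (U ⊗[F] W)) = map a b from TensorProduct.ext' hab, rk_inv h2 a2] at h4
  have r1 := rk_add_rk h2 a2
  have r2 := rk_add_rk h2 b2
  have : (rk (a + 1) = 0 ∨ rk (a - 1) = 0) ∨ rk (b + 1) = 0 ∨ rk (b - 1) = 0 := by
    generalize rk (b + 1) = s at *
    generalize rk (b - 1) = t at *
    have : s ≤ 3 := by omega
    obtain rfl : t = 3 - s := by omega
    interval_cases s <;> omega
  have k1 : ∀ b : End F W, (∀ u w, g (u ⊗ₜ w) = u ⊗ₜ b w) → ∃ b : End F W, ∀ x, g x = b.lTensor U x := fun b hb =>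
    ⟨b, fun x => congrArg (· x) (TensorProduct.ext' hb : (g : End F (U ⊗[F] W)) = b.lTensor U)⟩
  have k2 : ∀ b : End F U, (∀ u w, g (u ⊗ₜ w) = b u ⊗ₜ w) → ∀ a : End F W, cj g (a.lTensor U) = a.lTensor U :=
    fun b hb a => cj_of_comm fun x => congrArg (· x) (TensorProduct.ext' fun u w => by simp [hb] :
      (g : End F (U ⊗[F] W)) ∘ₗ a.lTensor U = a.lTensor U ∘ₗ g)
  rcases this with (s | s) | s | s <;> have s1 := eq_zero_of_rk s <;>
    simp only [LinearMap.add_apply, LinearMap.sub_apply, End.one_apply, add_eq_zero_iff_eq_neg, sub_eq_zero] at s1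
  · exact .inl (k1 (-b) fun u w => by simp [hab, s1, neg_tmul, tmul_neg])
  · exact .inl (k1 b fun u w => by simp [hab, s1])
  · exact .inr (k2 (-a) fun u w => by simp [hab, s1, neg_tmul, tmul_neg])
  · exact .inr (k2 a fun u w => by simp [hab, s1])

namespace Ov

variable [Finite F] (h : Ov π ρ ω D τ κ π' ρ' β τ' j ι X)
include h

theorem exists_conj (hv : ω.Q v ≠ 0) (hv' : ω.Q v' ≠ 0) (h1 : rg U (iv ω v).1 ∈ X) (h2 : rg U (iv ω v').1 ∈ X) :
    ∃ b : ω.isom, rg U b.1 ∈ X ∧ ∃ c : F, c ≠ 0 ∧ b.1 v' = c • v := by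
  have k : ∀ {v}, rg U (iv ω v).1 ∈ X → spinor h.s.nD (rI h.s ω.negOne) * spinor h.s.nD (rI h.s (ω.refl v)) = 1 :=
    fun {v} H => by
      rw [← map_mul, ← map_mul]
      exact ((h.s.nD.mem_commutator_iff (good_of_two_ne_zero h.h2)).1 ((h.om (g := rI h.s (iv ω v))).1 (h.x1 H))).2
  obtain ⟨t, t0, ht⟩ := chi_eq h.s h.h2 h.oU hv hv' (mul_left_cancel ((k h1).trans (k h2).symm))
  obtain ⟨b, hb⟩ := h.pw.nω.exists_map_of_Q_eq (a := t • v') (b := v) (smul_ne_zero t0 (by rintro rfl; simp at hv'))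
    (by rintro rfl; simp at hv) (by rw [quad_Q_smul, ht])
  obtain ⟨b', b1, b2⟩ := exists_fix h.s h.h2 h.oU h.hW hv' ⟨_, h.s.congr_isom 1 b⟩
  exact ⟨b * b', h.mem (a := 1) (fun i => ⟨i, Tn.one⟩) b2, t⁻¹, inv_ne_zero t0, by simp [b1, ← hb, t0]⟩

omit [Finite F] in
theorem rg_mem (b : W ≃ₗ[F] W) : rg U b ∈ LG h.pw j := ⟨b, fun x => by rw [h.rt, rg_apply]⟩

theorem exists_pair (hv : ω.Q v ≠ 0) : ∃ v', ω.Q v' ≠ 0 ∧ ω.B v' v = 0 ∧ rg U (iv ω v').1 * rg U (iv ω v).1 ∈ X ∧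
    Commute (rg U (iv ω v').1) (rg U (iv ω v).1) := by
  obtain ⟨v', v1, v2⟩ := h.pw.nω.exists_perp_Q_eq h.hW hv (ω.Q v)
  have k : ∀ v v', rg U (iv ω v').1 * rg U (iv ω v).1 = rg U (ω.refl v' * ω.refl v).1 := fun v v' =>
    (map_mul (O4.rt U ω) _ _).symm.trans (by rw [iv_mul]; rfl)
  refine ⟨v', v2 ▸ hv, ω.eq_zero_symm v1, ?_, ?_⟩
  · rw [k]
    exact h.right (h.pw.nω.refl_mul_refl_mem_commutator (v := v') (w := v) (v2 ▸ hv) one_ne_zero (by simp [v2]))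
  · rw [Commute, SemiconjBy, k, k, refl_comm v1]

variable (hW : finrank F W = 3)
include hW

theorem exists_iv (hy : y ∈ X) (h1 : y ∈ LG h.pw j) (h3 : y * y = 1) (h4 : y ≠ 1) :
    ∃ v, ω.Q v ≠ 0 ∧ y = rg U (iv ω v).1 := by
  have := Module.nontrivial_of_finrank_pos (R := F) (M := W) h.ho.pos
  have := h.nontrivial
  obtain ⟨a, ha⟩ := h1
  have a2 : ∀ u, a (a u) = u := fun u => congrArg (· u) (rho_inj h.pw j (LinearMap.ext fun x => by
    simpa [ha] using congrArg (· x) h3) : a * a = 1)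
  rw [h.rt] at ha
  have r1 := rk_add_rk h.h2 a2
  have r2 := (dickson_eq_one_iff h.pw.nD _).1 ((h.pw.nD.mem_commutator_iff (good_of_two_ne_zero h.h2)).1
    ((h.om (g := ⟨y, h.le hy⟩)).1 (h.x1 hy))).1
  change Even (finrank F (LinearMap.range ((y : End F (U ⊗[F] W)) - 1))) at r2
  rw [show (y : End F (U ⊗[F] W)) - 1 = map LinearMap.id (a - 1) from TensorProduct.ext' fun u w => by
    simp [ha, tmul_sub], rk_map, LinearMap.range_id, finrank_top, Nat.even_mul] at r2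
  obtain ⟨m, hm⟩ : Even (rk (a - 1)) := r2.resolve_left (Nat.not_even_iff_odd.2 h.oU)
  have r3 : rk (a - 1) ≠ 0 := fun h0 => h4 (LinearEquiv.toLinearMap_injective (TensorProduct.ext' fun u w => by
    simp [ha, show a w = w by simpa [sub_eq_zero] using eq_zero_of_rk h0 w]))
  obtain ⟨t, t1, t2⟩ := exists_of_rk_one h.pw.nω h.h2 (h.s.B_right (h.le hy) (b := a) fun u w => ha _) a2 (by omega)
  exact ⟨t, t1, LinearEquiv.toLinearMap_injective (TensorProduct.ext' fun u w => by simp [ha, iv_apply, t2])⟩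

theorem cen_one (hy : y ∈ X) (h1 : y ∈ LG h.pw j) (H : ∀ k ∈ X, k ∈ LG h.pw j → y * k = k * y) : y = 1 := by
  have := Module.nontrivial_of_finrank_pos (R := F) (M := W) h.ho.pos
  have := h.nontrivial
  have h2 := h.h2
  obtain ⟨a, ha⟩ := id h1
  have i1 : ∀ {e z d} (hd : ω.IsEich e z d) x, a ((ω.eich e z d hd).1 x) = (ω.eich e z d hd).1 (a x) := fun hd x =>
    congrArg (· x) (rho_inj h.pw j (LinearMap.ext fun x => by
      rw [map_mul, map_mul]
      simpa [ha, h.rt, rg_apply] using congrArg (· x) (H _ (h.rightE (eich_mem_E _ _ _ hd)) (h.rg_mem _))) :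
        a * (ω.eich _ _ _ hd).1 = (ω.eich _ _ _ hd).1 * a)
  rw [h.rt] at ha
  have i2 := h.s.B_right (h.le hy) (b := a) fun u w => ha _
  have k : ∀ {e w f}, Fr ω e w f → ∃ c : F, c • e = a e := fun {e w f} hf => by
    refine mem_span_of_index (O3.not_hasTS h.pw.nω hW) hf.hyp.Q_e hf.hyp.e_ne_zero (mul_left_cancel₀ h2 (by
      rw [← quad_B_self, i2, quad_B_self, hf.hyp.Q_e])) ?_
    have h6 := congrArg (ω.B w) (i1 (isEich_quad hf.hyp.Q_e hf.ew) e)
    rw [eich_apply_self] at h6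
    simpa [eich_apply, hf.tab, hf.ns, h2, eq_comm (b := _ - _), sub_eq_self] using h6
  obtain ⟨e, f, hf⟩ := Quad.exists_isHyp h.pw.nω hW.ge
  obtain ⟨w, hw⟩ := exists_fr_of_hyp h.pw.nω hW hf
  obtain ⟨c₁, c1⟩ := k hw
  obtain ⟨c₂, c2⟩ := (exists_fr h.pw.nω hW hf.f_ne_zero hf.Q_f).elim fun _ ⟨_, H⟩ => k H
  have c3 := i1 (isEich_quad hf.Q_e hw.ew) f
  have j1 := i2 e f
  have j2 := i2 f w
  have j3 := congrArg (ω.B f) c3
  simp only [← c1, ← c2, eich_apply, ω.B_lin, hw.tab, RingHom.id_apply, map_smul, map_add, map_sub, smul_eq_mul,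
    quadKind_ε, LinearMap.smul_apply] at j1 j2 j3 c3
  have c0 : c₂ ≠ 0 := by rintro rfl; simp at j1
  obtain rfl : c₁ = c₂ := mul_right_cancel₀ (mul_ne_zero c0 hw.ns) (by linear_combination -j2 - c₂ * j3)
  have j5 : ∀ u, a u = c₁ • u := fun u => by
    obtain ⟨x, y, z, rfl⟩ := hw.dec u
    simp only [map_add, map_smul, ← c1, ← c2]
    linear_combination (norm := module) (-y) • c3
  by_contra h4
  obtain ⟨v, hv, rfl⟩ := h.exists_iv hW hy h1 (LinearEquiv.toLinearMap_injective (TensorProduct.ext' fun u w => by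
    simp [ha, j5, smul_smul, show c₁ * c₁ = 1 by simpa using j1])) h4
  obtain ⟨u, hu⟩ := exists_ne (0 : U)
  obtain rfl : c₁ = 1 := smul_left_injective F (tmul_ne_zero (F := F) hu (show v ≠ 0 by rintro rfl; simp at hv)) (by
    simpa [j5, iv_self hv] using (ha (u ⊗ₜ v)).symm)
  exact h4 (LinearEquiv.toLinearMap_injective (TensorProduct.ext' fun u w => (ha _).trans (by simp [j5])))

variable (hT : 2 ≤ Fintype.card T') (fx : Fx ρ' β) (IH : Core ρ' β) (hs : So β ω D X)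
include hT fx IH hs

theorem of_conj (hv : ω.Q v ≠ 0) (hv' : ω.Q v' ≠ 0) (h1 : rg U (iv ω v).1 ∈ X) (h2 : rg U (iv ω v').1 ∈ X) (hg : g ∈ X)
    (H : g * rg U (iv ω v).1 = rg U (iv ω v').1 * g) : g ∈ tens F U W := by
  obtain ⟨b, b1, c, -, b2⟩ := h.exists_conj hv hv' h1 h2
  refine ((tens F U W).mul_mem_cancel_left (x := rg U b.1) (mem_tens 1 b.1 fun _ _ => rfl)).1
    (h.of_slice hT fx IH hs hW hv (mul_mem b1 hg) fun u => ?_)
  obtain ⟨u', hu⟩ := fix_iv (ω := ω) (v := v') h.h2 (x := g (u ⊗ₜ v)) (by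
    simpa only [LinearEquiv.mul_apply, iv_self hv] using (congrArg (· (u ⊗ₜ v)) H).symm)
  exact ⟨c • u', by simp [hu, b2, smul_tmul]⟩

theorem cen_of_nil (hv : ω.Q v ≠ 0) (hg : g ∈ X) (h1 : g * rg U (iv ω v).1 = rg U (iv ω v).1 * g)
    (hn : IsNilpotent ((g : End F (U ⊗[F] W)) - 1)) (hk : k ∈ LG h.pw j) : g * k = k * g := by
  have := Module.nontrivial_of_finrank_pos (R := F) (M := W) h.ho.pos
  have := h.nontrivial
  have v0 : v ≠ 0 := by rintro rfl; simp at hv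
  obtain ⟨u₀, u0⟩ := exists_ne (0 : U)
  have k1 : ∀ u, ∃ u', g (u ⊗ₜ v) = u' ⊗ₜ v := fun u => fix_iv (ω := ω) h.h2 (by
    simpa only [LinearEquiv.mul_apply, iv_self hv] using (congrArg (· (u ⊗ₜ v)) h1).symm)
  obtain ⟨a, b, b1, b2, hab⟩ : ∃ (a : U →ₗ[F] U) (b : W →ₗ[F] W), b v = v ∧ (∀ x y, ω.B (b x) (b y) = ω.B x y) ∧
      ∀ u w, g (u ⊗ₜ w) = a u ⊗ₜ b w := by
    obtain ⟨a, b, rfl⟩ := h.isom hg (h.of_slice hT fx IH hs hW hv hg k1)
    obtain ⟨w', hw'⟩ := k1 u₀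
    obtain ⟨c, hc⟩ := mem_span_of_tmul (a.1.map_ne_zero_iff.2 u0) hw'
    have c0 : c * c = 1 := mul_right_cancel₀ hv (by rw [← sq, ← quad_Q_smul, ← hc, one_mul]; exact b.2.Q_map v)
    exact ⟨c • a.1, c • b.1, by simp [show b.1 v = _ from hc, smul_smul, c0], fun x y => by
      simp [b.2.B_map, ← mul_assoc, c0], fun u w => by simp [smul_tmul', smul_smul, c0]⟩
  obtain ⟨m, hm⟩ := hn
  obtain ⟨e, e0, e1⟩ : ∃ e, e ≠ 0 ∧ a e = e := by
    by_contra! H
    have : ∀ (m : ℕ) w, (((g : End F (U ⊗[F] W)) - 1) ^ m) (w ⊗ₜ v) = 0 → w = 0 := fun m => by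
      induction m with
      | zero => intro w hw; exact cu_injective (F := F) v0 (by simpa using hw)
      | succ m ih =>
        intro w hw
        by_contra h3
        exact H w h3 (sub_eq_zero.1 (ih _ (by simpa [pow_succ, hab, b1, sub_tmul] using hw)))
    exact u0 (this m u₀ (by simp [hm]))
  obtain ⟨ψ, hψ⟩ := exists_dual_one (F := F) e0
  have a1 := eq_of_nil h.pw.nω h.h2 hW b2 hv b1 (by
    have : ∀ (m : ℕ) u, (((g : End F (U ⊗[F] W)) - 1) ^ m) (e ⊗ₜ u) = e ⊗ₜ ((b - 1) ^ m) u := fun m => by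
      induction m with
      | zero => simp
      | succ m ih => intro u; simp [pow_succ, hab, e1, ih, tmul_sub]
    exact ⟨m, LinearMap.ext fun u => by simpa [hm, hψ] using (congrArg (ctl W ψ) (this m u)).symm⟩)
  obtain ⟨d, hd⟩ := hk
  exact LinearEquiv.toLinearMap_injective (TensorProduct.ext' fun u w => by simp [hd, h.rt, hab, a1])

end Ov

end Cfsg.Lib.Forms.C7O
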