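import Cfsg.Agent.Lib.C7O.M
import Cfsg.Agent.Lib.C7O.G
import Cfsg.Agent.Lib.Max.C7O7

/-!
# Orthogonal tensor powers of a three-dimensional space
-/

namespace Cfsg.Lib.Forms.C7O

open Module Form TensorProduct Ten Qd TF C7 O4

section
variable {F W V : Type*} [Field F] [AddCommGroup W] [Module F W] [AddCommGroup V]
  [Module F V] {ω : Form (quadKind F) W} {T : Type*} [Fintype T] [DecidableEq T]
  {π : (T → End F W) →* End F V} {ρ : T → End F W →ₐ[F] End F V} {D : Form (quadKind F) V} {τ : (T → W) → V} {κ : F}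
  (h : Pw π ρ ω D τ κ) {g y r r' : V ≃ₗ[F] V} {i l m : T} [FiniteDimensional F W]
include h

theorem LG_comm (hg : g ∈ LG h i) (hy : ∀ a, cj y (ρ i a) = ρ i a) : y * g = g * y := LinearEquiv.ext fun x => by
  obtain ⟨a, ha⟩ := hg
  simpa [ha, lin_inv_apply] using congrArg (· (y x)) (hy a)

theorem LG_cj (hg : g ∈ LG h l) (hi : i ≠ l) (a) : cj g (ρ i a) = ρ i a := let ⟨_, hb⟩ := hg; cj_slot h hb hi a

theorem LG_tn (hg : g ∈ LG h l) (i : T) : Tn ρ i i g :=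
  let ⟨_, hb⟩ := hg; let ⟨_, hb⟩ := slot_equiv h hb; (tn_slot h hb i).1

theorem tn_of_comm (hl : l ≠ i) (h1 : r ∈ LG h l) (h2 : r' ∈ LG h i) (h3 : ¬ ∀ a, cj r (ρ l a) = ρ l a) (hg : Nz ρ g)
    (H : g * (r * r') = r * r' * g) : Tn ρ l l g ∨ Tn ρ l i g := by
  obtain ⟨n, hn⟩ := hg l
  by_contra! H'
  have n1 : n ≠ l := by rintro rfl; exact H'.1 hn
  have n2 : n ≠ i := by rintro rfl; exact H'.2 hn
  refine h3 fun a => ?_
  obtain ⟨b, hb⟩ := hn a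
  have : cj (r * r' * g) (ρ l a) = cj g (ρ l a) := by rw [cj_mul, hb, cj_mul, LG_cj h h2 n2, LG_cj h h1 n1]
  rw [← H, cj_mul, cj_mul, LG_cj h h2 hl] at this
  simpa only [← cj_mul, inv_mul_cancel_left, inv_mul_cancel] using! congrArg (cj g⁻¹) this

variable [FiniteDimensional F V] (hW : 3 ≤ finrank F W)
include hW

theorem not_swap {H : Subgroup (V ≃ₗ[F] V)} (hl : l ≠ i) (Q : ∀ x ∈ H, Tn ρ l l x ∨ Tn ρ l i x) (hy : y ∈ H)
    (y1 : y * y = 1) (y2 : Tn ρ l i y) (h1 : r ∈ H) (h2 : r' ∈ H) (h3 : r * y * r' = r' * r) : False := by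
  have := Module.nontrivial_of_finrank_pos (R := F) (M := W) (by omega)
  have y3 : Tn ρ i l y := inv_eq_of_mul_eq_one_right y1 ▸ y2.symm h
  have P : ∀ x ∈ H, Tn ρ l l x ∧ Tn ρ i i x ∨ Tn ρ l i x ∧ Tn ρ i l x := fun x hx => by
    have k : ∀ {n}, Tn ρ l n (x * y) → Tn ρ i n x := fun H => by simpa [mul_assoc, y1] using H.mul y3
    rcases Q x hx with a | a <;> rcases Q _ (mul_mem hx hy) with b | b
    exacts [(hl (Tn.uniq h hW (a.symm h) ((k b).symm h))).elim, .inl ⟨a, k b⟩, .inr ⟨a, k b⟩,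
      (hl (Tn.uniq h hW (a.symm h) ((k b).symm h))).elim]
  rcases P r h1 with ⟨a, a'⟩ | ⟨a, a'⟩ <;> rcases P r' h2 with ⟨b, b'⟩ | ⟨b, b'⟩
  exacts [hl (Tn.uniq h hW (b.mul a) (h3 ▸ (a'.mul y2).mul b)), hl (Tn.uniq h hW (h3 ▸ (a.mul y3).mul b) (b.mul a)),
    hl (Tn.uniq h hW (h3 ▸ (a'.mul y2).mul b) (b'.mul a)), hl (Tn.uniq h hW (b'.mul a) (h3 ▸ (a.mul y3).mul b))]

end

variable {F U W : Type*} [Field F] [AddCommGroup U] [Module F U] [AddCommGroup W] [Module F W]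
  {ω : Form (quadKind F) W} {e v v' : W} {T T' : Type*} [Fintype T]
  [DecidableEq T] [Fintype T'] [DecidableEq T'] {π : (T → End F W) →* End F (U ⊗[F] W)}
  {ρ : T → End F W →ₐ[F] End F (U ⊗[F] W)} {D : Form (quadKind F) (U ⊗[F] W)}
  {τ : (T → W) → U ⊗[F] W} {κ : F} {π' : (T' → End F W) →* End F U} {ρ' : T' → End F W →ₐ[F] End F U}
  {β : Form (quadKind F) U} {τ' : (T' → W) → U} {j : T} {ι : T' → T} {g k y : U ⊗[F] W ≃ₗ[F] U ⊗[F] W}
  {X : Subgroup (U ⊗[F] W ≃ₗ[F] U ⊗[F] W)} [FiniteDimensional F U] [FiniteDimensional F W] [Finite F]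

namespace Ov

variable (h : Ov π ρ ω D τ κ π' ρ' β τ' j ι X)
include h

omit [Finite F] in
theorem iv_ne (hv : ω.Q v' ≠ 0) (H : ω.B v' v = 0) (v0 : ω.Q v ≠ 0) (hk : ∀ u, k (u ⊗ₜ v) = u ⊗ₜ v) :
    rg U (iv ω v').1 ≠ k := by
  rintro rfl
  have := Module.nontrivial_of_finrank_pos (R := F) (M := W) h.ho.pos
  have := h.nontrivial
  obtain ⟨u, hu⟩ := exists_ne (0 : U)
  exact tmul_ne_zero (F := F) hu (show v ≠ 0 by rintro rfl; simp at v0) ((smul_eq_zero_iff_right h.h2).1 (by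
    simpa [iv_apply, H, tmul_neg, neg_eq_iff_add_eq_zero, two_smul] using hk u))

theorem four (hv : ω.Q v ≠ 0) (hs : rg U (iv ω v).1 ∈ X) : ∃ a ∈ X, a ∈ LG h.pw j ∧ a * a = 1 ∧ a ≠ 1 ∧
    a ≠ rg U (iv ω v).1 ∧ a * rg U (iv ω v).1 = rg U (iv ω v).1 * a :=
  let ⟨_, v1, v2, v3, v4⟩ := h.exists_pair hv
  ⟨_, (X.mul_mem_cancel_right hs).1 v3, h.rg_mem _, iv_iv v1, h.iv_ne v1 v2 hv fun _ => rfl, h.iv_ne v1 v2 hv (iv_self hv), v4⟩

variable (hW : finrank F W = 3)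
include hW

theorem comm (hv : ω.Q v ≠ 0) (hs : rg U (iv ω v).1 ∈ X) : ∃ a ∈ X, ∃ c ∈ X, a ∈ LG h.pw j ∧ c ∈ LG h.pw j ∧
    a * rg U (iv ω v).1 * c = c * a := by
  obtain ⟨a, a1, a2, a3, a4, a5, a6⟩ := h.four hv hs
  obtain ⟨t, t1, t2⟩ := h.exists_iv hW (mul_mem a1 hs) (mul_mem a2 (h.rg_mem _)) (by
    rw [mul_assoc, ← mul_assoc _ a, ← a6, mul_assoc, iv_iv hv, mul_one, a3]) fun H =>
    a5 (by rw [eq_inv_of_mul_eq_one_left H, inv_eq_of_mul_eq_one_right (iv_iv hv)])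
  obtain ⟨t', t3, rfl⟩ := h.exists_iv hW a1 a2 a3 a4
  obtain ⟨b, b1, c, c0, b2⟩ := h.exists_conj t1 t3 (t2 ▸ mul_mem a1 hs) a1
  refine ⟨_, a1, _, b1, a2, h.rg_mem _, ?_⟩
  rw [t2]
  exact (map_mul (O4.rt U ω) _ _).symm.trans ((congrArg (O4.rt U ω) (iv_conj b c0 b2).symm).trans (map_mul _ _ _))

variable (hT : 2 ≤ Fintype.card T') (fx : Fx ρ' β) (IH : Core ρ' β)
include hT

theorem roots (l : T) {p : ℕ} [Fact p.Prime] [CharP F p] : ∃ r ∈ X, r ∈ LG h.pw l ∧ r ^ p = 1 ∧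
    (¬ ∀ a, cj r (ρ l a) = ρ l a) ∧ (Fx ρ' β → Core ρ' β → ∀ g ∈ X, g * r = r * g → Nz ρ g) := by
  have := Module.nontrivial_of_finrank_pos (R := F) (M := U ⊗[F] W) (by have := h.h9; omega)
  have := Module.nontrivial_of_finrank_pos (R := F) (M := W) h.ho.pos
  obtain ⟨e, f, hf⟩ := Quad.exists_isHyp h.pw.nω hW.ge
  obtain ⟨w, hw⟩ := exists_fr_of_hyp h.pw.nω hW hf
  obtain ⟨r, r1, r2⟩ := h.rootE l (isEich_quad hf.Q_e hw.ew)
  refine ⟨r, r1, ⟨_, r2⟩, pow_of_cube h.h2 ?_, fun H => ?_, fun fx IH g hg H =>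
    h.cen hT fx IH (h.so hT fx IH) hW l _ hf.e_ne_zero hw.ns hg fun x => by simpa [r2] using congrArg (· x) H⟩
  · rw [show (r : End F (U ⊗[F] W)) = ρ l (ω.eich _ _ _ _).1 from LinearMap.ext r2, ← map_one (ρ l),
      ← map_sub, ← map_pow, eich_cube, map_zero]
  · have := congrArg (fun A => ω.B f (A ((ω.eich e w _ (isEich_quad hf.Q_e hw.ew)).1 w)))
      (rho_inj h.pw l (((tn_slot h.pw r2 l).2.2 _).symm.trans (H ((ω.B w).smulRight w))))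
    simp only [cj_apply, lin_inv_apply] at this
    simp [eich_apply, hw.tab, h.h2, hw.ns] at this

include fx IH

theorem exists_LG (hv : ω.Q v ≠ 0) (hs : rg U (iv ω v).1 ∈ X) (hg : g ∈ X) (y0 : y = g * rg U (iv ω v).1 * g⁻¹)
    (hy : Nz ρ y) : ∃ l, y ∈ LG h.pw l := by
  have := Module.nontrivial_of_finrank_pos (R := F) (M := U ⊗[F] W) (by have := h.h9; omega)
  have := Module.nontrivial_of_finrank_pos (R := F) (M := W) h.ho.pos
  have := h.nontrivial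
  have y1 : y ∈ X := y0 ▸ mul_mem (mul_mem hg hs) (inv_mem hg)
  have y2 : y * y = 1 := by rw [y0, conj_mul, iv_iv hv]; simp
  have rk1 : ∀ m y : U ⊗[F] W ≃ₗ[F] U ⊗[F] W, rk ((m * y * m⁻¹ : U ⊗[F] W ≃ₗ[F] U ⊗[F] W) + 1 : End F (U ⊗[F] W)) =
      rk ((y : End F (U ⊗[F] W)) + 1) := fun m y => by
    rw [← rk_cj m ((y : End F (U ⊗[F] W)) + 1)]
    exact congrArg rk (LinearMap.ext fun x => by simp [lin_apply_inv])
  have y3 : rk ((y : End F (U ⊗[F] W)) + 1) = finrank F U := by rw [y0, rk1, rk_iv h.h2 hv]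
  by_cases hc : ∀ l, Tn ρ l l y
  · by_contra! H
    obtain ⟨c, hc⟩ := hsc h.pw y fun l a => by
      obtain ⟨m, m1, -, m2⟩ := h.tr hT l
      have m3 : Tn ρ l j m := fun a => ⟨a, m2 a⟩
      rcases dich h.h2 hW (h.tens_of_tn ((m3.mul (hc l)).mul (m3.symm h.pw))) (by rw [conj_mul, y2]; simp)
        ((rk1 _ _).trans y3) with ⟨b, hb⟩ | hb
      · exact (H l (by
          simpa [mul_assoc] using LG_conj h.pw (y := m * y * m⁻¹) (m3.symm h.pw) ⟨b, fun x => by rw [hb, h.rt]⟩)).elim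
      · have := hb a
        rw [← h.rt, ← m2, ← cj_mul, inv_mul_cancel_right, cj_mul] at this
        exact LinearMap.ext fun x => m.injective (by simpa [lin_inv_apply] using congrArg (· (m (y x))) this)
    exact H j ⟨c • 1, fun x => by simpa using congrArg (· x) hc⟩
  exfalso
  obtain ⟨l, hc⟩ := not_forall.1 hc
  obtain ⟨i, hi⟩ := hy l
  have hl : l ≠ i := by rintro rfl; exact hc hi
  obtain ⟨m, -, hm⟩ := Finset.exists_mem_notMem_of_card_lt_card (s := {l, i}) (t := Finset.univ)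
    (Finset.card_le_two.trans_lt (by rw [Finset.card_univ, h.card]; omega))
  obtain ⟨m1, m2⟩ : m ≠ l ∧ m ≠ i := by simpa using hm
  obtain ⟨p, hp⟩ := CharP.exists F
  have := Fact.mk (CharP.char_is_prime F p)
  have key : ∀ d ∈ X, d ^ p = 1 → y * d = d * y → ∀ k ∈ LG h.pw j, g * k * g⁻¹ * d = d * (g * k * g⁻¹) :=
    fun d d1 d2 d3 k hk => by
      have := h.cen_of_nil hW hT fx IH (h.so hT fx IH) hv (mul_mem (mul_mem (inv_mem hg) d1) hg) (by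
        calc _ = g⁻¹ * (d * y) * g := by rw [y0]; group
          _ = _ := by rw [← d3, y0]; group) (nil_of_pow (p := p) (n := 1) (by
        rw [pow_one, ← inv_inv g, inv_inv g⁻¹, conj_pow, d2]; simp)) hk
      calc _ = g * (k * (g⁻¹ * d * g)) * g⁻¹ := by group
        _ = _ := by rw [← this]; group
  obtain ⟨s, s1, s2, s3, -, s4⟩ := h.roots hW hT m (p := p)
  obtain ⟨r, r1, r2, r3, r4, -⟩ := h.roots hW hT l (p := p)
  have r5 := LG_conj h.pw hi r2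
  have r6 : Commute (y * r * y⁻¹) r := LG_comm h.pw r2 (LG_cj h.pw r5 hl)
  obtain ⟨a, a1, c, c1, a2, c2, hac⟩ := h.comm hW hv hs
  refine not_swap h.pw h.hW (H := (X ⊓ LG h.pw j).map (MulAut.conj g).toMonoidHom) hl ?_ ⟨_, ⟨hs, h.rg_mem _⟩, y0.symm⟩ y2 hi
    ⟨a, ⟨a1, a2⟩, rfl⟩ ⟨c, ⟨c1, c2⟩, rfl⟩ (by rw [y0, ← map_mul, ← hac, map_mul, map_mul]; rfl)
  rintro _ ⟨k, ⟨k1, k2⟩, rfl⟩
  refine tn_of_comm h.pw hl r2 r5 r4 (s4 fx IH _ (mul_mem (mul_mem hg k1) (inv_mem hg)) (key s s1 s3 (LG_comm h.pw s2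
    (swap_cen h.pw hW y2 hi hl (by rw [y3, finrank_tensorProduct, hW]) hy m1 m2)) k k2))
    (key _ (mul_mem r1 (mul_mem (mul_mem y1 r1) (inv_mem y1))) (by rw [r6.symm.mul_pow, conj_pow, r3]; simp) ?_ k k2)
  have y4 := inv_eq_of_mul_eq_one_right y2
  calc _ = y * r * y⁻¹ * r * y := by rw [y4]; simp [mul_assoc, y2]
    _ = _ := by rw [r6.eq]

theorem k3 : ∀ g ∈ X, Nz ρ g := fun g hg => by
  have : Finite (U ⊗[F] W) := Module.finite_of_finite F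
  have : Finite (U ⊗[F] W ≃ₗ[F] U ⊗[F] W) := Finite.of_injective _ DFunLike.coe_injective
  have := Module.nontrivial_of_finrank_pos (R := F) (M := W) h.ho.pos
  have tr : ∀ i, ∃ m ∈ (NG h.pw h.hW).subgroupOf X, ∀ a, a ∈ (LG h.pw i).subgroupOf X ↔
      m * a * m⁻¹ ∈ (LG h.pw j).subgroupOf X := fun i =>
    let ⟨m, m1, m2, m3⟩ := h.tr hT i
    ⟨⟨m, m1⟩, m2, fun a => ⟨LG_conj h.pw fun a => ⟨a, m3 a⟩, fun H => by
      simpa [mul_assoc] using! LG_conj h.pw (Tn.symm h.pw fun a => ⟨a, m3 a⟩) H⟩⟩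
  have sl : Sl ((NG h.pw h.hW).subgroupOf X) fun i => (LG h.pw i).subgroupOf X := Sl.of_base j
    (fun i k hk l => ⟨l, LG_tn h.pw hk l⟩) (fun i j hij a ha b hb => Subtype.ext (LG_comm h.pw hb (LG_cj h.pw ha hij.symm)))
    (fun m hm i => (hm i).imp fun l hl a ha => LG_conj h.pw hl ha) tr
    (fun a ha H => Subtype.ext (h.cen_one hW a.2 ha fun k hk k1 => congrArg Subtype.val (H ⟨k, hk⟩ k1)))
    (fun ⟨t, ht⟩ H => by
      obtain ⟨v, hv, rfl⟩ := h.exists_iv hW ht H.mem (congrArg Subtype.val H.sq) fun h => H.ne (Subtype.ext h)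
      obtain ⟨a, a1, a2, a3, a4, a5, a6⟩ := h.four hv ht
      exact ⟨⟨a, a1⟩, ⟨a2, Subtype.ext a3, fun h => a4 (congrArg Subtype.val h)⟩, fun h => a5 (congrArg Subtype.val h),
        Subtype.ext a6⟩)
    fun ⟨t, ht⟩ H ⟨g, hg⟩ H' => by
      obtain ⟨v, hv, rfl⟩ := h.exists_iv hW ht H.mem (congrArg Subtype.val H.sq) fun h => H.ne (Subtype.ext h)
      obtain ⟨l, hl⟩ := h.exists_LG hW hT fx IH hv ht hg rfl H'
      obtain ⟨m, m1, m2, m3⟩ := h.tr hT l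
      have m4 := mul_mem m1 hg
      obtain ⟨t, t1, t2⟩ := h.exists_iv hW (mul_mem (mul_mem m4 ht) (inv_mem m4)) (by
        simpa [mul_assoc] using LG_conj h.pw (fun a => ⟨a, m3 a⟩) hl) (by rw [conj_mul, iv_iv hv]; simp)
        fun h => H.ne (Subtype.ext (conj_eq_one_iff.1 h))
      exact ((NG h.pw h.hW).mul_mem_cancel_left m2).1 (h.nz_of_tens hT fx IH m4 (h.of_conj hW hT fx IH (h.so hT fx IH) hv t1
        ht (t2 ▸ mul_mem (mul_mem m4 ht) (inv_mem m4)) m4 (mul_inv_eq_iff_eq_mul.1 t2)))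
  obtain ⟨v, hv⟩ := h.pw.nω.exists_Q_ne_zero ⟨1, one_ne_zero⟩
  obtain ⟨v', v1, v2, v3, v4⟩ := h.exists_pair hv
  have iv : Iv (fun i => (LG h.pw i).subgroupOf X) j ⟨_, v3⟩ := ⟨mul_mem (h.rg_mem _) (h.rg_mem _), Subtype.ext (by
    change _ * _ * (_ * _) = 1
    rw [← sq, v4.mul_pow, sq, sq, iv_iv hv, iv_iv v1, one_mul]), fun H => h.iv_ne v1 v2 hv (iv_self hv) (by
      rw [eq_inv_of_mul_eq_one_left (congrArg Subtype.val H :), inv_eq_of_mul_eq_one_right (iv_iv hv)])⟩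
  obtain ⟨i⟩ : Nonempty T' := Fintype.card_pos_iff.1 (by omega)
  obtain ⟨m, -, m2⟩ := tr (ι i)
  exact sl.mem (h.ne i).symm iv (iv.conj (m := m⁻¹) ((m2 _).2 (by simpa [mul_assoc] using iv.mem))) ⟨g, hg⟩

end Ov

end Cfsg.Lib.Forms.C7O
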