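import Cfsg.Agent.Lib.Max.C3Pd

/-!
# Overgroups of `O₃(q^r)`, `r ≥ 3`: geometry
-/

set_option autoImplicit false

namespace Cfsg.Lib.Forms

open Module Form Submodule

variable {F K V : Type*} [Field F] [Field K] [Algebra F K] [AddCommGroup V] [Module F V]
  [Module K V] [IsScalarTower F K V] [FiniteDimensional F V] [FiniteDimensional K V] [Fintype K]
  {D : Form (quadKind F) V} {D' : Form (quadKind K) V} {X : Subgroup D.isom}

variable (D' X) in
/-- An overgroup of the three-dimensional orthogonal group over an extension field. -/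
structure C3Q : Prop where
  nd : D.Nondeg
  nd' : D'.Nondeg
  two : (2 : K) ≠ 0
  prime : (finrank F K).Prime
  five : 3 ≤ finrank F K
  dim : finrank K V = 3
  B : ∀ x y, D.B x y = Algebra.trace F K (D'.B x y)
  mem : ∀ k : D'.isom, ∃ g ∈ X, ∀ x, g.1 x = k.1 (k.1 x)
  dk : ∀ g ∈ X, dickson nd g = 1

namespace C3Q

variable (h : C3Q D' X)
include h

omit [FiniteDimensional K V] [Fintype K] [IsScalarTower F K V] in
theorem odd : Odd (finrank F K) := h.prime.odd_of_ne_two (by have := h.five; omega)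

omit [FiniteDimensional K V] [IsScalarTower F K V] in
theorem B_eq_zero {e x : V} (H : ∀ a : K, D.B (a • e) x = 0) : D'.B e x = 0 :=
  eq_zero_of_comp (tr_ne F K) fun a => by simpa [h.B] using H a

omit [FiniteDimensional K V] [IsScalarTower F K V] in
theorem sl_B (g : D.isom) (σ : K ≃ₐ[F] K) {x : V} (H : ∀ a, g.1 (a • x) = σ a • g.1 x) (y : V) :
    D'.B (g.1 x) (g.1 y) = σ (D'.B x y) := sub_eq_zero.1 (eq_zero_of_comp (tr_ne F K) fun a => by
  obtain ⟨a, rfl⟩ := σ.surjective a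
  have := B_isom g (a • x) y
  rw [H, h.B, h.B, B_smul_left, B_smul_left] at this
  rw [mul_sub, map_sub, ← map_mul, Algebra.trace_eq_of_algEquiv, sub_eq_zero]
  exact this)

omit [FiniteDimensional K V] [IsScalarTower F K V] in
theorem sl_Q (g : D.isom) (σ : K ≃ₐ[F] K) {x : V} (H : ∀ a, g.1 (a • x) = σ a • g.1 x) :
    D'.Q (g.1 x) = σ (D'.Q x) := mul_left_cancel₀ h.two (by
  rw [← quad_B_self, h.sl_B g σ H, quad_B_self, map_mul, map_ofNat])

omit [FiniteDimensional K V] [IsScalarTower F K V] in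
theorem kl_B {g : D.isom} (H : KL K g.1) (x y : V) : D'.B (g.1 x) (g.1 y) = D'.B x y :=
  h.sl_B g 1 (fun a => H a x) y

omit [FiniteDimensional K V] [IsScalarTower F K V] in
theorem kl_Q {g : D.isom} (H : KL K g.1) (x : V) : D'.Q (g.1 x) = D'.Q x := h.sl_Q g 1 (fun a => H a x)

omit [FiniteDimensional K V] [IsScalarTower F K V] in
theorem perp_map (g : D.isom) {v v' y : V} (H : ∀ a : K, ∃ b : K, g⁻¹.1 (a • v') = b • v) (hy : D'.B v y = 0) :
    D'.B v' (g.1 y) = 0 := h.B_eq_zero fun a => by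
  obtain ⟨b, hb⟩ := H a
  rw [B_isom_right, hb, h.B]; simp [hy]

theorem fix_aux {g : D.isom} (hg : g ∈ X) (H : KL K g.1) : ∃ U : Submodule K V, (∀ x, x ∈ U ↔ g.1 x = x) ∧
    (finrank K U = 1 ∨ finrank K U = 3) := by
  let A : V →ₗ[K] V := { toFun := fun x => g.1 x - x, map_add' := fun x y => by rw [map_add]; abel
                         map_smul' := fun a x => by rw [H, smul_sub]; rfl }
  refine ⟨LinearMap.ker A, fun x => sub_eq_zero, ?_⟩
  have h1 := (dickson_eq_one_iff h.nd g).1 (h.dk g hg)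
  rw [show LinearMap.range ((g.1 : V →ₗ[F] V) - 1) = (LinearMap.range A).restrictScalars F from rfl] at h1
  have h2 := Module.finrank_mul_finrank F K (LinearMap.range A)
  have h3 := A.finrank_range_add_finrank_ker
  have h4 : Even (finrank K (LinearMap.range A)) :=
    ((Nat.even_mul.1 (h2 ▸ h1)).resolve_left (Nat.not_even_iff_odd.2 h.odd))
  rw [h.dim] at h3
  obtain ⟨m, hm⟩ := h4
  omega

theorem exists_fix {g : D.isom} (hg : g ∈ X) (H : KL K g.1) : ∃ v, v ≠ 0 ∧ g.1 v = v := by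
  obtain ⟨U, h1, h2⟩ := h.fix_aux hg H
  obtain ⟨v, hv, v0⟩ := exists_ne_zero_of_finrank_pos (U := U) (by omega)
  exact ⟨v, v0, (h1 v).1 hv⟩

theorem fix_eq {g : D.isom} (hg : g ∈ X) (H : KL K g.1) (h1 : g ≠ 1) {v y : V} (v0 : v ≠ 0) (hv : g.1 v = v)
    (hy : g.1 y = y) : ∃ a : K, y = a • v := by
  obtain ⟨U, h2, h3 | h3⟩ := h.fix_aux hg H
  · obtain ⟨a, ha⟩ := (finrank_eq_one_iff_of_nonzero' (⟨v, (h2 v).2 hv⟩ : U) (by simpa)).1 h3 ⟨y, (h2 y).2 hy⟩
    exact ⟨a, (congrArg Subtype.val ha).symm⟩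
  · exact absurd (isom_ext fun x => (h2 x).1 ((eq_top_of_finrank_eq (h3.trans h.dim.symm)).ge mem_top)) h1

theorem eq_one_of_fix {g : D.isom} (hg : g ∈ X) (H : KL K g.1) {v y : V} (v0 : D'.Q v ≠ 0) (hv : g.1 v = v)
    (y0 : y ≠ 0) (y1 : D'.B v y = 0) (hy : g.1 y = y) : g = 1 := by_contra fun h1 => by
  obtain ⟨a, rfl⟩ := h.fix_eq hg H h1 (by rintro rfl; simp at v0) hv hy
  simp_all [quad_B_self, h.two]

section
omit [FiniteDimensional K V] [Fintype K] [IsScalarTower F K V]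

theorem mem' (k : D'.isom) : ∃ g ∈ X, KL K g.1 ∧ ∀ x, g.1 x = k.1 (k.1 x) :=
  (h.mem k).imp fun _ hg => ⟨hg.1, fun a x => by simp [hg.2], hg.2⟩

theorem exists_u {e w f : V} (H : Fr D' e w f) (b : K) : ∃ g ∈ X, KL K g.1 ∧ g.1 e = e ∧
    g.1 w = w + (2 * b * D'.Q w) • e ∧ g.1 f = f - b • w - (b ^ 2 * D'.Q w) • e := by
  obtain ⟨g, h1, h2, h3⟩ := h.mem' (D'.eich e ((b / 2) • w) _ (isEich_quad H.hyp.Q_e (by simp [H.ew])))
  have := h.two
  refine ⟨g, h1, h2, ?_, ?_, ?_⟩ <;> simp [h3, eich_apply, H.tab, quad_Q_smul] <;> match_scalars <;> field_simp <;> ring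

theorem exists_tor {e w f : V} (H : Fr D' e w f) {a : K} (ha : a ≠ 0) : ∃ g ∈ X, KL K g.1 ∧ g.1 e = a ^ 2 • e ∧
    g.1 w = w ∧ g.1 f = (a ^ 2)⁻¹ • f := by
  obtain ⟨g, h1, h2, h3⟩ := h.mem' (D'.refl (e - f) * D'.refl (e - a • f))
  have h4 := H.hyp.Q_sub_smul 1
  rw [one_smul] at h4
  refine ⟨g, h1, h2, ?_, ?_, ?_⟩ <;> simp [h3, isom_mul_apply, refl_apply, H.tab, H.hyp.Q_sub_smul, h4] <;>
    match_scalars <;> field_simp <;> ring

theorem exists_inv {e w f : V} (H : Fr D' e w f) : ∃ g ∈ X, KL K g.1 ∧ g.1 e = -D'.Q w • f ∧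
    g.1 w = -w ∧ g.1 f = -(D'.Q w)⁻¹ • e := by
  obtain ⟨g, h1, h2, h3⟩ := h.mem' (D'.refl w * D'.refl (w - e - D'.Q w • f))
  have h4 : D'.Q (w - e - D'.Q w • f) = 2 * D'.Q w := by
    simp [quad_Q_sub, quad_Q_smul, H.tab, H.hyp.Q_e, H.hyp.Q_f]; ring
  have := h.two
  have := H.ns
  refine ⟨g, h1, h2, ?_, ?_, ?_⟩ <;> simp [h3, isom_mul_apply, refl_apply, H.tab, h4] <;>
    match_scalars <;> field_simp <;> ring

end

theorem exists_trans {e e' : V} (h0 : e ≠ 0) (h1 : D'.Q e = 0) (h0' : e' ≠ 0) (h1' : D'.Q e' = 0) :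
    ∃ g ∈ X, KL K g.1 ∧ ∃ c : K, g.1 e' = c • e := by
  by_cases h2 : D'.B e e' = 0
  · obtain ⟨w, f, H⟩ := exists_fr h.nd' h.dim h0 h1
    obtain ⟨a, b, rfl⟩ := H.dec_e h2
    obtain rfl : b = 0 := by simpa [quad_Q_add, quad_Q_smul, H.tab, H.ns, h1] using h1'
    exact ⟨1, X.one_mem, fun _ _ => rfl, a, by simp [isom_one_apply]⟩
  obtain ⟨w, H⟩ := exists_fr_of_hyp h.nd' h.dim (exists_isHyp_smul h1 h1' h2)
  obtain ⟨g, g1, g2, -, -, g3⟩ := h.exists_inv H
  exact ⟨g, g1, g2, _, by rw [g2, inv_smul_eq_iff₀ h2, smul_smul] at g3; exact g3⟩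

theorem exists_ac {v w z : V} (H : Ob D' v w z) {g : D.isom} (hg : g ∈ X) (g1 : KL K g.1) (g2 : g.1 v = v) :
    ∃ a c : K, g.1 w = a • w + (c * D'.Q w) • z ∧ g.1 z = -(c * D'.Q z) • w + a • z := by
  have k : ∀ y, D'.B v y = 0 → D'.B v (g.1 y) = 0 := fun y hy => by rw [← g2, h.kl_B g1, hy]
  obtain ⟨a, c, h1⟩ := H.dec_v h.two (k w H.vw)
  obtain ⟨b, d, h2⟩ := H.dec_v h.two (k z H.vz)
  have e1 := h.kl_Q g1 w
  have e2 := h.kl_Q g1 z
  have e3 := h.kl_B g1 w z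
  simp only [h1, h2, quad_Q_add, quad_Q_smul, map_add, map_smul, LinearMap.add_apply, LinearMap.smul_apply, H.tab,
    RingHom.id_apply, smul_eq_mul, mul_zero, add_zero, zero_add] at e1 e2 e3
  replace e3 : a * b * D'.Q w + c * d * D'.Q z = 0 := mul_left_cancel₀ h.two (by linear_combination e3)
  have := H.nw
  have e4 : d = a * (a * d - b * c) := mul_left_cancel₀ H.nw (by linear_combination -d * e1 + c * e3)
  have e5 : D'.Q w * b = -D'.Q z * c * (a * d - b * c) := by linear_combination -b * e1 + a * e3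
  have e6 : (a * d - b * c - 1) * (a * d - b * c + 1) = 0 := mul_left_cancel₀ (mul_ne_zero H.nw H.nz) (by
    linear_combination (b ^ 2 * D'.Q w + d ^ 2 * D'.Q z) * e1 + D'.Q w * e2 - (a * b * D'.Q w + c * d * D'.Q z) * e3)
  rcases mul_eq_zero.1 e6 with e6 | e6
  · rw [sub_eq_zero.1 e6, mul_one] at e4 e5
    exact ⟨a, c / D'.Q w, by rw [h1, div_mul_cancel₀ _ H.nw], by
      rw [h2, e4, show b = -(c / D'.Q w * D'.Q z) by field_simp; linear_combination e5]⟩
  exfalso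
  rw [eq_neg_of_add_eq_zero_left e6] at e4 e5
  have e7 : g = 1 := by
    by_cases h3 : (a + 1) • w + c • z = 0
    · obtain rfl : c = 0 := by simpa [H.tab, h.two, H.nz] using congrArg (D'.B z) h3
      obtain rfl : b = 0 := by simpa [H.nw] using e5
      have : a + 1 = 0 := by simpa [H.tab, h.two, H.nw] using congrArg (D'.B w) h3
      exact h.eq_one_of_fix hg g1 H.nv g2 (y := z) (by rintro rfl; simpa using H.nz) H.vz (by
        rw [h2, show d = 1 by linear_combination e4 - this]; simp)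
    refine h.eq_one_of_fix hg g1 H.nv g2 h3 (by simp [H.tab]) ?_
    rw [map_add, g1, g1, h1, h2]
    match_scalars
    · linear_combination -e6 + a * e4
    · linear_combination c * e4
  subst e7
  have f1 := congrArg (D'.B w) h1
  have f2 := congrArg (D'.B z) h2
  simp only [isom_one_apply, map_add, map_smul, H.tab, smul_eq_mul, mul_zero, add_zero, zero_add] at f1 f2
  have f3 : a = 1 := mul_right_cancel₀ (mul_ne_zero h.two H.nw) (by linear_combination -f1)
  have f4 : d = 1 := mul_right_cancel₀ (mul_ne_zero h.two H.nz) (by linear_combination -f2)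
  exact h.two (by linear_combination e4 - f3 - f4)

theorem comm {v : V} (hv : D'.Q v ≠ 0) {g k : D.isom} (hg : g ∈ X) (g1 : KL K g.1) (g2 : g.1 v = v)
    (hk : k ∈ X) (k1 : KL K k.1) (k2 : k.1 v = v) : g * k = k * g := by
  obtain ⟨w, z, H, -⟩ := exists_ob h.nd' h.dim h.two hv one_ne_zero
  obtain ⟨a, c, h1, h2⟩ := h.exists_ac H hg g1 g2
  obtain ⟨b, d, h3, h4⟩ := h.exists_ac H hk k1 k2
  refine kl_ext H.dec (kl_mul g1 k1) (kl_mul k1 g1) ?_ ?_ ?_ <;>
    simp only [isom_mul_apply, g2, k2, h1, h2, h3, h4, map_add, g1 _ _, k1 _ _] <;> module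

theorem exists_tau {v : V} (hv : D'.Q v ≠ 0) {g : D.isom} (hg : g ∈ X) (g1 : KL K g.1) (g2 : g.1 v = v) :
    ∃ τ : K, ∀ y, D'.B v y = 0 → g.1 y + g⁻¹.1 y = τ • y := by
  obtain ⟨w, z, H, -⟩ := exists_ob h.nd' h.dim h.two hv one_ne_zero
  obtain ⟨a, c, h1, h2⟩ := h.exists_ac H hg g1 g2
  have e1 := h.kl_Q g1 w
  simp only [h1, quad_Q_add, quad_Q_smul, map_smul, LinearMap.smul_apply, H.tab,
    RingHom.id_apply, smul_eq_mul, mul_zero, add_zero] at e1
  have e2 : a ^ 2 + c ^ 2 * D'.Q w * D'.Q z = 1 := mul_left_cancel₀ H.nw (by linear_combination e1)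
  refine ⟨2 * a, fun y hy => g.1.injective ?_⟩
  obtain ⟨r, t, rfl⟩ := H.dec_v h.two hy
  simp only [map_add, isom_apply_inv, h1, h2, g1 _ _]
  match_scalars
  · linear_combination -r * e2
  · linear_combination -t * e2

theorem tau_not_mem {v : V} (hv : D'.Q v ≠ 0) {g : D.isom} (hg : g ∈ X) (g1 : KL K g.1) (g2 : g.1 v = v) {s : ℕ}
    (hs : s.Prime) (g3 : g ^ s = 1) (g4 : g ≠ 1) (h1 : ¬ s ∣ Nat.card F ^ 2 - 1) {c : F}
    (hc : ∀ y, D'.B v y = 0 → g.1 y + g⁻¹.1 y = algebraMap F K c • y) : False := by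
  obtain ⟨_, _⟩ := fin_of_fin F K
  have := Fintype.ofFinite F
  have := Fact.mk hs
  obtain ⟨p, _, n, hp, hn⟩ := FiniteField.card' F
  have := Fact.mk hp
  rw [Nat.card_eq_fintype_card] at h1
  obtain ⟨w, z, H, -⟩ := exists_ob h.nd' h.dim h.two hv one_ne_zero
  have := nontrivial_of_ne w 0 (by rintro rfl; simpa using H.nw)
  have : CharP (End F V) p := charP_of_injective_algebraMap (algebraMap F _).injective p
  let ρ : D.isom →* End F V := LinearEquiv.automorphismGroup.toLinearMapMonoidHom.comp D.isom.subtype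
  have k0 : ∀ (k : D.isom) y, ρ k y = k.1 y := fun _ _ => rfl
  have k1 : ∀ i y, D'.B v y = 0 → ((ρ g + ρ g⁻¹) ^ i) y = c ^ i • y := fun i y hy => by
    induction i with
    | zero => simp
    | succ i ih =>
      rw [pow_succ', End.mul_apply, ih, map_smul, LinearMap.add_apply, k0, k0, hc y hy, algebraMap_smul, smul_smul,
        pow_succ]
  have k2 := k1 (p ^ (n : ℕ))
  rw [add_pow_char_pow_of_commute _ _ ((Commute.refl g).inv_right.map ρ), ← hn, FiniteField.pow_card, ← map_pow,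
    ← map_pow] at k2
  have k3 : ∀ j y, ¬ s ∣ j → D'.B v y = 0 → (g ^ j).1 y = y → y = 0 := fun j y hj hy h2 => by_contra fun y0 =>
    hj (by
      rw [← orderOf_eq_prime g3 g4]
      exact orderOf_dvd_of_pow_eq_one (h.eq_one_of_fix (X.pow_mem hg j) (kl_pow g1 j) hv (pow_apply_of_fix g2 j)
        y0 hy h2))
  obtain ⟨m, hm⟩ : ∃ m, Fintype.card F = m + 1 := ⟨_, (Nat.sub_add_cancel Fintype.card_pos).symm⟩
  rw [hm] at k2 h1
  rw [show (m + 1) ^ 2 - 1 = m * (m + 2) by rw [Nat.sub_eq_iff_eq_add (Nat.one_le_pow' _ _)]; ring] at h1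
  have k4 : ∀ j y, D'.B v y = 0 → D'.B v ((g ^ j).1 y) = 0 := fun j y hy => by
    rw [← pow_apply_of_fix g2 j, h.kl_B (kl_pow g1 j), hy]
  have k5 := k2 _ (k4 (m + 1) w H.vw)
  rw [← algebraMap_smul K, ← hc _ (k4 (m + 1) w H.vw), LinearMap.add_apply, k0, k0] at k5
  simp only [← isom_mul_apply] at k5
  have k6 := k3 (m + 2) ((g ^ m).1 w - w) (fun h => h1 (h.mul_left _)) (by rw [map_sub, k4 m w H.vw, H.vw, sub_zero]) (by
    rw [map_sub, ← isom_mul_apply, show g ^ (m + 2) * g ^ m = g ^ (m + 1) * g ^ (m + 1) by group,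
      show g ^ (m + 2) = g * g ^ (m + 1) by group]
    rw [show g⁻¹ ^ (m + 1) * g ^ (m + 1) = 1 by group, show g⁻¹ * g ^ (m + 1) = g ^ m by group, isom_one_apply] at k5
    linear_combination (norm := module) k5)
  exact H.nw (by rw [k3 m w (fun h => h1 (h.mul_right _)) H.vw (sub_eq_zero.1 k6), Q_zero])

end C3Q

end Cfsg.Lib.Forms
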