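import Cfsg.Agent.Lib.C7O.Pa

/-!
# Overgroups of `O₃(q^r)`, `r ≥ 3`: the local analysis
-/

set_option autoImplicit false

namespace Cfsg.Lib.Forms

open Module Form Submodule

theorem exists_primes3 {q r : ℕ} (hq : 1 < q) (hq2 : q ≠ 2) (hr : 3 ≤ r) (ho : Odd r) :
    (∃ s, s.Prime ∧ s ∣ q ^ r - 1 ∧ 2 * r < s ∧ ¬ s ∣ q ^ 2 - 1) ∧
      ∃ s, s.Prime ∧ s ∣ q ^ r + 1 ∧ 2 * r < s ∧ ¬ s ∣ q ^ 2 - 1 := by
  constructor
  · obtain ⟨s, hs⟩ := Small.zsigmondy hq (n := r) (by omega) (by rintro ⟨-, rfl⟩; exact absurd ho (by decide)) (by omega)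
    refine ⟨s, hs.1, hs.2.1, ?_, hs.2.2 2 two_pos (by omega)⟩
    obtain ⟨k, hk⟩ := hs.dvd_sub_one hq.le (by omega)
    have h1 := hs.lt hq.le (by omega)
    obtain ⟨m, hm⟩ := hs.1.odd_of_ne_two (by omega)
    obtain ⟨j, hj⟩ := (Nat.even_mul.1 (show Even (r * k) from ⟨m, by omega⟩)).resolve_left (Nat.not_even_iff_odd.2 ho)
    rcases j with _ | j
    · subst hj; omega
    · rw [hj] at hk; have : r * (j + 1 + (j + 1)) = 2 * r + 2 * (r * j) := by ring
      omega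
  · obtain ⟨s, hs⟩ := Small.zsigmondy hq (n := 2 * r) (by omega) (by omega) (by omega)
    refine ⟨s, hs.1, ((Nat.Prime.dvd_mul hs.1).1 ?_).resolve_right (hs.2.2 r (by omega) (by omega)),
      hs.lt hq.le (by omega), hs.2.2 2 two_pos (by omega)⟩
    rw [← Nat.sq_sub_sq, ← pow_mul, mul_comm]
    exact hs.2.1

variable {F K V : Type*} [Field F] [Field K] [Algebra F K] [AddCommGroup V] [Module F V]
  [Module K V] [IsScalarTower F K V] [FiniteDimensional F V] [FiniteDimensional K V] [Fintype K]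
  {D : Form (quadKind F) V} {D' : Form (quadKind K) V} {X : Subgroup D.isom}

namespace C3Q

variable (h : C3Q D' X)
include h

omit [FiniteDimensional K V] [IsScalarTower F K V] in
theorem primes : (∃ s, s.Prime ∧ s ∣ Nat.card K - 1 ∧ 2 * finrank F K < s ∧ ¬ s ∣ Nat.card F ^ 2 - 1) ∧
    ∃ s, s.Prime ∧ s ∣ Nat.card K + 1 ∧ 2 * finrank F K < s ∧ ¬ s ∣ Nat.card F ^ 2 - 1 := by
  obtain ⟨_, _⟩ := fin_of_fin F K
  rw [Module.natCard_eq_pow_finrank (K := F) (V := K)]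
  refine exists_primes3 Finite.one_lt_card (fun h2 => h.two ?_) h.five h.odd
  have := Fintype.ofFinite F
  rw [← map_ofNat (algebraMap F K) 2, ← Nat.cast_ofNat, ← h2, Nat.card_eq_fintype_card, FiniteField.cast_card_eq_zero,
    map_zero]

omit [FiniteDimensional K V] [IsScalarTower F K V] in
theorem exists_tx_hyp {e w f : V} (H : Fr D' e w f) : ∃ x, Tx D' X w x ∧ ∃ a : K, x.1 e = a • e := by
  obtain ⟨s, h1, h2, h3, h4⟩ := h.primes.1
  have := Fact.mk h1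
  obtain ⟨b, hb⟩ := exists_prime_orderOf_dvd_card' (G := Kˣ) s (by rwa [Nat.card_units])
  obtain ⟨x, x1, x2, x3, x4, x5⟩ := h.exists_tor H b.ne_zero
  have h5 : ((b : K) ^ 2) ^ s = 1 := by rw [← pow_mul, mul_comm, pow_mul, ← Units.val_pow_eq_pow_val, ← hb]; simp
  refine ⟨x, ⟨H.ns, x1, x2, x4, fun h0 => ?_, s, h1, kl_ext H.dec (kl_pow x2 s) (fun _ _ => rfl) ?_
    (pow_apply_of_fix x4 s) ?_, h3, h4⟩, _, x3⟩
  · rw [h0, isom_one_apply] at x3
    have : b ^ 2 = 1 := Units.ext (smul_left_injective K H.hyp.e_ne_zero (by simpa using x3.symm))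
    have := Nat.le_of_dvd two_pos (hb ▸ orderOf_dvd_of_pow_eq_one this)
    have := h.five
    omega
  · rw [pow_apply_smul x2 x3, h5, one_smul, isom_one_apply]
  · rw [pow_apply_smul x2 x5, inv_pow, h5, inv_one, one_smul, isom_one_apply]

omit [IsScalarTower F K V] in
theorem exists_tx {v : V} (hv : D'.Q v ≠ 0) : ∃ x, Tx D' X v x := by
  have h1 := isOrthCompl_span_singleton (quad_B_ne_zero h.two hv)
  have h2 := finrank_perp_span_singleton (quad_B_ne_zero h.two hv)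
  rcases (h1.symm.nondeg_left h.nd').aniso_or_exists_isHyp with H | ⟨e, f, H⟩
  swap
  · obtain ⟨f', H'⟩ := exists_fr_of_perp h.nd' h.dim h.two (e := e) (by simpa using H.e_ne_zero) H.Q_e hv
      (D'.mem_perp_span_singleton.1 e.2)
    exact (h.exists_tx_hyp H').imp fun _ h => h.1
  obtain ⟨s, h3, h4, h5, h6⟩ := h.primes.2
  have := Fact.mk h3
  have : Finite V := Module.finite_of_finite K
  have : Finite (D'.perp (K ∙ v) ≃ₗ[K] D'.perp (K ∙ v)) := Finite.of_injective _ DFunLike.coe_injective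
  obtain ⟨k, hk⟩ := exists_prime_orderOf_dvd_card' s
    (Quad.card_isom_of_aniso H (by have := h.dim; omega) ▸ h4.mul_left 2)
  rw [← orderOf_injective _ (extend_injective h1.symm)] at hk
  have h7 := extend_apply_right h1.symm k (mem_span_singleton_self v)
  generalize extend h1.symm k = k at hk h7
  obtain ⟨x, x1, x2, x3⟩ := h.mem' k
  have h8 : ∀ n y, (x ^ n).1 y = (k ^ (2 * n)).1 y := fun n y => by
    induction n with
    | zero => rfl
    | succ n ih => rw [pow_succ', isom_mul_apply, ih, x3, mul_add, add_comm, pow_add, pow_two]; rfl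
  refine ⟨x, hv, x1, x2, by rw [x3, h7, h7], fun h0 => ?_, s, h3, isom_ext fun y => by
    rw [h8, mul_comm, pow_mul, ← hk, pow_orderOf_eq_one, one_pow]; rfl, h5, h6⟩
  have : k ^ 2 = 1 := isom_ext fun y => by rw [← mul_one 2, ← h8, h0]; rfl
  have := Nat.le_of_dvd two_pos (hk ▸ orderOf_dvd_of_pow_eq_one this)
  have := h.five
  omega

theorem exists_sl {v : V} {x : D.isom} (H : Tx D' X v x) {g : D.isom} (hg : g ∈ X) (g1 : KL K (g * x * g⁻¹).1) :
    ∃ σ : K ≃ₐ[F] K, ∀ a y, D'.B v y = 0 → g.1 (a • y) = σ a • g.1 y := by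
  have v0 : v ≠ 0 := by rintro rfl; simpa using H.ns
  have hx := X.mul_mem (X.mul_mem hg H.mem) (X.inv_mem hg)
  have k0 : ∀ y, (g * x * g⁻¹).1 (g.1 y) = g.1 (x.1 y) := fun y => by simp [isom_mul_apply]
  have k0' : ∀ y, (g * x * g⁻¹)⁻¹.1 (g.1 y) = g.1 (x⁻¹.1 y) := fun y => by simp [isom_mul_apply]
  have k1 : ∀ a : K, ∃ b : K, g.1 (a • v) = b • g.1 v := fun a =>
    h.fix_eq hx g1 (by simpa using H.ne) (by simpa) (by rw [k0, H.fix]) (by rw [k0, H.kl, H.fix])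
  have k2 : D'.Q (g.1 v) ≠ 0 := fun h0 => quad_B_ne_zero h.two H.ns (h.B_eq_zero fun a => by
    obtain ⟨b, hb⟩ := k1 a
    rw [← B_isom g, hb, h.B]; simp [D'.B_self_of_Q h0])
  obtain ⟨τ, hτ⟩ := h.exists_tau H.ns H.mem H.kl H.fix
  obtain ⟨τ', hτ'⟩ := h.exists_tau k2 hx g1 (by rw [k0, H.fix])
  let A : Subalgebra F K :=
    { carrier := {a | ∃ b : K, ∀ y ∈ D'.perp (K ∙ v), g.1 (a • y) = b • g.1 y}
      mul_mem' := fun ⟨b, hb⟩ ⟨c, hc⟩ => ⟨b * c, fun y hy => by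
        rw [mul_smul, hb _ (smul_mem _ _ hy), hc _ hy, mul_smul]⟩
      add_mem' := fun ⟨b, hb⟩ ⟨c, hc⟩ => ⟨b + c, fun y hy => by rw [add_smul, map_add, hb _ hy, hc _ hy, add_smul]⟩
      algebraMap_mem' := fun c => ⟨algebraMap F K c, fun y _ => by simp⟩ }
  have k3 : τ ∈ A := ⟨τ', fun y hy => by
    rw [mem_perp_span_singleton] at hy
    rw [← hτ y hy, ← hτ' _ (h.perp_map g (inv_ln v0 k1) hy), k0, k0', map_add]⟩
  rcases (Subalgebra.isSimpleOrder_of_finrank_prime F K h.prime).eq_bot_or_eq_top A with h1 | h1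
  · obtain ⟨c, rfl⟩ := Algebra.mem_bot.1 (h1 ▸ k3 : τ ∈ (⊥ : Subalgebra F K))
    obtain ⟨s, s1, s2, -, s3⟩ := H.ord
    exact (h.tau_not_mem H.ns H.mem H.kl H.fix s1 s2 H.ne s3 hτ).elim
  obtain ⟨σ, hσ⟩ := exists_aut (F := F) (g := g.1) (W := D'.perp (K ∙ v)) (fun h0 => by
    have := finrank_perp_span_singleton (quad_B_ne_zero h.two H.ns)
    rw [h0, finrank_bot, h.dim] at this; omega) fun a => (h1 ▸ Algebra.mem_top : a ∈ A)
  exact ⟨σ, fun a y hy => hσ a y (D'.mem_perp_span_singleton.2 hy)⟩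

omit [FiniteDimensional K V] [IsScalarTower F K V] in
theorem inQ_conj {e : V} (h0 : e ≠ 0) {g k : D.isom} (hg : InQ D' e g) (hk : ∀ a : K, ∃ b : K, k.1 (a • e) = b • e) :
    InQ D' e (k * g * k⁻¹) := by
  refine ⟨fun a => ?_, fun y hy => ?_⟩
  · obtain ⟨b, hb⟩ := inv_ln h0 hk a
    rw [isom_mul_apply, isom_mul_apply, hb, hg.1, ← hb, isom_apply_inv]
  obtain ⟨c, hc⟩ := hg.2 _ (h.perp_map k⁻¹ (by rwa [inv_inv]) hy)
  obtain ⟨b, hb⟩ := hk c
  exact ⟨b, by rw [isom_mul_apply, isom_mul_apply, hc, map_add, isom_apply_inv, hb]⟩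

omit h [FiniteDimensional F V] [FiniteDimensional K V] [IsScalarTower F K V] [Fintype K] [Algebra F K] in
theorem inQ_u {e w f : V} (H : Fr D' e w f) {u : D.isom} (u1 : KL K u.1) (u2 : u.1 e = e) {c : K}
    (u3 : u.1 w = w + c • e) : InQ D' e u := ⟨fun a => by rw [u1, u2], fun y hy => by
  obtain ⟨a, b, rfl⟩ := H.dec_e hy
  exact ⟨b * c, by rw [map_add, u1, u1, u2, u3]; module⟩⟩

variable (hZ : NoZ D' X)
include hZ

omit [FiniteDimensional K V] [IsScalarTower F K V] in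
theorem kl_of_inQ {e w f : V} (H : Fr D' e w f) {g : D.isom} (hg : g ∈ X) (g1 : InQ D' e g) : KL K g.1 := by
  have k0 : ∀ k ∈ X, (∀ y, D'.B e y = 0 → g.1 y = k.1 y) → g = k := fun k hk h1 =>
    (inv_mul_eq_one.1 (hZ e H.hyp.e_ne_zero H.hyp.Q_e _ (X.mul_mem (X.inv_mem hk) hg) fun y hy => by
      rw [isom_mul_apply, h1 y hy, isom_inv_apply])).symm
  obtain ⟨α, β, γ, h1⟩ := H.dec (g.1 f)
  obtain rfl : γ = 1 := by
    have := h.sl_B g 1 (x := e) (fun a => by rw [g1.1, ← one_smul K e, g1.1]; simp) f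
    rw [← one_smul K e, g1.1, h1] at this
    simpa [H.tab] using this
  have k1 : ∀ b : K, g.1 (b • w) = b • w + (b * (2 * -β * D'.Q w)) • e := fun b => by
    obtain ⟨u, u1, u2, u3, u4, u5⟩ := h.exists_u H b
    have h2 := k0 (u⁻¹ * g * u) (X.mul_mem (X.mul_mem (X.inv_mem u1) hg) u1) fun y hy => by
      obtain ⟨c, hc⟩ := g1.2 y hy
      obtain ⟨c', hc'⟩ := (inQ_u H u2 u3 u4).2 y hy
      rw [isom_mul_apply, isom_mul_apply, eq_comm, isom_inv_apply_eq, hc', map_add g.1, hc, map_add, hc', g1.1, u2, u3]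
      abel
    have h3 : u.1 (g.1 f) = g.1 (u.1 f) := by
      conv_lhs => rw [h2]
      simp [isom_mul_apply]
    rw [u5, map_sub, map_sub, g1.1, h1] at h3
    simp only [map_add, u2 _ _, u3, u4, u5] at h3
    linear_combination (norm := module) h3
  obtain ⟨u, u1, u2, u3, u4, -⟩ := h.exists_u H (-β)
  rw [k0 u u1 fun y hy => by
    obtain ⟨a, b, rfl⟩ := H.dec_e hy
    rw [map_add, map_add, g1.1, k1, u2, u2, u3, u4]; module]
  exact u2

theorem mem_of_stab {e w f : V} (H : Fr D' e w f) {g : D.isom} (hg : g ∈ X)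
    (g1 : ∀ a : K, ∃ b : K, g.1 (a • e) = b • e) : g.1 ∈ nK F K V := by
  have e0 := H.hyp.e_ne_zero
  obtain ⟨x, hx, a₀, x1⟩ := h.exists_tx_hyp H
  obtain ⟨u, u1, u2, u3, u4, u5⟩ := h.exists_u H 1
  have hu := inQ_u H u2 u3 u4
  have k0 : ∀ k ∈ X, (∀ a : K, ∃ b : K, k.1 (a • e) = b • e) → KL K (k * u * k⁻¹).1 := fun k hk k1 =>
    h.kl_of_inQ hZ H (X.mul_mem (X.mul_mem hk u1) (X.inv_mem hk)) (h.inQ_conj e0 hu k1)
  have k1 : KL K (g * x * g⁻¹).1 := by
    have m1 := X.mul_mem (X.mul_mem hg hx.mem) (X.inv_mem hg)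
    have m2 : ∀ a : K, ∃ b : K, (g * x * g⁻¹).1 (a • e) = b • e := fun a => by
      obtain ⟨b, hb⟩ := inv_ln e0 g1 a
      rw [isom_mul_apply, isom_mul_apply, hb, hx.kl, x1, smul_smul]
      exact g1 _
    have m3 : ∀ y, D'.B e y = 0 → ∃ c : K, (g * x * g⁻¹).1 y = y + c • e := fun y hy => by
      obtain ⟨a, b, h1⟩ := H.dec_e (h.perp_map g⁻¹ (by rwa [inv_inv]) hy)
      obtain ⟨c, hc⟩ := g1 (a * a₀ - a)
      refine ⟨c, ?_⟩
      rw [isom_mul_apply, isom_mul_apply, ← hc, ← isom_apply_inv g y, ← map_add, isom_inv_apply, h1, map_add, hx.kl,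
        hx.kl, x1, hx.fix]
      congr 1; module
    obtain ⟨s, s1, s2, s3, -⟩ := hx.ord
    have m4 : (g * x * g⁻¹) ^ s = 1 := by rw [conj_pow, s2]; simp
    generalize g * x * g⁻¹ = k at m1 m2 m3 m4
    have m5 : ∀ m : K, (k * u * k⁻¹).1 (m • w) = m • w + k.1 ((m * (2 * D'.Q w)) • e) := fun m => by
      obtain ⟨c, hc⟩ := m3 (m • w) (by simp [H.tab])
      obtain ⟨b, hb⟩ := inv_ln e0 m2 c
      have : k⁻¹.1 (m • w) = m • w - b • e := by rw [← hb, isom_inv_apply_eq, map_sub, hc, isom_apply_inv]; simp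
      rw [isom_mul_apply, isom_mul_apply, ← isom_apply_inv k (m • w), ← map_add, isom_inv_apply, this, map_sub, u2, u2,
        u3, u4]
      congr 1; module
    obtain ⟨b, hb⟩ := m2 1
    have m6 : ∀ c : K, k.1 (c • e) = (c * b) • e := fun c => by
      have h2 : ∀ m : K, k.1 ((m * (2 * D'.Q w)) • e) = m • k.1 ((1 * (2 * D'.Q w)) • e) := fun m => by
        have := m5 m
        rw [k0 k m1 m2, ← one_smul K w, m5, one_smul, smul_add] at this
        exact (add_left_cancel this).symm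
      have h3 := mul_ne_zero h.two H.ns
      have h4 := h2 (1 / (2 * D'.Q w))
      have h5 := h2 (c / (2 * D'.Q w))
      rw [div_mul_cancel₀ _ h3] at h4 h5
      rw [h5, mul_smul c, ← hb, h4, smul_smul, mul_one_div]
    have m7 : ∀ n : ℕ, (k ^ n).1 e = b ^ n • e := fun n => by
      induction n with
      | zero => simp [isom_one_apply]
      | succ n ih => rw [pow_succ', isom_mul_apply, ih, m6, pow_succ]
    have m8 : b ^ s = 1 := smul_left_injective K e0 (by simp only [← m7, m4, one_smul]; rfl)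
    obtain ⟨j, hj⟩ := s1.odd_of_ne_two (by have := h.five; omega)
    obtain ⟨t, t1, t2, t3, t4, -⟩ := h.exists_tor H (a := b ^ (j + 1)) (pow_ne_zero _ (by
      rintro rfl; simp [s1.ne_zero] at m8))
    rw [← pow_mul, show (j + 1) * 2 = s + 1 by omega, pow_succ, m8, one_mul] at t3
    have t5 : ∀ a : K, t⁻¹.1 ((a * b) • e) = a • e := fun a => by rw [isom_inv_apply_eq, t2, t3, smul_smul]
    rw [← mul_inv_cancel_left t k]
    refine kl_mul t2 (h.kl_of_inQ hZ H (X.mul_mem (X.inv_mem t1) m1) ⟨fun a => by rw [isom_mul_apply, m6, t5],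
      fun y hy => ?_⟩)
    obtain ⟨a, m, rfl⟩ := H.dec_e hy
    obtain ⟨c, hc⟩ := m3 (m • w) (by simp [H.tab])
    obtain ⟨c', hc'⟩ := inv_ln e0 (g := t) (v' := e) (fun a => ⟨a * b, by rw [t2, t3, smul_smul]⟩) c
    exact ⟨c', by rw [isom_mul_apply, map_add, m6, hc, map_add, map_add, t5, hc', kl_inv t2,
      isom_inv_apply_eq.2 t4, add_assoc]⟩
  obtain ⟨σ, hσ⟩ := h.exists_sl hx hg k1
  have k2 : ∀ c : K, g.1 (c • w) = σ c • g.1 w := fun c => by
    have h1 : ∀ y, (g * u * g⁻¹).1 (g.1 y) = g.1 (u.1 y) := fun y => by simp [isom_mul_apply]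
    have h2 := h1 (c • f)
    rw [hσ _ _ (by simp [H.tab]), k0 g hg g1, h1, u2, u5, smul_sub, smul_sub, map_sub, map_sub, map_sub, map_sub,
      hσ c f (by simp [H.tab]), hσ c (_ • e) (by simp [H.tab]), one_smul] at h2
    linear_combination (norm := module) h2
  have k3 : ∀ c y, g.1 (c • y) = σ c • g.1 y := fun c y => by
    obtain ⟨α, β, γ, rfl⟩ := H.dec y
    rw [smul_add, smul_add, map_add, map_add, hσ c _ (by simp [H.tab]), hσ c (γ • f) (by simp [H.tab]), smul_smul c β,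
      k2, map_add, map_add, k2, map_mul]
    module
  exact ⟨fun a => ⟨σ a, k3 a⟩, fun b => ⟨σ.symm b, fun y => by rw [k3, σ.apply_symm_apply]⟩⟩

theorem mem_of_sing {e e' : V} (h0 : e ≠ 0) (h1 : D'.Q e = 0) (h0' : e' ≠ 0) (h1' : D'.Q e' = 0) {g : D.isom}
    (hg : g ∈ X) (g1 : ∀ a : K, ∃ b : K, g.1 (a • e) = b • e') : g.1 ∈ nK F K V := by
  obtain ⟨n, n1, n2, c, n3⟩ := h.exists_trans h0 h1 h0' h1'
  obtain ⟨w, f, H⟩ := exists_fr h.nd' h.dim h0 h1
  refine ((nK F K V).mul_mem_cancel_left n2.mem_nK).1 (h.mem_of_stab hZ H (X.mul_mem n1 hg) fun a => ?_)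
  obtain ⟨b, hb⟩ := g1 a
  exact ⟨b * c, by rw [isom_mul_apply, hb, n2, n3, smul_smul]⟩

theorem mem_of_tx_hyp {e w f : V} (H : Fr D' e w f) {x : D.isom} (hx : Tx D' X w x) {g : D.isom} (hg : g ∈ X)
    (g1 : KL K (g * x * g⁻¹).1) : g.1 ∈ nK F K V := by
  obtain ⟨σ, hσ⟩ := h.exists_sl hx hg g1
  have k := fun a => hσ a e (by simp [H.tab])
  exact h.mem_of_sing hZ H.hyp.e_ne_zero H.hyp.Q_e (e' := g.1 e) (by simpa using H.hyp.e_ne_zero)
    (by rw [h.sl_Q g σ k, H.hyp.Q_e, map_zero]) hg fun a => ⟨_, k a⟩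

theorem eq_bot_of_pgroup {v : V} {x : D.isom} (hx : Tx D' X v x) {p : ℕ} [Fact p.Prime] [CharP K p]
    {L : Subgroup D.isom} (hL : IsPGroup p L) (h1 : ∀ g ∈ L, g ∈ X ∧ ∀ a : K, g.1 (a • v) = a • v)
    (h2 : ∀ g ∈ L, x * g * x⁻¹ ∈ L ∧ x⁻¹ * g * x ∈ L) {g : D.isom} (hg : g ∈ L) : g = 1 := by
  have : Finite V := Module.finite_of_finite K
  have h3 := finrank_perp_span_singleton (quad_B_ne_zero h.two hx.ns)
  rw [h.dim] at h3
  obtain ⟨s, s1, s2, s3, s4⟩ := hx.ord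
  obtain ⟨y, y1, y0, y2⟩ := exists_fix_of_pgroup hL (W := D'.perp (K ∙ v)) (fun h0 => by
    rw [h0, finrank_bot] at h3; omega) fun g hg y hy => D'.mem_perp_span_singleton.2 (h.perp_map g
      (fun a => ⟨a, (h1 _ (L.inv_mem hg)).2 a⟩) (D'.mem_perp_span_singleton.1 hy))
  rw [mem_perp_span_singleton] at y1
  let U : Submodule F V :=
    { carrier := {y | ∀ g ∈ L, g.1 y = y}
      add_mem' := fun h1 h2 g hg => by rw [map_add, h1 g hg, h2 g hg]
      zero_mem' := fun g _ => map_zero _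
      smul_mem' := fun c y h1 g hg => by rw [map_smul, h1 g hg] }
  have k0 : ∀ y ∈ U, x.1 y ∈ U ∧ x⁻¹.1 y ∈ U := fun y hy => ⟨fun g hg => by
    conv_rhs => rw [← hy _ (h2 g hg).2]
    simp [isom_mul_apply], fun g hg => by
    conv_rhs => rw [← hy _ (h2 g hg).1]
    simp [isom_mul_apply]⟩
  obtain ⟨τ, hτ⟩ := h.exists_tau hx.ns hx.mem hx.kl hx.fix
  have k1 : ∀ y ∈ U, D'.B v y = 0 → ∀ a : K, g.1 (a • y) = a • y := fun y hy y1 a => by
    by_cases y0 : y = 0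
    · simp [y0]
    by_cases h4 : ln F K y ≤ ln F K y ⊓ U
    · exact (h4 (smul_mem_ln a y)).2 g hg
    obtain ⟨c, rfl⟩ := mem_range_of_stable (b := τ) h.prime (T := ln F K y ⊓ U) ⟨self_mem_ln y, hy⟩ y0 (self_mem_ln y) h4
      fun u hu => ⟨ln_smul_mem hu.1 τ, by
        obtain ⟨b, rfl⟩ := mem_ln.1 hu.1
        rw [← hτ _ (by simp [y1])]
        exact U.add_mem (k0 _ hu.2).1 (k0 _ hu.2).2⟩
    exact (h.tau_not_mem hx.ns hx.mem hx.kl hx.fix s1 s2 hx.ne s4 hτ).elim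
  by_cases h4 : D'.Q y = 0
  · obtain ⟨f, H⟩ := exists_fr_of_perp h.nd' h.dim h.two y0 h4 hx.ns y1
    refine hZ y y0 h4 g (h1 g hg).1 fun z hz => ?_
    obtain ⟨a, b, rfl⟩ := H.dec_e hz
    rw [map_add, k1 y y2 y1, (h1 g hg).2]
  have h5 : D'.B v (x.1 y) = 0 := by rw [← hx.fix, h.kl_B hx.kl, y1]
  have h6 : LinearIndependent K ![y, x.1 y] := (LinearIndependent.pair_iff' y0).2 fun c hc => hx.ne (by
    have h6 := h.kl_Q hx.kl y
    rw [← hc, quad_Q_smul] at h6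
    have h7 := h.eq_one_of_fix (X.pow_mem hx.mem 2) (kl_pow hx.kl 2) hx.ns (pow_apply_of_fix hx.fix 2) y0 y1 (by
      rw [pow_apply_smul hx.kl hc.symm, mul_right_cancel₀ h4 (h6.trans (one_mul _).symm), one_smul])
    obtain ⟨j, hj⟩ := s1.odd_of_ne_two (by have := h.five; omega)
    rwa [hj, pow_succ, pow_mul, h7, one_pow, one_mul] at s2)
  have h7 : span K {y, x.1 y} = D'.perp (K ∙ v) := eq_of_le_of_finrank_eq (span_le.2 (by
    rintro _ (rfl | rfl) <;> exact D'.mem_perp_span_singleton.2 ‹_›)) (by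
      have := finrank_span_eq_card h6
      rw [Matrix.range_cons_cons_empty] at this
      rw [this]; simp; omega)
  refine isom_ext fun z => ?_
  obtain ⟨⟨_, hu⟩, ⟨_, hw⟩, rfl⟩ := (isOrthCompl_span_singleton (quad_B_ne_zero h.two hx.ns)).exists_add z
  obtain ⟨a, rfl⟩ := mem_span_singleton.1 hu
  obtain ⟨b, c, rfl⟩ := mem_span_pair.1 (h7.ge hw)
  rw [map_add, map_add, (h1 g hg).2, k1 y y2 y1, k1 _ (k0 y y2).1 h5, isom_one_apply]

theorem kl_of_fix {v : V} {x : D.isom} (hx : Tx D' X v x)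
    (hN : ∀ g ∈ X, KL K (g * x * g⁻¹).1 → g.1 ∈ nK F K V) {g : D.isom} (hg : g ∈ X)
    (g1 : ∀ a : K, g.1 (a • v) = a • v) : KL K g.1 := by
  have : Finite V := Module.finite_of_finite K
  have := finite_isom (D := D)
  obtain ⟨_, _⟩ := fin_of_fin F K
  obtain ⟨p, _⟩ := CharP.exists F
  have := Fact.mk (CharP.char_is_prime F p)
  have : CharP K p := charP_of_injective_algebraMap (algebraMap F K).injective p
  have v0 : v ≠ 0 := by rintro rfl; simpa using hx.ns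
  let C := X ⊓ D.fix (ln F K v)
  have c0 : ∀ {g : D.isom}, g ∈ C ↔ g ∈ X ∧ ∀ a : K, g.1 (a • v) = a • v := and_congr_right fun _ =>
    ⟨fun h a => h _ (smul_mem_ln a v), fun h y hy => by obtain ⟨a, rfl⟩ := mem_ln.1 hy; exact h a⟩
  let A : Subgroup C := { carrier := {g | KL K g.1.1}, one_mem' := fun _ _ => rfl, mul_mem' := kl_mul
                          inv_mem' := kl_inv }
  let W := (D'.perp (K ∙ v)).restrictScalars F
  let ρ₀ : C →* End F V := (LinearEquiv.automorphismGroup.toLinearMapMonoidHom.comp D.isom.subtype).comp C.subtype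
  have hW : ∀ g, ∀ y ∈ W, ρ₀ g y ∈ W := fun g y hy => D'.mem_perp_span_singleton.2 (h.perp_map g.1
      (fun a => ⟨a, (c0.1 g⁻¹.2).2 a⟩) (D'.mem_perp_span_singleton.1 hy))
  have c1 : ∀ g : C, g.1.1 v = v := fun g => by simpa using (c0.1 g.2).2 1
  obtain ⟨s, s1, s2, s3, s4⟩ := hx.ord
  have h3 := finrank_perp_span_singleton (quad_B_ne_zero h.two hx.ns)
  have h4 : finrank F W = finrank F K * 2 := by
    rw [show 2 = finrank K (D'.perp (K ∙ v)) by have := h.dim; omega, Module.finrank_mul_finrank]; rfl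
  refine HH.le_of_ti (C := ⊤) (A := A) le_top (fun a ha b hb => Subtype.ext
    (h.comm hx.ns a.2.1 ha (c1 a) b.2.1 hb (c1 b))) (x := ⟨x, c0.2 ⟨hx.mem, fun a => by rw [hx.kl, hx.fix]⟩⟩) hx.kl s1
    (Subtype.ext s2) (fun g _ g1 a y => comm_of_fix (hN g g.2.1 g1) v0 (c1 g) ((c0.1 g.2).2 a) y)
    (fun Y _ y1 y2 => HH.cent_of_small (HH.sub ρ₀ W hW) (fun g hg => Subtype.ext (isom_ext fun z => ?_)) s1 y1 y2
      (Subtype.ext s2) (fun Q q1 q2 => eq_bot_iff.2 fun k hk => Subtype.ext (h.eq_bot_of_pgroup hZ hx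
        (q1.map C.subtype) (by rintro _ ⟨k, -, rfl⟩; exact c0.1 k.2) ?_ ⟨k, hk, rfl⟩)) (by omega) fun q b hq h5 => ?_)
    (Subgroup.mem_top (⟨g, c0.2 ⟨hg, g1⟩⟩ : C))
  · obtain ⟨⟨_, hu⟩, ⟨w, hw⟩, rfl⟩ := (isOrthCompl_span_singleton (quad_B_ne_zero h.two hx.ns)).exists_add z
    obtain ⟨a, rfl⟩ := mem_span_singleton.1 hu
    rw [map_add, (c0.1 g.2).2]
    exact congrArg (fun k : End F W => a • v + (k ⟨w, hw⟩ : V)) hg
  · rintro _ ⟨k, hk, rfl⟩
    exact ⟨⟨_, (Subgroup.mem_normalizer_iff.1 q2 k).1 hk, rfl⟩,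
      ⟨_, (Subgroup.mem_normalizer_iff.1 (Subgroup.inv_mem _ q2) k).1 hk, rfl⟩⟩
  · rw [h4] at h5
    have h6 := (Nat.prime_dvd_prime_iff_eq Nat.prime_two hq).1 (Nat.prime_two.dvd_of_dvd_pow (h5 ▸ Dvd.intro_left _ rfl))
    have h7 := (Nat.prime_dvd_prime_iff_eq h.prime hq).1 (h.prime.dvd_of_dvd_pow (h5 ▸ Dvd.intro _ rfl))
    have := h.five
    omega

theorem mem_of_ext {e w f e' w' f' : V} (H : Fr D' e w f) (H' : Fr D' e' w' f') {g : D.isom} (hg : g ∈ X)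
    (g1 : ∀ a : K, ∃ b : K, g.1 (a • w) = b • w') : g.1 ∈ nK F K V := by
  obtain ⟨x, hx, -⟩ := h.exists_tx_hyp H
  obtain ⟨x', hx', -⟩ := h.exists_tx_hyp H'
  refine h.mem_of_tx_hyp hZ H hx hg (h.kl_of_fix hZ hx' (fun g => h.mem_of_tx_hyp hZ H' hx')
    (X.mul_mem (X.mul_mem hg hx.mem) (X.inv_mem hg)) fun a => ?_)
  obtain ⟨b, hb⟩ := inv_ln (by rintro rfl; simpa using H.ns) g1 a
  rw [isom_mul_apply, isom_mul_apply, hb, hx.kl, hx.fix, ← hb, isom_apply_inv]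

theorem mem_of_tx {v : V} {x : D.isom} (hx : Tx D' X v x) {g : D.isom} (hg : g ∈ X)
    (g1 : KL K (g * x * g⁻¹).1) : g.1 ∈ nK F K V := by
  obtain ⟨σ, hσ⟩ := h.exists_sl hx hg g1
  obtain ⟨w, z, H, h1⟩ := exists_ob h.nd' h.dim h.two hx.ns (neg_ne_zero.2 hx.ns)
  have e0 : v + z ≠ 0 := fun h0 => by simpa [H.tab, h.two, H.nv] using congrArg (D'.B v) h0
  have e1 : D'.Q (v + z) = 0 := by simp [quad_Q_add, h1, H.tab]
  have e2 : D'.B w (v + z) = 0 := by simp [H.tab]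
  obtain ⟨f, Hf⟩ := exists_fr_of_perp h.nd' h.dim h.two e0 e1 H.nw e2
  have k := fun a => hσ a w H.vw
  have h2 := h.sl_Q g σ k
  have h3 : D'.Q (g.1 w) ≠ 0 := by simpa [h2] using H.nw
  obtain ⟨t, t0, ht⟩ := (chi_eq_iff H.nw h3).1 (by
    rw [h2]
    by_cases h4 : IsSquare (D'.Q w)
    · rw [chi_of_isSquare h4, chi_of_isSquare (h4.map σ)]
    · rw [chi_of_not_isSquare h4, chi_of_not_isSquare fun h => h4 (by simpa using h.map σ.symm)])
  obtain ⟨n, hn⟩ := h.nd'.exists_map_of_Q_eq (a := t • w) (b := g.1 w) (smul_ne_zero t0 (by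
    rintro rfl; simpa using H.nw)) (by rintro h0; simp [h0] at h3) (by rw [ht, quad_Q_smul])
  obtain ⟨f', Hf'⟩ := exists_fr_of_perp h.nd' h.dim h.two (e := n.1 (v + z)) (n.1.map_ne_zero_iff.2 e0)
    (by rw [Q_isom, e1]) h3 (by rw [← hn, B_isom]; simp [H.tab])
  exact h.mem_of_ext hZ Hf Hf' hg fun a => ⟨_, k a⟩

theorem kl_of_fix' {v : V} (hv : D'.Q v ≠ 0) {g : D.isom} (hg : g ∈ X) (g1 : ∀ a : K, g.1 (a • v) = a • v) :
    KL K g.1 :=
  (h.exists_tx hv).elim fun _ hx => h.kl_of_fix hZ hx (fun _ => h.mem_of_tx hZ hx) hg g1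

omit hZ in
theorem ns_of_inv {t : D.isom} (ht : t ∈ X) (t1 : KL K t.1) (t2 : t * t = 1) (t3 : t ≠ 1) {v : V} (v0 : v ≠ 0)
    (hv : t.1 v = v) : D'.Q v ≠ 0 := fun h0 => by
  obtain ⟨f, hf⟩ := h.nd'.exists_isHyp h0 v0
  obtain ⟨a, ha⟩ := h.fix_eq ht t1 t3 v0 hv (y := f + t.1 f) (by rw [map_add, ← isom_mul_apply, t2, add_comm]; rfl)
  have h1 := h.kl_B t1 v f
  have h2 := congrArg (D'.B v) ha
  rw [hv] at h1
  rw [map_add, h1, hf.B_ef, map_smul, hf.B_ee, smul_zero] at h2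
  exact h.two (by linear_combination h2)

theorem mem_of_inv {t : D.isom} (ht : t ∈ X) (t1 : KL K t.1) (t2 : t * t = 1) (t3 : t ≠ 1) {g : D.isom}
    (hg : g ∈ X) (g1 : KL K (g * t * g⁻¹).1) : g.1 ∈ nK F K V := by
  obtain ⟨v, v0, hv⟩ := h.exists_fix ht t1
  obtain ⟨x, hx⟩ := h.exists_tx (h.ns_of_inv ht t1 t2 t3 v0 hv)
  refine h.mem_of_tx hZ hx hg (h.kl_of_fix' hZ (v := g.1 v) (h.ns_of_inv (X.mul_mem (X.mul_mem hg ht) (X.inv_mem hg))
    g1 (by simp [mul_assoc, ← mul_assoc t t, t2]) (by simpa) (by simpa) (by simp [isom_mul_apply, hv]))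
    (X.mul_mem (X.mul_mem hg hx.mem) (X.inv_mem hg)) fun a => ?_)
  have h1 := g1 a (g.1 v)
  simp only [isom_mul_apply, isom_inv_apply, hv] at h1
  obtain ⟨b, hb⟩ := h.fix_eq ht t1 t3 v0 hv (isom_inv_apply_eq.2 h1).symm
  rw [isom_mul_apply, isom_mul_apply, hb, hx.kl, hx.fix, ← hb, isom_apply_inv]

omit hZ in
theorem sing_of_unip {p : ℕ} [Fact p.Prime] [CharP K p] {u : D.isom} (hu : u ∈ X) (u1 : KL K u.1) (u2 : u ^ p = 1)
    (u3 : u ≠ 1) {v : V} (hv : u.1 v = v) : D'.Q v = 0 := by_contra fun h0 => by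
  have : Finite V := Module.finite_of_finite K
  have := finite_isom (D := D)
  have h3 := finrank_perp_span_singleton (quad_B_ne_zero h.two h0)
  obtain ⟨y, y1, y0, y2⟩ := exists_fix_of_pgroup (Core.isPGroup_zpowers_of_pow_eq_one (p := p) (x := u) (k := 1)
    (by rwa [pow_one])) (W := D'.perp (K ∙ v)) (fun h0 => by rw [h0, finrank_bot, h.dim] at h3; omega)
    fun g hg y hy => by
      obtain ⟨n, rfl⟩ := mem_powers_iff_mem_zpowers.2 hg
      rw [mem_perp_span_singleton] at hy ⊢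
      rw [← pow_apply_of_fix hv n, h.kl_B (kl_pow u1 n), hy]
  exact u3 (h.eq_one_of_fix hu u1 h0 hv y0 (D'.mem_perp_span_singleton.1 y1) (y2 u (Subgroup.mem_zpowers u)))

theorem mem_of_unip {p : ℕ} [Fact p.Prime] [CharP K p] {u : D.isom} (hu : u ∈ X) (u1 : KL K u.1) (u2 : u ^ p = 1)
    (u3 : u ≠ 1) {g : D.isom} (hg : g ∈ X) (g1 : KL K (g * u * g⁻¹).1) : g.1 ∈ nK F K V := by
  obtain ⟨v, v0, hv⟩ := h.exists_fix hu u1
  have h1 := X.mul_mem (X.mul_mem hg hu) (X.inv_mem hg)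
  have h2 : (g * u * g⁻¹).1 (g.1 v) = g.1 v := by simp [isom_mul_apply, hv]
  exact h.mem_of_sing hZ v0 (h.sing_of_unip hu u1 u2 u3 hv) (e' := g.1 v) (by simpa)
    (h.sing_of_unip h1 g1 (by rw [conj_pow, u2]; simp) (by simpa) h2) hg fun a =>
      h.fix_eq h1 g1 (by simpa) (by simpa) h2 (by simp [isom_mul_apply, u1 _ _, hv])

theorem le_nK : X ≤ (nK F K V).comap D.isom.subtype := fun g₀ hg₀ => by_contra fun h0 => by
  have : Finite V := Module.finite_of_finite K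
  have := finite_isom (D := D)
  obtain ⟨_, _⟩ := fin_of_fin F K
  have := Fintype.ofFinite F
  obtain ⟨p, _, n, hp, hn⟩ := FiniteField.card' F
  have := Fact.mk hp
  have : CharP K p := charP_of_injective_algebraMap (algebraMap F K).injective p
  obtain ⟨e, f, hef⟩ := Quad.exists_isHyp h.nd' h.dim.ge
  obtain ⟨w, H⟩ := exists_fr_of_hyp h.nd' h.dim hef
  have e0 := hef.e_ne_zero
  set N := X ⊓ (nK F K V).comap D.isom.subtype
  obtain ⟨χ, hχ⟩ : ∃ χ : N →* (K ≃ₐ[F] K), ∀ g a y, g.1.1 (a • y) = χ g a • g.1.1 y := by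
    choose χ hχ using fun g : N => exists_aut (F := F) (g := g.1.1) (W := (⊤ : Submodule K V))
      ((Submodule.ne_bot_iff _).2 ⟨e, mem_top, e0⟩) fun a => (g.2.2.1 a).imp fun _ hb y _ => hb y
    refine ⟨MonoidHom.mk' χ fun g k => AlgEquiv.ext fun a => smul_left_injective K
      (show (g * k).1.1 e ≠ 0 by simpa using e0) ?_, fun g a y => hχ g a y mem_top⟩
    simp only
    rw [← hχ _ _ _ mem_top]
    change g.1.1 (k.1.1 _) = _
    rw [hχ _ _ _ mem_top, hχ _ _ _ mem_top]; rfl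
  have hA : Nat.card (K ≃ₐ[F] K) = finrank F K := IsGalois.card_aut_eq_finrank F K
  have k0 : ∀ g : N, χ g = 1 → KL K g.1.1 := fun g hg a y => by rw [hχ, hg]; rfl
  have k1 : ∀ t ∈ N, t * t = 1 → KL K t.1 := fun t ht t1 => k0 ⟨t, ht⟩ (orderOf_eq_one_iff.1
    (Nat.eq_one_of_dvd_coprimes h.odd.coprime_two_right (hA ▸ orderOf_dvd_natCard _) (orderOf_dvd_of_pow_eq_one (by
      rw [← map_pow, pow_two, show (⟨t, ht⟩ * ⟨t, ht⟩ : N) = 1 from Subtype.ext t1, map_one]))))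
  obtain ⟨t, t1, t2, t3, t4, t5⟩ := h.exists_inv H
  have t6 : t * t = 1 := kl_ext H.dec (kl_mul t2 t2) (fun _ _ => rfl) (by
    simp [isom_mul_apply, t3, t2 _ _, t5, smul_smul, H.ns]) (by simp [isom_mul_apply, t4])
    (by simp [isom_mul_apply, t3, t2 _ _, t5, smul_smul, H.ns])
  have t7 : t ≠ 1 := by
    rintro rfl
    have := congrArg (D'.B w) t4
    rw [map_neg, isom_one_apply, quad_B_self] at this
    exact mul_ne_zero h.two (mul_ne_zero h.two H.ns) (by linear_combination this)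
  have t8 : t ∈ N := ⟨t1, t2.mem_nK⟩
  have h1 := HH.card_dvd_of_mul (N := N) (D := N ⊓ Transfer.cj g₀ N) (C := N ⊓ Subgroup.centralizer {t})
    inf_le_left inf_le_left fun k hk => by
      obtain ⟨d, d1, d2, d3⟩ := HH.exists_conj_inv (H := X) (N := N) inf_le_left (fun t ht t1 t2 g hg g1 =>
        ⟨hg, h.mem_of_inv hZ ht.1 (k1 t ht t1) t1 t2 hg (k1 _ g1 (by simp [mul_assoc, ← mul_assoc t t, t1]))⟩) hg₀
        (fun h => h0 h.2) t8 t6 t7 (N.mul_mem (N.mul_mem hk t8) (N.inv_mem hk)) (by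
          simp [mul_assoc, ← mul_assoc t t, t6]) (by simpa)
      refine ⟨d, ⟨d1, Transfer.mem_cj.2 d2⟩, N.mul_mem (N.inv_mem d1) hk, Subgroup.mem_centralizer_singleton_iff.2 ?_⟩
      calc _ = d⁻¹ * (k * t * k⁻¹) * k := by group
        _ = _ := by rw [← d3]; group
  obtain ⟨m, m1, m2⟩ := HH.card_dvd_of_ker (G := ↥(N ⊓ Subgroup.centralizer {t}))
    (χ.rangeRestrict.comp (Subgroup.inclusion inf_le_left)) hp fun u u1 u2 => Subtype.ext (by_contra fun u3 => by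
      have u4 : KL K u.1.1 := k0 _ (congrArg Subtype.val u1)
      have u5 : u.1 ^ p = 1 := congrArg Subtype.val u2
      obtain ⟨v, v0, hv⟩ := h.exists_fix t1 t2
      obtain ⟨c, hc⟩ := h.fix_eq t1 t2 t7 v0 hv (y := u.1.1 v) (by
        rw [← isom_mul_apply, ← Subgroup.mem_centralizer_singleton_iff.1 u.2.2, isom_mul_apply, hv])
      have := pow_apply_smul u4 hc p
      rw [u5, isom_one_apply] at this
      obtain rfl : c = 1 := HH.eq_one_of_pow_char (p := p) (n := 1) (smul_left_injective K v0 (by simpa using this.symm))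
      exact h.ns_of_inv t1 t2 t6 t7 v0 hv (h.sing_of_unip u.2.1.1 u4 u5 u3 (by simpa using hc)))
  let ψ : ↥(N ⊓ Transfer.cj g₀ N) →* N := ((MulAut.conj g₀⁻¹).toMonoidHom.comp (Subgroup.subtype _)).codRestrict N
    fun d => by simpa using Transfer.mem_cj.1 d.2.2
  obtain ⟨m', m1', m2'⟩ := HH.card_dvd_of_ker (G := ↥(N ⊓ Transfer.cj g₀ N))
    ((χ.rangeRestrict.comp (Subgroup.inclusion inf_le_left)).prod (χ.rangeRestrict.comp ψ)) hp fun u u1 u2 =>
      Subtype.ext (by_contra fun u3 =>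
      h0 ((nK F K V).inv_mem_iff.1 (h.mem_of_unip hZ u.2.1.1 (k0 _ (congrArg (fun x => x.1.1) u1))
        (congrArg Subtype.val u2) u3 (X.inv_mem hg₀) (k0 _ (congrArg (fun x => x.2.1) u1)))))
  choose u u1 u2 u3 u4 u5 using h.exists_u H
  have u6 : ∀ b (a : K) x, (u b).1 (a • x) = a • (u b).1 x := u2
  have u7 : ∀ a b, u (a + b) = u a * u b := fun a b =>
    kl_ext H.dec (u2 _) (kl_mul (u2 _) (u2 _)) (by rw [isom_mul_apply, u3, u3, u3]) (by
      rw [isom_mul_apply, u4, u4, map_add, u6, u3, u4]; module) (by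
      rw [isom_mul_apply, u5, u5, map_sub, map_sub, u6, u6, u3, u4, u5]; module)
  have u8 : ∀ b, χ ⟨u b, u1 _, (u2 _).mem_nK⟩ = 1 := fun b => AlgEquiv.ext fun a => smul_left_injective K e0 (by
    have := hχ ⟨u b, u1 _, (u2 _).mem_nK⟩ a e
    simp only [u6, u3] at this
    exact this.symm)
  let φ : Multiplicative K →* χ.ker := MonoidHom.mk' (fun b => ⟨⟨u b.toAdd, u1 _, (u2 _).mem_nK⟩, u8 _⟩) fun a b =>
    Subtype.ext (Subtype.ext (u7 _ _))
  have h2 := Subgroup.card_dvd_of_injective φ fun a b hab => by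
    have h2 : u a.toAdd = u b.toAdd := congrArg (fun x => x.1.1) hab
    have h3 := u4 a.toAdd
    rw [h2, u4, add_right_inj] at h3
    exact Multiplicative.toAdd.injective (mul_left_cancel₀ h.two (mul_right_cancel₀ H.ns
      (smul_left_injective K e0 h3))).symm
  rw [Nat.card_prod] at m2'
  rw [Nat.card_congr Multiplicative.toAdd, Module.natCard_eq_pow_finrank (K := F), Nat.card_eq_fintype_card, hn,
    ← pow_mul] at h2
  have hc := χ.range.card_subgroup_dvd_card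
  have c0 : 0 < Nat.card χ.range := Nat.card_pos
  rw [hA] at hc
  rw [← χ.ker.card_mul_index, Subgroup.index_ker] at h1
  generalize Nat.card χ.range = c at *
  have h3 : p ^ 3 ∣ finrank F K ^ 2 := by
    have h3 := (Nat.mul_dvd_mul_right ((pow_dvd_pow p (show 3 ≤ n * finrank F K by
      have := h.five; have := n.pos; nlinarith)).trans h2) c).trans (h1.trans (mul_dvd_mul m2' m2))
    rw [show m' * (c * c) * (m * c) = m' * m * c ^ 2 * c by ring, Nat.mul_dvd_mul_iff_right c0] at h3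
    exact ((Nat.Coprime.pow_left 3 ((hp.coprime_iff_not_dvd.2 m1').mul_right
      (hp.coprime_iff_not_dvd.2 m1))).dvd_of_dvd_mul_left h3).trans (pow_dvd_pow_of_dvd hc 2)
  rw [← (Nat.prime_dvd_prime_iff_eq hp h.prime).1 (hp.dvd_of_dvd_pow ((dvd_pow_self p three_ne_zero).trans h3)),
    Nat.pow_dvd_pow_iff_le_right hp.one_lt] at h3
  omega

end C3Q

end Cfsg.Lib.Forms
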