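import Cfsg.Agent.Lib.C7O.Pb

/-!
# Overgroups of `O₃(q^r)`, `r ≥ 3`
-/

set_option autoImplicit false

namespace Cfsg.Lib.Forms

open Module Form Submodule

variable {F K V : Type*} [Field F] [Field K] [Algebra F K] [AddCommGroup V] [Module F V]
  [Module K V] [IsScalarTower F K V] [FiniteDimensional F V] [FiniteDimensional K V] [Fintype K]
  {D : Form (quadKind F) V} {D' : Form (quadKind K) V} {X : Subgroup D.isom}

namespace C3Q

variable (h : C3Q D' X)
include h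

section
omit [FiniteDimensional K V] [IsScalarTower F K V]

omit [Fintype K] in
theorem two' : (2 : F) ≠ 0 := fun h2 => h.two (by rw [← map_ofNat (algebraMap F K) 2, h2, map_zero])

omit [Fintype K] in
theorem Q_eq (x : V) : D.Q x = Algebra.trace F K (D'.Q x) := mul_left_cancel₀ h.two' (by
  rw [← quad_B_self, h.B, quad_B_self, two_mul, map_add, two_mul])

omit [Fintype K] in
theorem Q_smul {e : V} (he : D'.Q e = 0) (a : K) : D.Q (a • e) = 0 := by rw [h.Q_eq, D'.Q_smul_of_Q he, map_zero]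

theorem B_fix {g : D.isom} {x : V} (H : ∀ a : K, g.1 (a • x) = a • x) (y : V) : D'.B x (g.1 y) = D'.B x y := by
  have h1 : g.1 x = x := by simpa using H 1
  simpa [h1] using h.sl_B g 1 (x := x) (fun a => by rw [H, h1]; rfl) y

theorem z_pgroup {e w f : V} (H : Fr D' e w f) {p : ℕ} [CharP K p] : IsPGroup p (zg D' X e) := fun g => ⟨1, by
  refine Subtype.ext (isom_ext fun y => ?_)
  obtain ⟨c, hc⟩ := H.dec_ew h.two (y := g.1.1 y - y)
    (by rw [map_sub, h.B_fix fun a => g.2.2 _ (by simp [H.tab]), sub_self])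
    (by rw [map_sub, h.B_fix fun a => g.2.2 _ (by simp [H.tab]), sub_self])
  have : ∀ n : ℕ, (g.1 ^ n).1 y = y + ((n : K) * c) • e := fun n => by
    induction n with
    | zero => simp [isom_one_apply]
    | succ n ih =>
      rw [pow_succ', isom_mul_apply, ih, map_add, g.2.2 (_ • e) (by simp [H.tab]), sub_eq_iff_eq_add.1 hc]
      push_cast; module
  simpa [isom_one_apply] using this p⟩

omit [Fintype K] in
theorem z_conj {e e' : V} {n : D.isom} (hn : n ∈ X) (h1 : ∀ y, D'.B e' y = 0 → D'.B e (n⁻¹.1 y) = 0) {g : D.isom}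
    (hg : g ∈ zg D' X e) : n * g * n⁻¹ ∈ zg D' X e' := ⟨X.mul_mem (X.mul_mem hn hg.1) (X.inv_mem hn), fun y hy => by
  rw [isom_mul_apply, isom_mul_apply, hg.2 _ (h1 y hy), isom_apply_inv]⟩

end

theorem z_ne {e e' : V} (h0 : e ≠ 0) (h1 : D'.Q e = 0) (h0' : e' ≠ 0) (h1' : D'.Q e' = 0) (H : zg D' X e ≠ ⊥) :
    zg D' X e' ≠ ⊥ := fun h2 => H (eq_bot_iff.2 fun g hg => by
  obtain ⟨n, n1, n2, c, n3⟩ := h.exists_trans h0' h1' h0 h1
  simpa using h2.le (h.z_conj n1 (fun y hy => by rw [← h.kl_B n2, n3, isom_apply_inv]; simp [hy]) hg))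

omit [FiniteDimensional K V] in
theorem z_fix {e w f : V} (H : Fr D' e w f) (hz : zg D' X e ≠ ⊥) {y : V} (hy : ∀ g ∈ zg D' X e, g.1 y = y) :
    D'.B e y = 0 := by
  obtain ⟨_, _⟩ := fin_of_fin F K
  let U : Submodule F V :=
    { carrier := {y | ∀ g ∈ zg D' X e, g.1 y = y}
      add_mem' := fun h1 h2 g hg => by rw [map_add, h1 g hg, h2 g hg]
      zero_mem' := fun g _ => map_zero _
      smul_mem' := fun c y h1 g hg => by rw [map_smul, h1 g hg] }
  obtain ⟨α, β, γ, rfl⟩ := H.dec y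
  by_contra h0
  have k : ∀ a : K, ∃ c, algebraMap F K c = a ^ 2 := fun a => by
    by_cases a0 : a = 0
    · exact ⟨0, by simp [a0]⟩
    obtain ⟨t, t1, t2, t3, t4, t5⟩ := h.exists_tor H (inv_ne_zero a0)
    refine mem_range_of_stable h.prime (T := ln F K f ⊓ U) (t := γ • f) (v := f) ⟨smul_mem_ln _ _, fun g hg => ?_⟩
      (by rintro h1; simp [h1, H.tab] at h0) (smul_mem_ln _ _) (fun h1 => hz (eq_bot_iff.2 fun g hg => isom_ext fun y => ?_))
      fun u hu => ⟨ln_smul_mem hu.1 _, fun g hg => ?_⟩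
    · simpa [hg.2 (α • e + β • w) (by simp [H.tab])] using (map_add g.1 _ _).symm.trans (hy g hg)
    · obtain ⟨α, β, γ, rfl⟩ := H.dec y
      rw [map_add, hg.2 _ (by simp [H.tab]), (h1 (smul_mem_ln γ f)).2 g hg, isom_one_apply]
    obtain ⟨b, rfl⟩ := mem_ln.1 hu.1
    have := hu.2 _ (h.z_conj (n := t⁻¹) (e' := e) (X.inv_mem t1) (fun y hy => by
      obtain ⟨a, b, rfl⟩ := H.dec_e hy
      simp [t2 _ _, t3, t4, H.tab]) hg)
    rw [isom_mul_apply, isom_mul_apply, isom_inv_apply_eq, inv_inv, t2, t5] at this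
    rw [smul_comm]
    simpa using this.symm
  obtain ⟨b, hb⟩ := exists_not_mem_range (F := F) (K := K) h.prime.one_lt
  obtain ⟨c, hc⟩ := k b
  obtain ⟨d, hd⟩ := k (b + 1)
  have := h.two
  exact hb ((d - c - 1) / 2) (by simp [hc, hd, map_ofNat]; field_simp; ring)

theorem no_swap {e w f : V} (H : Fr D' e w f) {j : D.isom} (hj : j ∈ X) (j1 : ∀ a : K, j.1 (a • w) = a • w)
    (j2 : ∀ a : K, ∃ b : K, j.1 (a • e) = b • f) : False := by
  have h1 := isOrthCompl_span_singleton (quad_B_ne_zero h.two H.ns)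
  have h2 : D.IsOrthCompl ((D'.perp (K ∙ w)).restrictScalars F) (ln F K w) :=
    ⟨⟨Submodule.disjoint_def.2 fun x h2 h3 => Submodule.disjoint_def.1 h1.compl.disjoint x h3 h2,
      codisjoint_iff.2 (eq_top_iff.2 fun x _ => by
        obtain ⟨a, b, rfl⟩ := h1.exists_add x
        exact add_mem (mem_sup_right a.2) (mem_sup_left b.2))⟩,
      fun x hx y hy => by rw [h.B, D'.eq_zero_symm (hy x hx), map_zero]⟩
  obtain ⟨k, rfl⟩ := (range_extend h2 h.nd).ge (show j ∈ D.fix (ln F K w) from fun y hy => by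
    obtain ⟨a, rfl⟩ := mem_ln.1 hy; exact j1 a)
  have h3 : ln F K e ≤ (D'.perp (K ∙ w)).restrictScalars F := fun y hy => by
    obtain ⟨a, rfl⟩ := mem_ln.1 hy
    exact D'.mem_perp_span_singleton.2 (by simp [H.tab])
  have h4 := (comapSubtypeEquivOfLe h3).finrank_eq.trans (finrank_ln H.hyp.e_ne_zero)
  have h5 := finrank_perp_span_singleton (quad_B_ne_zero h.two H.ns)
  have h6 := IsTS.dickson_eq (h2.nondeg_left h.nd) (good_of_two_ne_zero h.two')
    (U := (ln F K e).comap (Submodule.subtype _)) (isTS_quad fun u hu => by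
      obtain ⟨a, ha⟩ := mem_ln.1 (mem_comap.1 hu)
      exact (congrArg D.Q ha).symm.trans (h.Q_smul H.hyp.Q_e a)) (by
        rw [h4, show 2 = finrank K (D'.perp (K ∙ w)) by have := h.dim; omega, mul_comm, Module.finrank_mul_finrank]
        rfl) k
  rw [← dickson_extend h.nd h2, h.dk _ hj, h4, (Submodule.eq_bot_iff (_ ⊓ _)).2 ?_, finrank_bot, add_zero,
    h.odd.neg_one_pow] at h6
  · exact absurd h6 (by decide)
  rintro x ⟨h7, y, h8, rfl⟩
  obtain ⟨a, ha⟩ := mem_ln.1 (mem_comap.1 h7)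
  obtain ⟨b, hb⟩ := mem_ln.1 (mem_comap.1 h8)
  obtain ⟨c, hc⟩ := j2 b
  rw [show b • e = y.1 from hb, extend_apply_left] at hc
  have h9 : a • e = c • f := ha.trans hc
  obtain rfl : a = 0 := by simpa [H.tab] using congrArg (D'.B f) h9
  exact Subtype.ext (by simpa using ha.symm)

theorem exists_j {e w f : V} (H : Fr D' e w f) (hz : zg D' X e ≠ ⊥) : ∃ j ∈ X, (∀ a : K, j.1 (a • w) = a • w) ∧
    ∃ α : End F K, (∀ a, j.1 (a • e) = α a • e) ∧ ¬ ∀ a, α a = a * α 1 := by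
  have : Finite V := Module.finite_of_finite K
  have := finite_isom (D := D)
  obtain ⟨p, _⟩ := CharP.exists K
  have := Fact.mk (CharP.char_is_prime K p)
  have e0 := H.hyp.e_ne_zero
  let C := X ⊓ D.fix (ln F K w)
  have c0 : ∀ {g : D.isom}, g ∈ C ↔ g ∈ X ∧ ∀ a : K, g.1 (a • w) = a • w := and_congr_right fun _ =>
    ⟨fun h a => h _ (smul_mem_ln a w), fun h y hy => by obtain ⟨a, rfl⟩ := mem_ln.1 hy; exact h a⟩
  have c1 : ∀ {e f}, Fr D' e w f → zg D' X e ≤ C := fun H g hg => c0.2 ⟨hg.1, fun a => hg.2 _ (by simp [H.tab])⟩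
  obtain ⟨S, s1, s2⟩ := Transfer.exists_sylowIn_ge (h.z_pgroup H (p := p)) (c1 H)
  rcases s1.eq_or_lt with rfl | s1
  · obtain ⟨c, h1, h2⟩ := s2.exists_cj_le (h.z_pgroup H.symm) (c1 H.symm)
    replace h1 := c0.1 (C.inv_mem h1)
    refine (h.no_swap H h1.1 h1.2 fun a => H.symm.dec_ew h.two (h.z_fix H.symm (h.z_ne e0 H.hyp.Q_e H.hyp.f_ne_zero
      H.hyp.Q_f hz) fun g hg => ?_) (by rw [h.B_fix h1.2]; simp [H.tab])).elim
    conv_rhs => rw [← (Transfer.cj_le_iff.1 h2 g hg).2 (a • e) (by simp [H.tab])]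
    simp [isom_mul_apply]
  obtain ⟨j, ⟨j1, j2⟩, j3⟩ := SetLike.exists_of_lt (Transfer.lt_inf_normalizer s2.isPGroup s1)
  obtain ⟨j4, j5⟩ := c0.1 (s2.le j1)
  choose α hα using fun a : K => H.dec_ew h.two (y := j.1 (a • e)) (h.z_fix H hz fun g hg => by
    conv_rhs => rw [← ((Subgroup.mem_normalizer_iff.1 (Subgroup.inv_mem _ j2) g).1 hg).2 (a • e) (by simp [H.tab])]
    simp [isom_mul_apply]) (by rw [h.B_fix j5]; simp [H.tab])
  refine ⟨j, j4, j5, { toFun := α
                       map_add' := fun a b => smul_left_injective K e0 (by simp only [add_smul, ← hα, map_add])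
                       map_smul' := fun c a => smul_left_injective K e0 (by
                        simp only [smul_assoc, ← hα, map_smul, RingHom.id_apply]) }, hα, fun h1 => j3 ⟨j4, fun y hy => ?_⟩⟩
  obtain ⟨n, hn⟩ := s2.isPGroup ⟨j, j1⟩
  have h2 : ∀ n : ℕ, (j ^ n).1 e = α 1 ^ n • e := fun n => by
    induction n with
    | zero => simp [isom_one_apply]
    | succ n ih => rw [pow_succ', isom_mul_apply, ih, hα, pow_succ]; exact congrArg (· • e) (h1 _)
  have h3 : α 1 = 1 := HH.eq_one_of_pow_char (p := p) (n := n) (smul_left_injective K e0 (by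
    simp only [← h2, show j ^ p ^ n = 1 from congrArg Subtype.val hn, one_smul]; rfl))
  obtain ⟨a, b, rfl⟩ := H.dec_e hy
  rw [map_add, j5, hα, show α a = a from (h1 a).trans (by rw [← mul_one a, mul_assoc, one_mul]; exact congrArg _ h3)]

theorem exists_Q {e w f : V} (H : Fr D' e w f) (hz : zg D' X e ≠ ⊥) (l : End F K) :
    ∃ g ∈ X, (∀ a : K, g.1 (a • e) = a • e) ∧ ∀ m : K, g.1 (m • w) = m • w + l m • e := by
  let L : AddSubgroup (End F K) :=
    { carrier := {l | ∃ g ∈ X, (∀ a : K, g.1 (a • e) = a • e) ∧ ∀ m : K, g.1 (m • w) = m • w + l m • e}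
      zero_mem' := ⟨1, X.one_mem, fun _ => rfl, fun _ => by simp [isom_one_apply]⟩
      add_mem' := fun ⟨g, g1, g2, g3⟩ ⟨k, k1, k2, k3⟩ => ⟨g * k, X.mul_mem g1 k1, fun a => by
        rw [isom_mul_apply, k2, g2], fun m => by rw [isom_mul_apply, k3, map_add, g2, g3, LinearMap.add_apply]; module⟩
      neg_mem' := fun ⟨g, g1, g2, g3⟩ => ⟨g⁻¹, X.inv_mem g1, fun a => isom_inv_apply_eq.2 (g2 a), fun m =>
        isom_inv_apply_eq.2 (by rw [map_add, g2, g3, LinearMap.neg_apply]; module)⟩ }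
  have k0 : ∀ j ∈ X, (∀ a : K, j.1 (a • w) = a • w) → ∀ α : End F K, (∀ a, j.1 (a • e) = α a • e) →
      ∀ l ∈ L, α * l ∈ L := fun j j1 j2 α j3 l ⟨g, g1, g2, g3⟩ =>
    ⟨j * g * j⁻¹, X.mul_mem (X.mul_mem j1 g1) (X.inv_mem j1), fun a => by
      obtain ⟨b, hb⟩ := inv_ln H.hyp.e_ne_zero (fun a => ⟨_, j3 a⟩) a
      rw [isom_mul_apply, isom_mul_apply, hb, g2, ← hb, isom_apply_inv], fun m => by
      rw [isom_mul_apply, isom_mul_apply, isom_inv_apply_eq.2 (j2 m), g3, map_add, j2, j3]; rfl⟩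
  have k1 : ∀ a : K, ∀ l ∈ L, LinearMap.mulLeft F (a ^ 2) * l ∈ L := fun a l hl => by
    by_cases a0 : a = 0
    · simp [a0, L.zero_mem]
    obtain ⟨t, t1, t2, t3, t4, -⟩ := h.exists_tor H a0
    exact k0 t t1 (fun a => by rw [t2, t4]) _ (fun b => by rw [t2, t3, smul_smul, mul_comm]; rfl) l hl
  have k2 : ∀ a : K, ∀ l ∈ L, LinearMap.mulLeft F a * l ∈ L := fun a l hl => by
    convert L.sub_mem (k1 ((a + 1) / 2) l hl) (k1 ((a - 1) / 2) l hl) using 1
    have := h.two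
    ext x; simp; field_simp; ring
  let S : Subalgebra F (End F K) :=
    { carrier := {β | ∀ l ∈ L, β * l ∈ L}
      mul_mem' := fun h1 h2 l hl => by rw [mul_assoc]; exact h1 _ (h2 l hl)
      add_mem' := fun h1 h2 l hl => by rw [add_mul]; exact L.add_mem (h1 l hl) (h2 l hl)
      algebraMap_mem' := fun c l hl => by
        convert k2 (algebraMap F K c) l hl using 2
        ext x; simp [Algebra.smul_def] }
  obtain ⟨j, j1, j2, α, j3, j4⟩ := h.exists_j H hz
  obtain ⟨u, u1, u2, u3, u4, -⟩ := h.exists_u H (2 * D'.Q w)⁻¹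
  have := h.two
  have := H.ns
  exact eq_top_of_not_kl h.prime S k2 (k0 j j1 j2 α j3) j4 l 1 ⟨u, u1, fun a => by rw [u2, u3], fun m => by
    rw [u2, u4, End.one_apply]; match_scalars <;> field_simp⟩

theorem mem_zSet {e w f : V} (H : Fr D' e w f) (hz : zg D' X e ≠ ⊥) (c c' : K) :
    c' • e ∈ zSet X (c • e) (h.Q_smul H.hyp.Q_e c) := by
  have k : ∀ c m : K, ∃ g ∈ X, (∀ y, D'.B e (g.1 y - y) = 0) ∧
      ∀ z, D'.B e z = 0 → g.1 z = z + D.B (m • w) z • c • e := fun c m => by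
    obtain ⟨g, g1, g2, g3⟩ := h.exists_Q H hz
      ((D.B (m • w) ∘ₗ (LinearMap.toSpanSingleton K V w).restrictScalars F).smulRight c)
    refine ⟨g, g1, fun y => by rw [map_sub, h.B_fix g2, sub_self], fun z hz => ?_⟩
    obtain ⟨a, b, rfl⟩ := H.dec_e hz
    rw [map_add, g2, g3, map_add, h.B _ (a • e)]
    simp [H.tab, add_assoc]
  obtain ⟨m, hm⟩ : ∃ m : K, D.B (m • w) w = -1 := by
    obtain ⟨a, ha⟩ := DFunLike.ne_iff.1 (tr_ne F K)
    refine ⟨(-(Algebra.trace F K a)⁻¹ • a) / (2 * D'.Q w), ?_⟩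
    rw [h.B, B_smul_left, quad_B_self, RingHom.id_apply, div_mul_cancel₀ _ (mul_ne_zero h.two H.ns), map_smul]
    simp [inv_mul_cancel₀ ha]
  obtain ⟨g, g1, g2, g3⟩ := k c m
  obtain ⟨g', g1', g2', g3'⟩ := k c' 1
  rw [one_smul] at g3'
  have b0 : ∀ a b : K, D.B (a • w) (b • e) = 0 := fun a b => by simp [h.B, H.tab]
  have b1 : ∀ b : K, D.B w (b • e) = 0 := fun b => by simp [h.B, H.tab]
  have b2 : ∀ (a : K) z, D'.B e z = 0 → D.B (a • e) z = 0 := fun a z hz => by simp [h.B, hz]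
  have hE : D.IsEich (c • e) (c' • e) (D.Q (c' • e)) := isEich_quad (h.Q_smul H.hyp.Q_e c) (b2 _ _ (by simp [H.tab]))
  refine ⟨_, hE, (X.mul_mem_cancel_right (X.mul_mem g1' g1)).1 ?_⟩
  convert X.mul_mem g1 g1' using 1
  refine isom_ext fun y => ?_
  have e1 : ∀ a : K, D.B (a • e) (g'.1 (g.1 y)) = D.B (a • e) y := fun a => by
    have h1 := b2 a _ (g2' (g.1 y))
    have h2 := b2 a _ (g2 y)
    rw [map_sub] at h1 h2
    linear_combination h1 + h2
  have e2 : D.B (m • w) (g'.1 y - y) = D.B (c' • e) y := by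
    rw [map_sub, B_isom_right, isom_inv_apply_eq.2 (show g'.1 (m • w + c' • e) = m • w by
      rw [g3' _ (by simp [H.tab]), map_add, b1, quad_symm, hm]; module)]
    simp
  have e3 : D.B w (g.1 y - y) = D.B (c • e) y := by
    rw [map_sub, B_isom_right, isom_inv_apply_eq.2 (show g.1 (w + c • e) = w by
      rw [g3 _ (by simp [H.tab]), map_add, b0, hm]; module)]
    simp
  have e4 := g3 _ (g2' y)
  have e5 := g3' _ (g2 y)
  rw [e2, map_sub] at e4
  rw [e3, map_sub] at e5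
  rw [isom_mul_apply, isom_mul_apply, isom_mul_apply, eich_apply, e1, e1, h.Q_smul H.hyp.Q_e]
  simp only [quadKind_ε]
  linear_combination (norm := module) e5 - e4

theorem at_top {e w f : V} (H : Fr D' e w f) (hz : zg D' X e ≠ ⊥) {c : K} : D.At X ⊤ (c • e) := by
  obtain ⟨_, _⟩ := fin_of_fin F K
  have hf := h.z_ne H.hyp.e_ne_zero H.hyp.Q_e H.hyp.f_ne_zero H.hyp.Q_f hz
  have k1 : ∀ c' : K, Algebra.trace F K (c * c') = 0 → c' • f ∈ zSet X (c • e) (h.Q_smul H.hyp.Q_e c) := fun c' hc => by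
    obtain ⟨a, a1, a2⟩ : ∃ a : K, Algebra.trace F K (c' * a) = 0 ∧ a • e ∉ F ∙ c • e := by
      by_contra! h1
      have h2 := finrank_le_inf_ker (ln F K e) (D.B (c' • f))
      have h3 := finrank_mono (show ln F K e ⊓ LinearMap.ker (D.B (c' • f)) ≤ F ∙ c • e from fun x hx => by
        obtain ⟨a, rfl⟩ := mem_ln.1 hx.1
        exact h1 a (by simpa [h.B, H.tab, mul_comm] using hx.2))
      have h4 := finrank_span_singleton_le (F := F) (c • e)
      have := h.five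
      rw [finrank_ln H.hyp.e_ne_zero] at h2
      omega
    obtain ⟨z, z1, z2⟩ := h.nd.exists_perp_B_eq a2 1
    rw [mem_perp_span_singleton, h.B, B_smul_left] at z1
    rw [quad_symm, h.B, B_smul_left] at z2
    generalize D'.B e z = b at z1 z2
    obtain ⟨d, hd, hρ⟩ := h.mem_zSet H.symm hf c' b
    simp only [RingHom.id_apply] at z1 z2
    simpa [eich_apply, h.B, H.tab, a1, z2, mul_comm b, mul_comm a c'] using sub_mem_zSet (h.mem_zSet H hz c a) hρ (by
      simp [eich_apply, h.B, H.tab, hc, z1, mul_comm b])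
  obtain ⟨c', -, c0, hc⟩ := exists_ne_zero_kers (⊤ : Submodule F K) [Algebra.trace F K ∘ₗ LinearMap.mulLeft F c]
    (by simpa using h.prime.one_lt)
  replace hc : Algebra.trace F K (c * c') = 0 := hc _ (List.mem_singleton_self _)
  refine at_of_zSet (he := h.Q_smul H.hyp.Q_e c) (fun z hz d hd => by
    obtain rfl := (Submodule.mem_bot F).1 hz
    rw [quad_eich_zero]; exact X.one_mem) fun y _ hy => ?_
  obtain ⟨α, β, γ, rfl⟩ := H.dec y
  refine add_mem (add_mem (h.mem_zSet H hz c α) ?_) (k1 γ (by simpa [h.B, H.tab, mul_comm] using hy))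
  obtain ⟨u, u1, u2, u3, -, u5⟩ := h.exists_u H (-β / c')
  convert add_mem (sub_mem_zSet (k1 c' hc) u1 (by rw [u2, u3])) (h.mem_zSet H hz c (c' * ((-β / c') ^ 2 * D'.Q w)))
    using 1
  rw [u2, u5]
  match_scalars <;> field_simp <;> ring

theorem E_le (H : ¬ X ≤ (nK F K V).comap D.isom.subtype) : D.E ≤ X := by
  obtain ⟨e, e0, e1, g, g1, g2, g3⟩ : ∃ e, e ≠ 0 ∧ D'.Q e = 0 ∧ ∃ g ∈ X, (∀ y, D'.B e y = 0 → g.1 y = y) ∧ g ≠ 1 := by
    by_contra! h1; exact H (h.le_nK h1)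
  have hz : zg D' X e ≠ ⊥ := fun h1 => g3 (h1.le ⟨g1, g2⟩)
  obtain ⟨w, f, H⟩ := exists_fr h.nd' h.dim e0 e1
  obtain ⟨a, ha⟩ := DFunLike.ne_iff.1 (tr_ne F K)
  exact At.E_le h.nd (h.at_top H hz (c := a)) (h.at_top H.symm (h.z_ne e0 e1 H.hyp.f_ne_zero H.hyp.Q_f hz) (c := 1))
    (h.Q_smul e1 _) (h.Q_smul H.hyp.Q_f _) (by simpa [h.B, H.tab] using ha)

end C3Q

open Cfsg.Geo in
theorem max_ext_orth3 {F : Type*} [Field F] [Fintype F] (hodd : Odd (Fintype.card F)) {ι : Type} [Fintype ι]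
    [DecidableEq ι] {r : ℕ} (hr : r.Prime) (hn : ∀ m, r * m = Fintype.card ι → 4 ≤ m ∨ m = 3 ∧ 3 ≤ r)
    (h0 : 0 < Fintype.card ι) {D : Form (quadKind F) (ι → F)} (hD : D.Nondeg) {K : Subalgebra F (Matrix ι ι F)}
    (hK : IsFieldSubalgebra r K) (hsa : IsSelfAdjointFor (QuadraticMap.polar D.Q) K) :
    IsMaximalIn (omegaGL D.Q) (subalgebraNormalizer K ⊓ omegaGL D.Q) := by
  have := Fintype.card_pos_iff.1 h0
  obtain ⟨E, _, _, _, _, _, _, e, h1, h2, h4, h4', h5', h3⟩ := exists_field hK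
  have h6 := hn _ h2
  have := hr.two_le
  have hn' : 5 ≤ finrank F (ι → F) := by
    rw [finrank_fintype_fun_eq_card, ← h2]
    rcases h6 with h | ⟨h, h'⟩ <;> nlinarith
  have hp : ∀ u v, QuadraticMap.polar D.Q u v = D.B u v := fun u v => by
    simp [QuadraticMap.polar, D.Q_add]; ring
  have k2 := two_ne_zero_of_odd_card rfl hodd
  have k3 : (2 : E) ≠ 0 := fun h => k2 ((algebraMap F E).injective (by rw [map_ofNat, h, map_zero]))
  have : Finite E := Module.finite_of_finite F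
  have := Fintype.ofFinite E
  have m0 := tr_ne F E
  obtain ⟨β, hβ⟩ := exists_lift m0 D.B (RingHom.id E) fun a u v => by
    rw [RingHom.id_apply, h5', h5', ← hp, ← hp, hsa _ (h4 a)]
  have k4 : ∀ x y, β x y = β y x := fun x y => sub_eq_zero.1 (eq_zero_of_comp m0 fun c => by
    rw [mul_sub, map_sub, ← smul_eq_mul, ← smul_eq_mul, ← map_smul, ← hβ, quad_symm, hβ, map_smul, sub_eq_zero]; rfl)
  let D' := ofSymm ((2 : E)⁻¹ • β) (by simpa using fun x y => Or.inl (k4 x y))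
  have hB : ∀ x y, D.B x y = Algebra.trace F E (D'.B x y) := fun x y => by simp [D', ofSymm, hβ, k3]
  have hQ : ∀ x, D.Q x = Algebra.trace F E (D'.Q x) := fun x => mul_left_cancel₀ k2 (by
    rw [← quad_B_self, hB, quad_B_self, two_mul, map_add, two_mul])
  have hD' : D'.Nondeg := fun x hx => hD x fun y => by rw [hB, hx, map_zero]
  have h7 := hD.commutator_eq_E (good_of_two_ne_zero k2) (by omega)
  have h8 := fun g => hD.mem_commutator_iff (good_of_two_ne_zero k2) (g := g)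
  let φ := D'.resHom D fun g => ⟨fun x y => by rw [hB, hB, B_isom], fun x => by rw [hQ, hQ, Q_isom]⟩
  refine isMaximalIn_map' (omegaGL_eq hD hn') (S := (nK F E _).comap D.isom.subtype)
    (by rw [← h3]; rfl) toGL_injective (not_E_le_nK hD (Quad.sing _) (by omega) hn' (by omega)) fun X h9 h10 => ?_
  rcases h6 with h6 | ⟨h6, h5⟩
  · refine C3O.E_le ⟨hD, hD', k3, h1 ▸ hr, h6, m0, hB, hQ, fun k hk => ?_⟩
    refine ⟨φ k, h10 ⟨?_, KL.mem_nK fun a x => map_smul k.1 a x⟩, fun _ => rfl⟩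
    rw [← h7]
    exact map_mem_commutator φ (by rwa [hD'.commutator_eq_E (good_of_two_ne_zero k3) h6])
  refine C3Q.E_le ⟨hD, hD', k3, h1 ▸ hr, h1 ▸ h5, h6, hB, fun k => ?_, fun g hg => ((h8 g).1 (h7 ▸ h9 hg)).1⟩
  refine ⟨φ k * φ k, h10 ⟨h7 ▸ (h8 _).2 ⟨?_, ?_⟩, KL.mem_nK fun a x => map_smul (k * k).1 a x⟩, fun _ => rfl⟩ <;>
    rw [map_mul, Int.units_mul_self]

end Cfsg.Lib.Forms
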