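import Cfsg.Agent.Lib.C7O.H
import Cfsg.Agent.Lib.C7O.G
import Cfsg.Agent.Lib.Max.C3Pb

/-!
# `O₃ ≀ S₂` is maximal in `Ω₉`
-/

namespace Cfsg.Lib.Forms.TF.O3

open Module Form TensorProduct Ten Qd O4 C7O

variable {F U W : Type*} [Field F] [AddCommGroup U] [Module F U] [AddCommGroup W] [Module F W]
  {β : Form (quadKind F) U} {ω : Form (quadKind F) W} {g k : U ⊗[F] W ≃ₗ[F] U ⊗[F] W}

/-- Maps interchanging the factors. -/
def Sw (g : U ⊗[F] W ≃ₗ[F] U ⊗[F] W) : Prop :=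
  ∃ (φ : U ≃ₗ[F] W) (ψ : W ≃ₗ[F] U), ∀ u w, g (u ⊗ₜ w) = ψ w ⊗ₜ φ u

theorem Sw.inv (h : Sw g) : Sw g⁻¹ := by
  obtain ⟨φ, ψ, h⟩ := h
  exact ⟨ψ.symm, φ.symm, fun u w => g.injective (by simp [lin_apply_inv, h])⟩

variable (F U W) in
/-- The stabiliser of the tensor decomposition. -/
def NW : Subgroup (U ⊗[F] W ≃ₗ[F] U ⊗[F] W) where
  carrier := {g | g ∈ tens F U W ∨ Sw g}
  one_mem' := Or.inl (one_mem _)
  inv_mem' := fun h => h.imp inv_mem Sw.inv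
  mul_mem' := by
    rintro g k (h | ⟨φ, ψ, h⟩) (h' | ⟨φ', ψ', h'⟩)
    · exact Or.inl (mul_mem h h')
    · obtain ⟨a, b, h⟩ := exists_of_mem h
      exact Or.inr ⟨φ'.trans b, ψ'.trans a, fun u w => by simp [h, h']⟩
    · obtain ⟨a, b, h'⟩ := exists_of_mem h'
      exact Or.inr ⟨a.trans φ, b.trans ψ, fun u w => by simp [h, h']⟩
    · exact Or.inl (mem_tens (φ'.trans ψ) (ψ'.trans φ) fun u w => by simp [h, h'])

variable (F U W) in
/-- The two factors. -/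
def Fc (i : Bool) : Subgroup (U ⊗[F] W ≃ₗ[F] U ⊗[F] W) where
  carrier := {g | ∃ (a : U ≃ₗ[F] U) (b : W ≃ₗ[F] W), (if i then b = 1 else a = 1) ∧ ∀ u w, g (u ⊗ₜ w) = a u ⊗ₜ b w}
  one_mem' := ⟨1, 1, by simp, fun _ _ => rfl⟩
  mul_mem' := by
    rintro g k ⟨a, b, h1, h⟩ ⟨a', b', h1', h'⟩
    exact ⟨a * a', b * b', by cases i <;> simp_all, fun u w => by simp [h, h']⟩
  inv_mem' := by
    rintro g ⟨a, b, h1, h⟩
    exact ⟨a⁻¹, b⁻¹, by cases i <;> simp_all, fun u w => g.injective (by simp [lin_apply_inv, h])⟩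

theorem mem_left : g ∈ Fc F U W true ↔ ∃ a : U ≃ₗ[F] U, ∀ u w, g (u ⊗ₜ w) = a u ⊗ₜ w :=
  ⟨fun ⟨a, b, h1, h⟩ => ⟨a, by simp_all⟩, fun ⟨a, h⟩ => ⟨a, 1, rfl, h⟩⟩

theorem mem_right : g ∈ Fc F U W false ↔ ∃ b : W ≃ₗ[F] W, ∀ u w, g (u ⊗ₜ w) = u ⊗ₜ b w :=
  ⟨fun ⟨a, b, h1, h⟩ => ⟨b, by simp_all⟩, fun ⟨b, h⟩ => ⟨1, b, rfl, h⟩⟩

theorem fc_le (i : Bool) : Fc F U W i ≤ tens F U W := fun _ ⟨a, b, _, h⟩ => mem_tens a b h

theorem fc_comm (hg : g ∈ Fc F U W true) (hk : k ∈ Fc F U W false) : g * k = k * g := by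
  obtain ⟨a, ha⟩ := mem_left.1 hg
  obtain ⟨b, hb⟩ := mem_right.1 hk
  exact LinearEquiv.toLinearMap_injective (TensorProduct.ext' fun u w => by simp [ha, hb])

theorem fc_tens (hg : g ∈ tens F U W) {i : Bool} (hk : k ∈ Fc F U W i) : g * k * g⁻¹ ∈ Fc F U W i := by
  obtain ⟨c, d, h2⟩ := exists_of_mem hg
  obtain ⟨a, b, h1, h⟩ := hk
  refine ⟨c * a * c⁻¹, d * b * d⁻¹, by cases i <;> simp_all, fun u w => ?_⟩
  obtain ⟨u, rfl⟩ := c.surjective u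
  obtain ⟨w, rfl⟩ := d.surjective w
  rw [LinearEquiv.mul_apply, ← h2, lin_inv_apply]
  simp [h, h2, lin_inv_apply]

theorem fc_sw (hg : Sw g) {i : Bool} (hk : k ∈ Fc F U W i) : g * k * g⁻¹ ∈ Fc F U W (!i) := by
  obtain ⟨φ, ψ, h2⟩ := hg
  obtain ⟨a, b, h1, h⟩ := hk
  refine ⟨ψ.symm.trans (b.trans ψ), φ.symm.trans (a.trans φ), by
    cases i <;> simp only [Bool.not_true, Bool.not_false, reduceIte, Bool.false_eq_true] at h1 ⊢ <;> subst h1 <;> ext <;> simp,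
    fun u w => ?_⟩
  obtain ⟨u, rfl⟩ := ψ.surjective u
  obtain ⟨w, rfl⟩ := φ.surjective w
  rw [LinearEquiv.mul_apply, ← h2, lin_inv_apply]
  simp [h, h2]

variable [FiniteDimensional F U] [FiniteDimensional F W]

omit [FiniteDimensional F W] in
theorem mem_left_of [Nontrivial W] {a : U →ₗ[F] U} (h : ∀ u w, g (u ⊗ₜ w) = a u ⊗ₜ w) : g ∈ Fc F U W true := by
  obtain ⟨w, hw⟩ := exists_ne (0 : W)
  exact mem_left.2 ⟨.ofInjectiveEndo a ((injective_iff_map_eq_zero _).2 fun u hu =>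
    cu_injective hw (g.injective (by simp [h, hu]))), h⟩

omit [FiniteDimensional F U] in
theorem mem_right_of [Nontrivial U] {b : W →ₗ[F] W} (h : ∀ u w, g (u ⊗ₜ w) = u ⊗ₜ b w) : g ∈ Fc F U W false := by
  obtain ⟨u, hu⟩ := exists_ne (0 : U)
  exact mem_right.2 ⟨.ofInjectiveEndo b ((injective_iff_map_eq_zero _).2 fun w hw => by
    by_contra h1
    exact tmul_ne_zero hu h1 (g.injective (by simp [h, hw]))), h⟩

variable (h2 : (2 : F) ≠ 0) (hU : finrank F U = 3) (hW : finrank F W = 3)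
include h2 hU hW

theorem fc_of_inv (hg : g ∈ tens F U W) (h3 : g * g = 1) (h4 : rk ((g : U ⊗[F] W →ₗ[F] U ⊗[F] W) + 1) = 3) :
    ∃ i, g ∈ Fc F U W i := by
  have := Module.nontrivial_of_finrank_pos (R := F) (M := W) (by omega)
  have := Module.nontrivial_of_finrank_pos (R := F) (M := U) (by omega)
  obtain ⟨w₀, w0⟩ := exists_ne (0 : W)
  obtain ⟨v, v0⟩ := exists_ne (0 : U)
  obtain ⟨a, b, a2, hab⟩ : ∃ (a : U →ₗ[F] U) (b : W →ₗ[F] W), (∀ u, a (a u) = u) ∧ ∀ u w, g (u ⊗ₜ w) = a u ⊗ₜ b w := by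
    obtain ⟨a, b, hab⟩ := exists_of_mem hg
    obtain ⟨χ, hχ⟩ := exists_dual_one (F := F) (b.map_ne_zero_iff.2 (b.map_ne_zero_iff.2 w0))
    have a1 : ∀ u, a (a u) = χ w₀ • u := fun u => by simpa [hab, hχ] using congrArg (fun g => ctr U χ (g (u ⊗ₜ w₀))) h3
    have a2 := congrArg LinearMap.det (show (a : U →ₗ[F] U) ∘ₗ a = χ w₀ • LinearMap.id from LinearMap.ext a1)
    have a3 := (LinearEquiv.isUnit_det' a).ne_zero
    rw [LinearMap.det_comp, LinearMap.det_smul, hU, LinearMap.det_id] at a2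
    have c0 : χ w₀ ≠ 0 := fun h => by simp [h, a3] at a2
    generalize LinearMap.det (a : U →ₗ[F] U) = d at a2 a3
    refine ⟨(χ w₀ / d) • a, (d / χ w₀) • b, fun u => ?_, fun u w => ?_⟩
    · simp only [LinearMap.smul_apply, LinearEquiv.coe_coe, map_smul, a1, smul_smul]
      rw [show _ * _ = (1 : F) by field_simp; linear_combination -a2, one_smul]
    · simp [hab, smul_tmul', smul_smul, c0, a3]
  obtain ⟨ψ, hψ⟩ := exists_dual_one (F := F) v0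
  have b2 : ∀ w, b (b w) = w := fun w => by simpa [hab, a2, hψ] using congrArg (fun g => ctl W ψ (g (v ⊗ₜ w))) h3
  rw [show (g : U ⊗[F] W →ₗ[F] U ⊗[F] W) = map a b from TensorProduct.ext' hab, rk_inv h2 a2] at h4
  have r1 := rk_add_rk h2 a2
  have r2 := rk_add_rk h2 b2
  have : (rk (a + 1) = 0 ∨ rk (a - 1) = 0) ∨ rk (b + 1) = 0 ∨ rk (b - 1) = 0 := by
    generalize rk (a + 1) = s at *
    generalize rk (a - 1) = t at *
    have : s ≤ 3 := by omega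
    obtain rfl : t = 3 - s := by omega
    interval_cases s <;> omega
  rcases this with (s | s) | s | s <;> have s1 := eq_zero_of_rk s <;>
    simp only [LinearMap.add_apply, LinearMap.sub_apply, End.one_apply, add_eq_zero_iff_eq_neg, sub_eq_zero] at s1
  · exact ⟨_, mem_right_of (b := -b) fun u w => by simp [hab, s1, neg_tmul, tmul_neg]⟩
  · exact ⟨_, mem_right_of (b := b) fun u w => by simp [hab, s1]⟩
  · exact ⟨_, mem_left_of (a := -a) fun u w => by simp [hab, s1, neg_tmul, tmul_neg]⟩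
  · exact ⟨_, mem_left_of (a := a) fun u w => by simp [hab, s1]⟩

omit hU in
theorem sv_ne_one {v : U} (hv : β.Q v ≠ 0) (hU : 2 ≤ finrank F U) : sv W β v ≠ 1 := fun h => by
  have := rk_sv (W := W) h2 hv
  rw [h, show ((1 : U ⊗[F] W ≃ₗ[F] U ⊗[F] W) : U ⊗[F] W →ₗ[F] U ⊗[F] W) + 1 = (2 : F) • LinearMap.id by
    ext; simp [two_smul], rk, LinearMap.range_smul _ _ h2, LinearMap.range_id, finrank_top, finrank_tensorProduct] at this
  nlinarith

variable [Finite F] {X G : Subgroup (U ⊗[F] W ≃ₗ[F] U ⊗[F] W)} {D : Form (quadKind F) (U ⊗[F] W)} (h : St β ω D X G)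
  (hd : ∀ g : D.isom, g.1 ∈ X → dickson h.nD g = 1)
include h

omit h2 hU [Finite F] [FiniteDimensional F U] in
theorem left_isom (hg : g ∈ X) {a : U →ₗ[F] U} (ha : ∀ u w, g (u ⊗ₜ w) = a u ⊗ₜ w) (u u' : U) :
    β.B (a u) (a u') = β.B u u' := by
  have := Module.nontrivial_of_finrank_pos (R := F) (M := W) (by omega)
  obtain ⟨w₀, w0⟩ := exists_ne (0 : W)
  obtain ⟨w₁, w1⟩ := h.nω.exists_ne_zero w0
  exact mul_right_cancel₀ w1 (by rw [← h.B, ← h.B, ← ha, ← ha, h.B_map hg])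

include hd

omit [Finite F] in
theorem exists_sv (hg : g ∈ X) (h1 : g ∈ Fc F U W true) (h3 : g * g = 1) (h4 : g ≠ 1) : ∃ v, β.Q v ≠ 0 ∧ g = sv W β v := by
  have := Module.nontrivial_of_finrank_pos (R := F) (M := W) (by omega)
  obtain ⟨w₀, w0⟩ := exists_ne (0 : W)
  obtain ⟨a, ha⟩ := mem_left.1 h1
  have a2 : ∀ u, (a : U →ₗ[F] U) ((a : U →ₗ[F] U) u) = u := fun u => cu_injective (F := F) w0 (by
    simpa [ha] using congrArg (· (u ⊗ₜ w₀)) h3)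
  have r1 := rk_add_rk h2 a2
  have r2 := (dickson_eq_one_iff h.nD _).1 (hd ⟨g, h.le' (h.le hg)⟩ hg)
  change Even (finrank F (LinearMap.range ((g : U ⊗[F] W →ₗ[F] U ⊗[F] W) - 1))) at r2
  rw [show (g : U ⊗[F] W →ₗ[F] U ⊗[F] W) - 1 = map ((a : U →ₗ[F] U) - 1) LinearMap.id from TensorProduct.ext' fun u w => by
    simp [ha, sub_tmul], rk_map, LinearMap.range_id, finrank_top, hW, Nat.even_mul] at r2
  obtain ⟨m, hm⟩ : Even (rk ((a : U →ₗ[F] U) - 1)) := r2.resolve_right (by decide)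
  have r3 : rk ((a : U →ₗ[F] U) - 1) ≠ 0 := fun h0 => h4 (LinearEquiv.toLinearMap_injective (TensorProduct.ext' fun u w => by
    simp [ha, show a u = u by simpa [sub_eq_zero] using eq_zero_of_rk h0 u]))
  obtain ⟨t, t1, t2⟩ := exists_of_rk_one h.nβ h2 (left_isom hW h hg ha) a2 (by omega)
  exact ⟨t, t1, LinearEquiv.toLinearMap_injective (TensorProduct.ext' fun u w => by
    simp only [LinearEquiv.coe_coe, ha, sv_tmul, ← t2])⟩

theorem cen_left (hA : ∀ a ∈ β.E, congr a.1 1 ∈ X) (hg : g ∈ X) (h1 : g ∈ Fc F U W true)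
    (H : ∀ k ∈ X, k ∈ Fc F U W true → g * k = k * g) : g = 1 := by
  have := Module.nontrivial_of_finrank_pos (R := F) (M := W) (by omega)
  obtain ⟨w₀, w0⟩ := exists_ne (0 : W)
  obtain ⟨a, ha⟩ := mem_left.1 h1
  have i2 := left_isom hW h hg (a := a) ha
  simp only [LinearEquiv.coe_coe] at i2
  have k : ∀ e, β.Q e = 0 → e ≠ 0 → ∃ c : F, c • e = a e := fun e he e0 => by
    obtain ⟨w, f, hf⟩ := exists_fr h.nβ hU e0 he
    have hd := isEich_quad he hf.ew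
    have h5 : a e = (β.eich e w _ hd).1 (a e) := cu_injective (F := F) w0 (by
      simpa [ha, eich_apply_self] using congrArg (· (e ⊗ₜ w₀)) (H _ (hA _ (eich_mem_E _ _ _ hd))
        (mem_left.2 ⟨_, fun _ _ => rfl⟩)))
    refine mem_span_of_index (not_hasTS h.nβ hU) he e0 (mul_left_cancel₀ h2 (by
      rw [← quad_B_self, i2, quad_B_self, he])) ?_
    have h6 := congrArg (β.B w) h5
    simpa [eich_apply, hf.tab, hf.ns, h2, eq_comm (b := _ - _), sub_eq_self] using h6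
  obtain ⟨e, f, hf⟩ := Quad.exists_isHyp h.nβ hU.ge
  obtain ⟨w, hw⟩ := exists_fr_of_hyp h.nβ hU hf
  obtain ⟨c₁, c1⟩ := k e hf.Q_e hf.e_ne_zero
  obtain ⟨c₂, c2⟩ := k f hf.Q_f hf.f_ne_zero
  obtain ⟨c₃, c3⟩ := k (e + (-β.Q w) • f + w) (by simp [quad_Q_add, quad_Q_smul, hw.tab, hf.Q_e, hf.Q_f])
    fun h0 => by simpa [hw.tab] using congrArg (β.B f) h0
  have j1 := i2 e f
  have j2 := i2 e (e + (-β.Q w) • f + w)
  have j3 := i2 f (e + (-β.Q w) • f + w)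
  rw [← c3] at j2 j3
  simp only [← c1, ← c2, β.B_lin, hw.tab, RingHom.id_apply] at j1 j2 j3
  have j4 : c₁ * c₃ = 1 := mul_right_cancel₀ hw.ns (by linear_combination -j2)
  obtain rfl : c₂ = c₃ := by linear_combination c₃ * j1 - c₂ * j4
  obtain rfl : c₁ = c₂ := by linear_combination c₂ * j4 - c₁ * j3
  have j5 : ∀ u, a u = c₁ • u := fun u => by
    obtain ⟨x, y, z, rfl⟩ := hw.dec u
    simp only [map_add, map_smul, ← c1, ← c2] at c3 ⊢
    linear_combination (norm := module) (-y) • c3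
  by_contra h4
  obtain ⟨v, hv, rfl⟩ := exists_sv h2 hU hW h hd hg h1 (LinearEquiv.toLinearMap_injective (TensorProduct.ext' fun u w => by
    simp [ha, j5, smul_smul, j4])) h4
  have : a v = v := cu_injective (F := F) w0 ((ha v w₀).symm.trans (sv_self hv w₀))
  obtain rfl : c₁ = 1 := smul_left_injective F (show v ≠ 0 by rintro rfl; simp at hv) (by simpa [j5] using this)
  exact h4 (LinearEquiv.toLinearMap_injective (TensorProduct.ext' fun u w => by simp [ha, j5]))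

variable (hI : 5 ≤ Nat.card F) (hS : ∀ e t, ω.Q e = 0 → e ≠ 0 → ω.Q t = 0 → t ≠ 0 → ∀ g ∈ X,
    (∀ u, ∃ u', g (u ⊗ₜ t) = u' ⊗ₜ e) → g ∈ tens F U W)
include hI hS

omit hd in
theorem right_of_nil {v : U} (hv : β.Q v ≠ 0) (hg : g ∈ X) (h1 : g * sv W β v = sv W β v * g)
    (hn : IsNilpotent ((g : U ⊗[F] W →ₗ[F] U ⊗[F] W) - 1)) : ∃ b : W →ₗ[F] W, ∀ u w, g (u ⊗ₜ w) = u ⊗ₜ b w := by
  have := Module.nontrivial_of_finrank_pos (R := F) (M := W) (by omega)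
  have v0 : v ≠ 0 := by rintro rfl; simp at hv
  obtain ⟨w₀, w0⟩ := exists_ne (0 : W)
  obtain ⟨a, b, ha, hab⟩ : ∃ (a : U →ₗ[F] U) (b : W →ₗ[F] W), a v = v ∧ ∀ u w, g (u ⊗ₜ w) = a u ⊗ₜ b w := by
    obtain ⟨a, b, hab⟩ := exists_of_mem (mem_of_sv h h2 hU hW hI hS hv hv hg h1)
    obtain ⟨w', hw'⟩ := fix_sv h2 (β := β) (v := v) (y := g (v ⊗ₜ w₀)) (by
      simpa [sv_self hv] using (congrArg (· (v ⊗ₜ w₀)) h1).symm)
    rw [hab] at hw'
    obtain ⟨c, hc⟩ := mem_span_of_tmul' (b.map_ne_zero_iff.2 w0) hw'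
    have c0 : c ≠ 0 := by rintro rfl; exact v0 (by simpa using hc)
    exact ⟨c⁻¹ • a, c • b, by simp [hc, c0], fun u w => by simp [hab, smul_tmul', smul_smul, c0]⟩
  have i0 : ∀ u u' w w', β.B (a u) (a u') * ω.B (b w) (b w') = β.B u u' * ω.B w w' := fun u u' w w' => by
    rw [← h.B, ← h.B, ← hab, ← hab, h.B_map hg]
  have i1 : ∀ w w', ω.B (b w) (b w') = ω.B w w' := fun w w' =>
    mul_left_cancel₀ (quad_B_ne_zero h2 hv) (by simpa [ha] using i0 v v w w')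
  obtain ⟨w₁, w1⟩ := h.nω.exists_ne_zero w0
  have i2 : ∀ u u', β.B (a u) (a u') = β.B u u' := fun u u' =>
    mul_right_cancel₀ w1 (by simpa [i1] using i0 u u' w₀ w₁)
  obtain ⟨m, hm⟩ := hn
  obtain ⟨ψ, hψ⟩ := exists_dual_one (F := F) v0
  obtain ⟨e, e0, e1⟩ : ∃ e, e ≠ 0 ∧ b e = e := by
    by_contra! H
    have : ∀ (m : ℕ) w, (((g : U ⊗[F] W →ₗ[F] U ⊗[F] W) - 1) ^ m) (v ⊗ₜ w) = 0 → w = 0 := fun m => by
      induction m with
      | zero => intro w hw; simpa [hψ] using congrArg (ctl W ψ) hw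
      | succ m ih =>
        intro w hw
        by_contra h3
        exact H w h3 (sub_eq_zero.1 (ih _ (by simpa [pow_succ, hab, ha, tmul_sub] using hw)))
    exact w0 (this m w₀ (by simp [hm]))
  have a1 := eq_of_nil h.nβ h2 hU i2 hv ha (by
    have : ∀ (m : ℕ) u, (((g : U ⊗[F] W →ₗ[F] U ⊗[F] W) - 1) ^ m) (u ⊗ₜ e) = ((a - 1) ^ m) u ⊗ₜ e := fun m => by
      induction m with
      | zero => simp
      | succ m ih => intro u; simp [pow_succ, hab, e1, ih, sub_tmul]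
    exact ⟨m, LinearMap.ext fun u => cu_injective (F := F) e0 (by simp [← this, hm])⟩)
  exact ⟨b, fun u w => by rw [hab, a1]⟩

omit hd in
theorem not_sw {v : U} (hv : β.Q v ≠ 0) (hs : sv W β v ∈ X) (hg : g ∈ X) : ¬ Sw (g * sv W β v * g⁻¹) := by
  rintro ⟨φ, ψ, hy⟩
  have := Module.nontrivial_of_finrank_pos (R := F) (M := U ⊗[F] W) (by rw [finrank_tensorProduct, hU, hW]; omega)
  obtain ⟨p, hp⟩ := CharP.exists F
  have := Fact.mk (CharP.char_is_prime F p)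
  obtain ⟨y, y0⟩ : ∃ y, y = g * sv W β v * g⁻¹ := ⟨_, rfl⟩
  have y1 : y ∈ X := y0 ▸ mul_mem (mul_mem hg hs) (inv_mem hg)
  have y2 : y * y = 1 := by rw [y0, conj_mul, sv_sv hv]; simp
  rw [← y0] at hy
  have v0 : v ≠ 0 := by rintro rfl; simp at hv
  obtain ⟨e, f, hf⟩ := Quad.exists_isHyp h.nω hW.ge
  obtain ⟨w, hw⟩ := exists_fr_of_hyp h.nω hW hf
  obtain ⟨c, c1, c2⟩ : ∃ c : F, c * c = 1 ∧ ∀ x, φ (ψ x) = c • x := by
    obtain ⟨θ, hθ⟩ := exists_dual_one (F := F) (ψ.map_ne_zero_iff.2 (φ.map_ne_zero_iff.2 v0))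
    have c2 : ∀ x, φ (ψ x) = θ v • x := fun x => by simpa [hy, hθ] using congrArg (fun g => ctl W θ (g (v ⊗ₜ x))) y2
    refine ⟨_, smul_left_injective F (tmul_ne_zero (F := F) (ψ.map_ne_zero_iff.2 hf.e_ne_zero) hf.e_ne_zero) ?_, c2⟩
    simpa [hy, c2, smul_tmul', smul_smul] using congrArg (· (ψ e ⊗ₜ e)) y2
  have ext : ∀ {z}, (∀ x x', D.B z (ψ x ⊗ₜ x') = 0) → z = 0 := fun {z} H => h.nD z fun t => by
    induction t with
    | zero => simp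
    | tmul u x => rw [← ψ.apply_symm_apply u, H]
    | add a b ha hb => rw [map_add, ha, hb, add_zero]
  obtain ⟨z₀, z0⟩ := h.nD.exists_rep (TensorProduct.lift (ω.B ∘ₗ ψ.symm))
  have key : ∀ {e z d} (hd : ω.IsEich e z d), ∃ k ∈ X, ∃ b : W →ₗ[F] W, (∀ x x', k (ψ x ⊗ₜ x') =
      ψ ((ω.eich e z d hd).1 x) ⊗ₜ (ω.eich e z d hd).1 x') ∧ k z₀ = z₀ ∧ ∀ u x, k (g (u ⊗ₜ x)) = g (u ⊗ₜ b x) := by
    intro e z d hd
    obtain ⟨r, hr⟩ : ∃ r, r = rt U ω (ω.eich e z d hd) := ⟨_, rfl⟩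
    have r1 : r ∈ X := hr ▸ h.eich_mem hd
    have r2 : r ^ p = 1 := hr ▸ pow_of_cube h2 (rt_cube hd)
    have r3 : Commute (y * r * y⁻¹) r := fc_comm (fc_sw (i := false) ⟨φ, ψ, hy⟩ (mem_right.2 ⟨_, hr ▸ rt_tmul _⟩))
      (mem_right.2 ⟨_, hr ▸ rt_tmul _⟩)
    have r4 := mul_mem (mul_mem (mul_mem y1 r1) (inv_mem y1)) r1
    have r5 : ∀ x x', (y * r * y⁻¹ * r) (ψ x ⊗ₜ x') = ψ ((ω.eich e z d hd).1 x) ⊗ₜ (ω.eich e z d hd).1 x' := fun x x' => by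
      simp [inv_eq_of_mul_eq_one_right y2, hr, rt_tmul, hy, c2, smul_tmul', smul_smul, c1]
    obtain ⟨b, hb⟩ := right_of_nil h2 hU hW h hI hS hv (mul_mem (mul_mem (inv_mem hg) r4) hg) (by
      have : y * r * y⁻¹ * r * y = y * (y * r * y⁻¹ * r) := by
        have y3 := inv_eq_of_mul_eq_one_right y2
        calc _ = y * (r * (y * r * y⁻¹)) := by rw [y3]; group
          _ = _ := by rw [← r3.eq]
      generalize y * r * y⁻¹ * r = k at this
      calc _ = g⁻¹ * (k * y) * g := by rw [y0]; group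
        _ = _ := by rw [this, y0]; group) (nil_of_pow (p := p) (n := 1) (by
      rw [pow_one, ← inv_inv g, inv_inv g⁻¹, conj_pow, r3.mul_pow, conj_pow, r2]; simp))
    refine ⟨_, r4, b, r5, sub_eq_zero.1 (ext fun x x' => ?_), fun u x => by rw [← hb]; simp [lin_apply_inv]⟩
    obtain ⟨x, rfl⟩ := (ω.eich e z d hd).1.surjective x
    obtain ⟨x', rfl⟩ := (ω.eich e z d hd).1.surjective x'
    rw [D.B_sub_left, ← r5, h.B_map r4, r5, z0, z0]
    simp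
  obtain ⟨k₁, k1, b₁, k2, k3, k4⟩ := key (isEich_quad hf.Q_e hw.ew)
  obtain ⟨k₂, l1, b₂, l2, l3, l4⟩ := key (isEich_quad hf.Q_f hw.fw)
  obtain ⟨θ, hθ⟩ : ∃ θ, ctl W θ (g⁻¹ z₀) ≠ 0 := by
    by_contra! H
    have h3 : g⁻¹ z₀ = 0 := eq_zero_of_ctr fun χ => (forall_dual_apply_eq_zero_iff F _).1 fun θ => by
      rw [← ctl_ctr, H, map_zero]
    simpa [(g⁻¹).map_eq_zero_iff.1 h3, hf.B_ef] using z0 (ψ e ⊗ₜ f)
  have k5 : ∀ {k : U ⊗[F] W ≃ₗ[F] U ⊗[F] W} {b : W →ₗ[F] W}, k z₀ = z₀ → (∀ u x, k (g (u ⊗ₜ x)) = g (u ⊗ₜ b x)) →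
      b (ctl W θ (g⁻¹ z₀)) = ctl W θ (g⁻¹ z₀) := fun {k b} h1 h3 => by
    have : ∀ t, b (ctl W θ t) = ctl W θ (g⁻¹ (k (g t))) := fun t => by
      induction t with
      | zero => simp
      | tmul u x => simp [h3, lin_inv_apply]
      | add a b ha hb => simp only [map_add, ha, hb]
    rw [this, lin_apply_inv, h1]
  generalize ctl W θ (g⁻¹ z₀) = x₀ at hθ k5
  obtain ⟨u, u0, hu⟩ : ∃ u, u ≠ 0 ∧ sv W β v (u ⊗ₜ x₀) = -c • u ⊗ₜ x₀ := by
    rcases mul_self_eq_one_iff.1 c1 with rfl | rfl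
    · obtain ⟨u, u1, u2⟩ := h.nβ.exists_perp_Q_eq hU.ge hv 1
      exact ⟨u, by rintro rfl; simp at u2, by simp [sv_tmul, u1, neg_tmul]⟩
    · exact ⟨v, v0, by simp [sv_self hv]⟩
  obtain ⟨γ, hγ⟩ : ∃ γ : W →ₗ[F] W →ₗ[F] F, ∀ x x', γ x x' = D.B (g (u ⊗ₜ x₀)) (ψ x ⊗ₜ x') :=
    ⟨(mk F U W ∘ₗ ψ).compr₂ (D.B (g (u ⊗ₜ x₀))), fun _ _ => rfl⟩
  have g1 : ∀ x x', γ x x' = -γ x' x := fun x x' => by
    rw [hγ, hγ, ← h.B_map y1, hy, c2, y0]
    simp only [LinearEquiv.mul_apply, lin_inv_apply, hu, map_smul, tmul_smul, D.B_lin, RingHom.id_apply,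
      LinearMap.smul_apply, smul_eq_mul]
    linear_combination (-D.B (g (u ⊗ₜ x₀)) (ψ x' ⊗ₜ x)) * c1
  have g0 : ∀ x, γ x x = 0 := fun x => (mul_eq_zero.1 (by linear_combination g1 x x)).resolve_left h2
  have g2 := fun x x' => (h.B_map k1 (g (u ⊗ₜ x₀)) (ψ x ⊗ₜ x'))
  have g3 := fun x x' => (h.B_map l1 (g (u ⊗ₜ x₀)) (ψ x ⊗ₜ x'))
  simp only [k2, l2, k4, l4, k5 k3 k4, k5 l3 l4, ← hγ] at g2 g3
  have j1 := g2 e f
  have j2 := g2 w f
  have j3 := g3 f e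
  simp only [eich_apply, hw.tab, map_add, map_sub, map_smul, LinearMap.add_apply, LinearMap.sub_apply,
    LinearMap.smul_apply, g0, smul_eq_mul, quadKind_ε, g1 w e, g1 f e, g1 f w] at j1 j2 j3
  have j4 : γ e w = 0 := by linear_combination -j1
  have j5 : γ w f = 0 := by linear_combination j3
  have j6 : γ e f = 0 := (mul_eq_zero.1 (show 2 * ω.Q w * γ e f = 0 by
    linear_combination j2 + ω.Q w * j4)).resolve_left (mul_ne_zero h2 hw.ns)
  refine tmul_ne_zero u0 hθ (g.map_eq_zero_iff.1 (ext fun x x' => ?_))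
  obtain ⟨a, b, c, rfl⟩ := hw.dec x
  obtain ⟨a', b', c', rfl⟩ := hw.dec x'
  rw [← hγ]
  simp [g0, g1 w e, g1 f e, g1 f w, j4, j5, j6]

theorem le3 (hA : ∀ a ∈ commutator β.isom, congr a.1 1 ∈ X) {s : U ⊗[F] W ≃ₗ[F] U ⊗[F] W} (hs : s ∈ X) (h1 : Sw s) :
    X ≤ NW F U W := fun g hg => by
  have : Finite (U ⊗[F] W) := Module.finite_of_finite F
  have : Finite (U ⊗[F] W ≃ₗ[F] U ⊗[F] W) := Finite.of_injective _ DFunLike.coe_injective
  have k0 : ∀ v, sv W β v ∈ Fc F U W true := fun v => mem_left.2 ⟨_, fun _ _ => rfl⟩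
  have k1 : ∀ v, β.Q v ≠ 0 → ∃ v' t, β.Q v' ≠ 0 ∧ β.Q t ≠ 0 ∧ sv W β v' * sv W β v = sv W β t ∧ sv W β t ∈ X := fun v hv => by
    obtain ⟨v', v1, v2⟩ := h.nβ.exists_perp_Q_eq hU.ge hv (β.Q v)
    obtain ⟨t, t1, t2⟩ := exists_third (W := W) h.nβ h2 hU (v2 ▸ hv) hv (β.eq_zero_symm v1)
    refine ⟨v', t, v2 ▸ hv, t1, t2, ?_⟩
    convert hA _ (h.nβ.refl_mul_refl_mem_commutator (v := v') (w := v) (v2 ▸ hv) one_ne_zero (by simp [v2])) using 1
    rw [← t2]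
    exact LinearEquiv.toLinearMap_injective (TensorProduct.ext' fun u w => by simp [sv])
  have k2 : ∀ {i} {k : X}, k.1 ∈ Fc F U W i ↔ (⟨s, hs⟩ * k * (⟨s, hs⟩ : X)⁻¹).1 ∈ Fc F U W (!i) :=
    ⟨fc_sw h1, fun H => by simpa [mul_assoc] using fc_sw h1.inv H⟩
  have sl : Sl ((NW F U W).subgroupOf X) fun i => (Fc F U W i).subgroupOf X := Sl.of_base true
    (fun i k hk => Or.inl (fc_le i hk)) (fun i j hij a ha b hb => Subtype.ext (by
      cases i <;> cases j <;> simp only [ne_eq, not_true_eq_false] at hij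
      exacts [(fc_comm hb ha).symm, fc_comm ha hb]))
    (fun m hm i => hm.elim (fun hm => ⟨i, fun a ha => fc_tens hm ha⟩) fun hm => ⟨!i, fun a ha => fc_sw hm ha⟩)
    (fun i => by
      cases i
      exacts [⟨⟨s, hs⟩, Or.inr h1, fun a => k2⟩, ⟨1, one_mem _, by simp⟩])
    (fun a ha H => Subtype.ext (cen_left h2 hU hW h hd (fun a ha => hA a (h.nβ.E_le_commutator
      (good_of_two_ne_zero h2) ha)) a.2 ha fun k hk k1 => congrArg Subtype.val (H ⟨k, hk⟩ k1)))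
    (fun ⟨t, ht⟩ H => by
      obtain ⟨v, hv, rfl⟩ := exists_sv h2 hU hW h hd ht H.mem (congrArg Subtype.val H.sq) fun h => H.ne (Subtype.ext h)
      obtain ⟨v', t, v1, t1, t2, t3⟩ := k1 v hv
      refine ⟨⟨_, (X.mul_mem_cancel_right ht).1 (t2 ▸ t3)⟩, ⟨k0 v', Subtype.ext (sv_sv v1), fun h =>
        sv_ne_one h2 hW v1 (by omega) (congrArg Subtype.val h)⟩, fun h => sv_ne_one h2 hW t1 (by omega) ?_, Subtype.ext ?_⟩
      · rw [← t2, show sv W β v' = sv W β v from congrArg Subtype.val h, sv_sv hv]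
      · change sv W β v' * sv W β v = sv W β v * sv W β v'
        rw [← inv_eq_of_mul_eq_one_right (t2 ▸ sv_sv t1 : sv W β v' * sv W β v * (sv W β v' * sv W β v) = 1), mul_inv_rev,
          inv_eq_of_mul_eq_one_right (sv_sv hv), inv_eq_of_mul_eq_one_right (sv_sv v1)])
    fun ⟨t, ht⟩ H ⟨g, hg⟩ H' => by
      obtain ⟨v, hv, rfl⟩ := exists_sv h2 hU hW h hd ht H.mem (congrArg Subtype.val H.sq) fun h => H.ne (Subtype.ext h)
      have k3 : ∀ g ∈ X, g * sv W β v * g⁻¹ ∈ Fc F U W true → g ∈ NW F U W := fun g hg H => by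
        obtain ⟨t, t1, t2⟩ := exists_sv h2 hU hW h hd (mul_mem (mul_mem hg ht) (inv_mem hg)) H (by
          rw [conj_mul, sv_sv hv]; simp) (by simpa using sv_ne_one h2 hW hv (by omega))
        exact Or.inl (mem_of_sv h h2 hU hW hI hS hv t1 hg (by rw [← t2]; group))
      obtain ⟨i, hi⟩ := fc_of_inv h2 hU hW (H'.resolve_right (not_sw h2 hU hW h hI hS hv ht hg)) (by
        change g * _ * g⁻¹ * (g * _ * g⁻¹) = 1
        rw [conj_mul, sv_sv hv]; simp) (by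
        rw [← hW, ← rk_sv h2 hv, ← rk_cj g ((sv W β v : U ⊗[F] W →ₗ[F] U ⊗[F] W) + 1)]
        exact congrArg rk (LinearMap.ext fun x => by simp [lin_apply_inv]))
      cases i
      · exact ((NW F U W).mul_mem_cancel_left (Or.inr h1)).1 (k3 _ (mul_mem hs hg) (by
          simpa [mul_assoc] using fc_sw h1 hi))
      · exact k3 g hg hi
  have := Module.nontrivial_of_finrank_pos (R := F) (M := U) (by omega)
  obtain ⟨v, hv⟩ := h.nβ.exists_Q_ne_zero ⟨1, one_ne_zero⟩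
  obtain ⟨-, t, -, t1, -, t3⟩ := k1 v hv
  have iv : Iv (fun i => (Fc F U W i).subgroupOf X) true ⟨_, t3⟩ := ⟨k0 t, Subtype.ext (sv_sv t1), fun h =>
    sv_ne_one h2 hW t1 (by omega) (congrArg Subtype.val h)⟩
  exact sl.mem (i := true) (j := false) (by decide) iv (iv.conj (m := ⟨s, hs⟩) (fc_sw h1 (k0 t))) ⟨g, hg⟩

end Cfsg.Lib.Forms.TF.O3
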